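import Mathlib
import Groth.Agent.WiebeLib.Koszul

/-!
# Elementary facts on exactness of Koszul complexes

Change of generators by an invertible matrix, concatenation of sequences, faithfully flat descent and
the variables of a polynomial ring.
-/

set_option autoImplicit false
set_option linter.style.haveILetI false
set_option backward.isDefEq.respectTransparency false

universe u

open Groth.Agent.WiebeLib TensorProduct

namespace Groth.Agent.KRegLib

variable {R : Type u} [CommRing R]

section matrix

theorem eta_anticomm {n : ℕ} (u v : Fin n → R) (k : ℕ) (x : Ko R n k) :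
    eta n u (k + 1) (eta n v k x) = -eta n v (k + 1) (eta n u k x) := by
  have h := eta_eta n (u + v) k x
  simp only [prodRows.eta_add, LinearMap.add_apply, map_add, eta_eta, add_zero, zero_add] at h
  exact eq_neg_of_add_eq_zero_left ((add_comm _ _).trans h)

theorem eta_zero_vec {n : ℕ} (k : ℕ) : eta n (0 : Fin n → R) k = 0 := by
  have h := prodRows.eta_smul (R := R) (n := n) (k := k) (c := 0) (v := 0)
  rwa [zero_smul, zero_smul] at h

/-- The vector `v` transported by the matrix `C`. -/
def vecMul {m n : ℕ} (v : Fin m → R) (C : Fin m → Fin n → R) : Fin n → R := ∑ i, v i • C i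

theorem vecMul_succ {m n : ℕ} (v : Fin (m + 1) → R) (C : Fin (m + 1) → Fin n → R) :
    vecMul v C = v 0 • C 0 + vecMul (fun i => v i.succ) (fun i => C i.succ) := Fin.sum_univ_succ _

theorem U_eta {n : ℕ} : ∀ (m : ℕ) (C : Fin m → Fin n → R) (v : Fin m → R) (k : ℕ) (x : Ko R m k),
    U m C (k + 1) (eta m v k x) = eta n (vecMul v C) k (U m C k x)
  | 0, C, v, k, x => by
    rw [show vecMul v C = 0 from Finset.sum_empty, eta_zero_vec]
    simp [U]
  | m + 1, C, v, 0, x => by
    let x' : Ko R m 0 := x
    let C' : Fin m → Fin n → R := fun i => C i.succ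
    rw [vecMul_succ, prodRows.eta_add, prodRows.eta_smul, LinearMap.add_apply, LinearMap.smul_apply]
    show U m C' 1 (eta m (fun i => v i.succ) 0 x') + eta n (C 0) 0 (U m C' 0 (v 0 • x')) =
      v 0 • eta n (C 0) 0 (U m C' 0 x') + eta n (vecMul (fun i => v i.succ) C') 0 (U m C' 0 x')
    rw [U_eta m C' _ 0, map_smul, map_smul]
    exact add_comm _ _
  | m + 1, C, v, k + 1, x => by
    rw [vecMul_succ, prodRows.eta_add, prodRows.eta_smul, LinearMap.add_apply, LinearMap.smul_apply]
    simp only [U, eta, LinearMap.add_apply, LinearMap.coe_comp, Function.comp_apply, fst_pair, snd_pair,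
      LinearMap.sub_apply, LinearMap.smul_apply, map_sub, map_smul, map_add, eta_eta]
    rw [U_eta m _ _ (k + 1), U_eta m _ _ k, eta_anticomm (C 0)]
    module

/-- The product of matrices. -/
def matMul {m n p : ℕ} (C : Fin m → Fin n → R) (C' : Fin n → Fin p → R) : Fin m → Fin p → R :=
  fun i => vecMul (C i) C'

theorem U_comp {n p : ℕ} (C' : Fin n → Fin p → R) : ∀ (m : ℕ) (C : Fin m → Fin n → R) (k : ℕ) (x : Ko R m k),
    U n C' k (U m C k x) = U m (matMul C C') k x
  | m, C, 0, x => by rw [U_zero_apply, U_zero_apply, U_zero_apply, LinearEquiv.apply_symm_apply]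
  | 0, C, k + 1, x => by simp [U]
  | m + 1, C, k + 1, x => by
    simp only [U, LinearMap.add_apply, LinearMap.coe_comp, Function.comp_apply, map_add]
    rw [U_comp C' m _ (k + 1), U_eta, U_comp C' m _ k]
    rfl

theorem U_cons_zero {n : ℕ} : ∀ (m : ℕ) (D : Fin m → Fin n → R) (k : ℕ) (x : Ko R m k),
    U m (fun i => (Fin.cons 0 (D i) : Fin (n + 1) → R)) k x = emb n k (U m D k x)
  | m, D, 0, x => by
    rw [U_zero_apply, U_zero_apply]
    rfl
  | 0, D, k + 1, x => by simp [U]
  | m + 1, D, k + 1, x => by
    simp only [U, LinearMap.add_apply, LinearMap.coe_comp, Function.comp_apply, map_add]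
    rw [U_cons_zero m _ (k + 1), U_cons_zero m _ k, eta_emb]

theorem eta_single_zero_emb {n : ℕ} (k : ℕ) (b : Ko R n k) :
    eta (n + 1) (Pi.single 0 1) k (emb n k b) = Sum.elim (0 : Ko R n (k + 1)) b := by
  have h0 : (fun i : Fin n => (Pi.single 0 1 : Fin (n + 1) → R) i.succ) = 0 := funext fun i => by simp
  apply ko_ext
  · cases k with
    | zero =>
      simp only [eta, emb, fst_pair, h0, eta_zero_vec, LinearMap.zero_apply]
      rfl
    | succ k =>
      simp only [eta, emb, fst_pair, LinearMap.coe_comp, Function.comp_apply, LinearMap.id_apply, h0,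
        eta_zero_vec, LinearMap.zero_apply]
      rfl
  · cases k with
    | zero => simp [eta, emb]; rfl
    | succ k => simp [eta, emb, h0, eta_zero_vec]; rfl

theorem U_one : ∀ (n k : ℕ) (x : Ko R n k), U n (fun i => (Pi.single i 1 : Fin n → R)) k x = x
  | n, 0, x => by rw [U_zero_apply, LinearEquiv.symm_apply_apply]
  | 0, k + 1, x => haveI := subsingleton_ko R (Nat.succ_pos k); Subsingleton.elim _ _
  | n + 1, k + 1, x => by
    have h : (fun i : Fin n => (Pi.single i.succ 1 : Fin (n + 1) → R)) =
        fun i => Fin.cons 0 (Pi.single i 1 : Fin n → R) := funext fun i => funext fun j => by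
      induction j using Fin.cases with
      | zero => simp [Pi.single_apply, (Fin.succ_ne_zero i).symm]
      | succ j => simp [Pi.single_apply]
    simp only [U, LinearMap.add_apply, LinearMap.coe_comp, Function.comp_apply]
    rw [h, U_cons_zero, U_cons_zero, U_one n, U_one n, eta_single_zero_emb]
    funext i
    cases i with
    | inl i => show x (Sum.inl i) + 0 = x (Sum.inl i); rw [add_zero]
    | inr i => show 0 + x (Sum.inr i) = x (Sum.inr i); rw [zero_add]

/-- Koszul exactness is invariant under an invertible change of generators. -/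
theorem isExact_of_matrix {m n : ℕ} {f : Fin m → R} {g : Fin n → R} (hf : IsExact f)
    (C : Fin m → Fin n → R) (C' : Fin n → Fin m → R) (hfg : ∀ i, f i = ∑ j, C i j * g j)
    (h1 : matMul C' C = fun i => Pi.single i 1) (h2 : matMul C C' = fun i => Pi.single i 1) : IsExact g := by
  intro k x hx
  have hf' : f = fun i => ∑ j, C i j * g j := funext hfg
  let x' := U n C' (k + 1) x
  have hUx : U m C (k + 1) x' = x := by rw [U_comp, h1, U_one]
  have hinj : ∀ z, U m C k z = 0 → z = 0 := fun z hz => by
    rw [← U_one m k z, ← h2, ← U_comp, hz, map_zero]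
  obtain ⟨y, hy⟩ := hf k x' (hinj _ (by rw [hf', ← d_U, hUx, hx]))
  refine ⟨U m C (k + 1 + 1) y, ?_⟩
  rw [d_U, ← hf', hy, hUx]

/-- Koszul exactness is invariant under an invertible square change of generators. -/
theorem isExact_of_isUnit_det {n : ℕ} {f g : Fin n → R} (hf : IsExact f) (C : Matrix (Fin n) (Fin n) R)
    (hC : IsUnit C.det) (hfg : ∀ i, f i = ∑ j, C i j * g j) : IsExact g := by
  have key : ∀ A B : Matrix (Fin n) (Fin n) R, A * B = 1 →
      matMul (fun i j => A i j) (fun i j => B i j) = fun i => Pi.single i 1 := fun A B h => by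
    funext i j
    rw [matMul, vecMul, Finset.sum_apply]
    have := congrFun (congrFun h i) j
    rw [Matrix.mul_apply, Matrix.one_apply] at this
    simp only [Pi.smul_apply, smul_eq_mul, Pi.single_apply]
    rw [this]
    simp [eq_comm]
  exact isExact_of_matrix hf (fun i j => C i j) (fun i j => C⁻¹ i j) hfg (key _ _ (Matrix.nonsing_inv_mul C hC))
    (key _ _ (Matrix.mul_nonsing_inv C hC))

end matrix

section append

variable {S : Type u} [CommRing S] {r : ℕ} (f : Fin r → R) (q : R →+* S)

/-- `g` followed by `f`. -/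
def appendSeq : ∀ m : ℕ, (Fin m → R) → Fin (r + m) → R
  | 0, _ => f
  | m + 1, g => Fin.cons (g 0) (appendSeq m fun i => g i.succ)

theorem span_appendSeq : ∀ (m : ℕ) (g : Fin m → R),
    Ideal.span (Set.range (appendSeq f m g)) = Ideal.span (Set.range f) ⊔ Ideal.span (Set.range g)
  | 0, g => by
    show Ideal.span (Set.range f) = _
    simp [Set.range_eq_empty]
  | m + 1, g => by
    have hg : Set.range g = insert (g 0) (Set.range fun i : Fin m => g i.succ) := by
      conv_lhs => rw [← Fin.cons_self_tail g, Fin.range_cons]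
      rfl
    show Ideal.span (Set.range (Fin.cons (g 0) (appendSeq f m fun i => g i.succ) : Fin (r + m + 1) → R)) = _
    rw [Fin.range_cons, Ideal.span_insert, span_appendSeq m, hg, Ideal.span_insert, sup_left_comm]

theorem appendSeq_succ (m : ℕ) (g : Fin (m + 1) → R) (i : Fin (r + m)) :
    appendSeq f (m + 1) g i.succ = appendSeq f m (fun i => g i.succ) i := rfl

/-- The projection to the Koszul complex over the quotient. -/
def proj : ∀ (m k : ℕ), Ko R (r + m) k → Ko S m k
  | 0, 0, x => fun _ => q (base r x)
  | 0, _ + 1, _ => 0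
  | m + 1, 0, x => proj m 0 x
  | m + 1, k + 1, x => Sum.elim (proj m (k + 1) (fstL (r + m) k x)) (proj m k (sndL (r + m) k x))

theorem proj_add : ∀ (m k : ℕ) (x y : Ko R (r + m) k), proj q m k (x + y) = proj q m k x + proj q m k y
  | 0, 0, x, y => funext fun _ => by
    show q (base r _) = q (base r _) + q (base r _)
    rw [map_add, map_add]
  | 0, _ + 1, _, _ => (add_zero 0).symm
  | m + 1, 0, x, y => proj_add m 0 x y
  | m + 1, k + 1, x, y => by
    show Sum.elim (proj q m (k + 1) (fstL (r + m) k (x + y))) (proj q m k (sndL (r + m) k (x + y))) = _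
    rw [map_add, map_add, proj_add m (k + 1), proj_add m k]
    funext i
    cases i <;> rfl

theorem proj_smul : ∀ (m k : ℕ) (c : R) (x : Ko R (r + m) k), proj q m k (c • x) = q c • proj q m k x
  | 0, 0, c, x => funext fun _ => by
    show q (base r _) = q c • q (base r _)
    rw [map_smul, smul_eq_mul, smul_eq_mul, map_mul]
  | 0, _ + 1, _, _ => (smul_zero _).symm
  | m + 1, 0, c, x => proj_smul m 0 c x
  | m + 1, k + 1, c, x => by
    show Sum.elim (proj q m (k + 1) (fstL (r + m) k (c • x))) (proj q m k (sndL (r + m) k (c • x))) = _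
    rw [map_smul, map_smul, proj_smul m (k + 1), proj_smul m k]
    funext i
    cases i <;> rfl

theorem proj_zero (m k : ℕ) : proj q m k (0 : Ko R (r + m) k) = 0 := by
  have := proj_smul q m k 0 (0 : Ko R (r + m) k)
  rwa [zero_smul, map_zero, zero_smul] at this

theorem proj_neg (m k : ℕ) (x : Ko R (r + m) k) : proj q m k (-x) = -proj q m k x := by
  rw [← neg_one_smul R x, proj_smul, map_neg, map_one, neg_one_smul]

theorem proj_sub (m k : ℕ) (x y : Ko R (r + m) k) : proj q m k (x - y) = proj q m k x - proj q m k y := by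
  rw [sub_eq_add_neg, proj_add, proj_neg, ← sub_eq_add_neg]

theorem proj_surjective (hq : Function.Surjective q) : ∀ (m k : ℕ), Function.Surjective (proj (r := r) q m k)
  | 0, 0, z => by
    obtain ⟨a, ha⟩ := hq (z ())
    refine ⟨(base r).symm a, funext fun u => ?_⟩
    show q (base r ((base r).symm a)) = z u
    rw [LinearEquiv.apply_symm_apply, ha]
    rfl
  | 0, k + 1, z => haveI := subsingleton_ko S (Nat.succ_pos k); ⟨0, Subsingleton.elim _ _⟩
  | m + 1, 0, z => proj_surjective hq m 0 z
  | m + 1, k + 1, z => by
    obtain ⟨a, ha⟩ := proj_surjective hq m (k + 1) (fun i => z (Sum.inl i))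
    obtain ⟨b, hb⟩ := proj_surjective hq m k (fun i => z (Sum.inr i))
    refine ⟨Sum.elim a b, ?_⟩
    show Sum.elim (proj q m (k + 1) a) (proj q m k b) = z
    rw [ha, hb]
    funext i
    cases i <;> rfl

variable {f q}

theorem proj_d (hker : RingHom.ker q = Ideal.span (Set.range f)) :
    ∀ (m : ℕ) (g : Fin m → R) (k : ℕ) (x : Ko R (r + m) (k + 1)),
      proj q m k (d (r + m) (appendSeq f m g) k x) = d m (fun i => q (g i)) k (proj q m (k + 1) x)
  | 0, g, 0, x => funext fun _ => by
    show q (base r (d r f 0 x)) = (0 : S)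
    rw [← RingHom.mem_ker, hker]
    exact base_apply_mem fun i => d_mem _ _ _ _ _
  | 0, g, k + 1, x => rfl
  | m + 1, g, 0, x => by
    show proj q m 0 (d (r + m) (appendSeq f m fun i => g i.succ) 0 (fstL (r + m) 0 x) +
      g 0 • sndL (r + m) 0 x) = _
    rw [proj_add, proj_smul, proj_d hker m _ 0]
    rfl
  | m + 1, g, k + 1, x => by
    show Sum.elim
        (proj q m (k + 1) (d (r + m) (appendSeq f m fun i => g i.succ) (k + 1) (fstL (r + m) (k + 1) x) +
          g 0 • sndL (r + m) (k + 1) x))
        (proj q m k (-(d (r + m) (appendSeq f m fun i => g i.succ) k (sndL (r + m) (k + 1) x)))) = _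
    rw [proj_add, proj_smul, proj_neg, proj_d hker m _ (k + 1), proj_d hker m _ k]
    funext i
    cases i <;> rfl

/-- The kernel of the projection is exact in degree zero. -/
theorem exists_proj_zero (hker : RingHom.ker q = Ideal.span (Set.range f)) :
    ∀ (m : ℕ) (g : Fin m → R) (x : Ko R (r + m) 0), proj q m 0 x = 0 →
      ∃ y, proj q m 1 y = 0 ∧ d (r + m) (appendSeq f m g) 0 y = x
  | 0, g, x, hx => by
    have hb : base r x ∈ Ideal.span (Set.range f) := by
      rw [← hker]
      exact congrFun hx ()
    obtain ⟨y, hy⟩ := (mem_range_d_zero f x).2 hb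
    exact ⟨y, rfl, hy⟩
  | m + 1, g, x, hx => by
    obtain ⟨y, hy, hyx⟩ := exists_proj_zero hker m (fun i => g i.succ) x hx
    refine ⟨Sum.elim y (0 : Ko R (r + m) 0), ?_, ?_⟩
    · show Sum.elim (proj q m 1 y) (proj q m 0 0) = 0
      rw [hy, proj_zero]
      funext i
      cases i <;> rfl
    · show d (r + m) (appendSeq f m fun i => g i.succ) 0 y + g 0 • (0 : Ko R (r + m) 0) = x
      rw [smul_zero, add_zero, hyx]

/-- The kernel of the projection is exact in positive degrees. -/
theorem exists_proj_succ (hf : IsExact f) (hker : RingHom.ker q = Ideal.span (Set.range f)) :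
    ∀ (m : ℕ) (g : Fin m → R) (k : ℕ) (x : Ko R (r + m) (k + 1)), proj q m (k + 1) x = 0 →
      d (r + m) (appendSeq f m g) k x = 0 →
      ∃ y, proj q m (k + 1 + 1) y = 0 ∧ d (r + m) (appendSeq f m g) (k + 1) y = x
  | 0, g, k, x, _, hd => by
    obtain ⟨y, hy⟩ := hf k x hd
    exact ⟨y, rfl, hy⟩
  | m + 1, g, k, x, hx, hd => by
    let F := appendSeq f m fun i => g i.succ
    let a := fstL (r + m) k x
    let b := sndL (r + m) k x
    have ha : proj q m (k + 1) a = 0 := funext fun i => congrFun hx (Sum.inl i)
    have hb : proj q m k b = 0 := funext fun i => congrFun hx (Sum.inr i)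
    obtain ⟨c, hc, hcb, hd1⟩ : ∃ c, proj q m (k + 1) c = 0 ∧ d (r + m) F k c = b ∧
        d (r + m) F k a + g 0 • b = 0 := by
      cases k with
      | zero =>
        obtain ⟨c, hc, hcb⟩ := exists_proj_zero hker m (fun i => g i.succ) b hb
        exact ⟨c, hc, hcb, hd⟩
      | succ k =>
        have h2 : d (r + m) F k b = 0 := neg_eq_zero.1 (funext fun i => congrFun hd (Sum.inr i))
        obtain ⟨c, hc, hcb⟩ := exists_proj_succ hf hker m (fun i => g i.succ) k b hb h2
        exact ⟨c, hc, hcb, funext fun i => congrFun hd (Sum.inl i)⟩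
    obtain ⟨e, he, hea⟩ := exists_proj_succ hf hker m (fun i => g i.succ) k (a + g 0 • c)
      (by rw [proj_add, proj_smul, ha, hc, smul_zero, add_zero])
      (by rw [map_add, map_smul, hcb]; exact hd1)
    refine ⟨Sum.elim e (-c), ?_, ?_⟩
    · show Sum.elim (proj q m (k + 1 + 1) e) (proj q m (k + 1) (-c)) = 0
      rw [he, proj_neg, hc, neg_zero]
      funext i
      cases i <;> rfl
    · apply ko_ext
      · show d (r + m) F (k + 1) e + g 0 • (-c) = a
        rw [hea, smul_neg]
        abel
      · show -(d (r + m) F k (-c)) = b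
        rw [map_neg, neg_neg, hcb]

/-- A lift of a Koszul regular sequence of the quotient, followed by the sequence defining the quotient, is
Koszul regular. -/
theorem isExact_appendSeq (hf : IsExact f) (hq : Function.Surjective q)
    (hker : RingHom.ker q = Ideal.span (Set.range f)) {m : ℕ} (g : Fin m → R)
    (hg : IsExact fun i => q (g i)) : IsExact (appendSeq f m g) := by
  intro k x hx
  obtain ⟨z, hz⟩ := hg k (proj q m (k + 1) x) (by rw [← proj_d hker, hx, proj_zero])
  obtain ⟨y, hy0⟩ := proj_surjective q hq m (k + 1 + 1) z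
  rw [← hy0] at hz
  obtain ⟨w, -, hw⟩ := exists_proj_succ hf hker m g k (x - d (r + m) (appendSeq f m g) (k + 1) y)
    (by rw [proj_sub, proj_d hker, hz, sub_self])
    (by rw [map_sub, hx, d_d, sub_zero])
  exact ⟨w + y, by rw [map_add, hw, sub_add_cancel]⟩

/-- The converse to `isExact_appendSeq`. -/
theorem isExact_of_appendSeq (hf : IsExact f) (hq : Function.Surjective q)
    (hker : RingHom.ker q = Ideal.span (Set.range f)) {m : ℕ} (g : Fin m → R)
    (h : IsExact (appendSeq f m g)) : IsExact fun i => q (g i) := by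
  intro k z hz
  obtain ⟨x, hx0⟩ := proj_surjective q hq m (k + 1) z
  rw [← hx0] at hz ⊢
  let F := appendSeq f m g
  have h0 : proj q m k (d (r + m) F k x) = 0 := by rw [proj_d hker, hz]
  obtain ⟨y, hy, hyx⟩ : ∃ y, proj q m (k + 1) y = 0 ∧ d (r + m) F k y = d (r + m) F k x := by
    cases k with
    | zero => exact exists_proj_zero hker m g _ h0
    | succ k => exact exists_proj_succ hf hker m g k _ h0 (d_d _ _ _ _)
  obtain ⟨w, hw⟩ := h k (x - y) (by rw [map_sub, hyx, sub_self])
  exact ⟨proj q m (k + 1 + 1) w, by rw [← proj_d hker, hw, proj_sub, hy, sub_zero]⟩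

end append

section flat

/-- Exactness descends along faithfully flat maps. -/
theorem isExact_of_faithfullyFlat {S : Type u} [CommRing S] [Algebra R S] [Module.FaithfullyFlat R S] {n : ℕ}
    {f : Fin n → R} (h : IsExact fun i => algebraMap R S (f i)) : IsExact f := by
  classical
  let e := fun k => TensorProduct.piScalarRight R S S (Idx n k)
  have he : ∀ (k : ℕ) (t : S ⊗[R] Ko R n (k + 1)),
      e k ((d n f k).lTensor S t) = d n (fun i => algebraMap R S (f i)) k (e (k + 1) t) := by
    intro k t
    induction t using TensorProduct.induction_on with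
    | zero => simp
    | tmul c x =>
      have hh : ∀ (m : ℕ) (y : Ko R n m), e m (c ⊗ₜ y) = c • (fun i => algebraMap R S (y i)) := fun m y => by
        funext i
        simp [e, Algebra.smul_def, mul_comm c]
      rw [LinearMap.lTensor_tmul, hh, hh, map_smul, d_map]
    | add a b ha hb => simp only [map_add, ha, hb]
  intro k x hx
  have hex : Function.Exact ((d n f (k + 1)).lTensor S) ((d n f k).lTensor S) := fun t => by
    refine ⟨fun ht => ?_, ?_⟩
    · obtain ⟨y, hy⟩ := h k (e (k + 1) t) (by rw [← he, ht, map_zero])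
      refine ⟨(e (k + 1 + 1)).symm y, (e (k + 1)).injective ?_⟩
      rw [he, LinearEquiv.apply_symm_apply, hy]
    · rintro ⟨z, rfl⟩
      apply (e k).injective
      rw [he, he, d_d, map_zero]
  exact ((Module.FaithfullyFlat.lTensor_exact_iff_exact R S (d n f (k + 1)) (d n f k)).1 hex x).1 hx

/-- The kernel of the constant coefficient. -/
theorem ker_constantCoeff (n : ℕ) : RingHom.ker (MvPolynomial.constantCoeff : MvPolynomial (Fin n) R →+* R) =
    Ideal.span (Set.range MvPolynomial.X) := by
  refine le_antisymm (fun p hp => ?_) (Ideal.span_le.2 ?_)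
  · have key : ∀ p : MvPolynomial (Fin n) R,
        p - MvPolynomial.C (MvPolynomial.constantCoeff p) ∈ Ideal.span (Set.range MvPolynomial.X) := fun p => by
      induction p using MvPolynomial.induction_on with
      | C a => simp
      | add a b ha hb =>
        rw [map_add, map_add, add_sub_add_comm]
        exact add_mem ha hb
      | mul_X a i _ =>
        rw [map_mul, MvPolynomial.constantCoeff_X, mul_zero, map_zero, sub_zero]
        exact Ideal.mul_mem_left _ _ (Ideal.subset_span ⟨i, rfl⟩)
    have := key p
    rwa [(RingHom.mem_ker).1 hp, map_zero, sub_zero] at this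
  · rintro _ ⟨i, rfl⟩
    exact MvPolynomial.constantCoeff_X R i

/-- The variables of a polynomial ring form a Koszul regular sequence. -/
theorem isExact_X : ∀ n : ℕ, IsExact (fun i : Fin n => (MvPolynomial.X i : MvPolynomial (Fin n) R))
  | 0 => fun k x _ => haveI := subsingleton_ko (MvPolynomial (Fin 0) R) (Nat.succ_pos k)
      ⟨0, Subsingleton.elim _ _⟩
  | n + 1 => by
    let P := MvPolynomial (Fin n) R
    let f : Fin n → Polynomial P := fun i => algebraMap P (Polynomial P) (MvPolynomial.X i)
    have hf : IsExact f := isExact_map (isExact_X n)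
    let q : Polynomial P →+* Polynomial R := Polynomial.mapRingHom MvPolynomial.constantCoeff
    have hq : Function.Surjective q :=
      Polynomial.map_surjective _ fun a => ⟨MvPolynomial.C a, MvPolynomial.constantCoeff_C _ a⟩
    have hker : RingHom.ker q = Ideal.span (Set.range f) := by
      rw [Polynomial.ker_mapRingHom, ker_constantCoeff, Ideal.map_span,
        ← Set.range_comp]
      rfl
    have hg : IsExact fun i : Fin 1 => q ((fun _ => Polynomial.X) i) := by
      intro k x hx
      cases k with
      | zero =>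
        refine ⟨0, ?_⟩
        rw [map_zero]
        symm
        apply ko_ext
        · haveI := subsingleton_ko (Polynomial R) (Nat.succ_pos 0)
          exact Subsingleton.elim _ _
        · have h0 : d 0 (fun i : Fin 0 => q Polynomial.X) 0 (fstL 0 0 x) + q Polynomial.X • sndL 0 0 x = 0 := hx
          rw [Polynomial.coe_mapRingHom, Polynomial.map_X] at h0
          funext i
          have h1 := congrFun h0 i
          simp only [d, LinearMap.zero_apply, Pi.add_apply, Pi.zero_apply, Pi.smul_apply, smul_eq_mul, zero_add] at h1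
          exact Polynomial.isRegular_X.left.eq_iff.1 (h1.trans (mul_zero _).symm)
      | succ k =>
        haveI := subsingleton_ko (Polynomial R) (show 1 < k + 1 + 1 by omega)
        exact ⟨0, Subsingleton.elim _ _⟩
    have h := isExact_appendSeq hf hq hker (fun _ : Fin 1 => Polynomial.X) hg
    let e := (MvPolynomial.finSuccEquiv R n).symm.toRingEquiv
    intro k x hx
    have hX : (fun i : Fin (n + 1) => (MvPolynomial.X i : MvPolynomial (Fin (n + 1)) R)) =
        fun i => e.toRingHom (appendSeq f 1 (fun _ => Polynomial.X) i) := funext fun i => by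
      show _ = (MvPolynomial.finSuccEquiv R n).symm _
      rw [AlgEquiv.eq_symm_apply]
      induction i using Fin.cases with
      | zero => exact MvPolynomial.finSuccEquiv_X_zero
      | succ i => exact MvPolynomial.finSuccEquiv_X_succ
    letI := e.toRingHom.toAlgebra
    haveI : Module.Flat (Polynomial P) (MvPolynomial (Fin (n + 1)) R) := RingHom.Flat.of_bijective (f := e.toRingHom) e.bijective
    exact (hX ▸ isExact_map (S := MvPolynomial (Fin (n + 1)) R) h :
      IsExact fun i : Fin (n + 1) => (MvPolynomial.X i : MvPolynomial (Fin (n + 1)) R)) k x hx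

end flat

end Groth.Agent.KRegLib
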