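import Mathlib
import Groth.Agent.KRegLib.Elem
import Groth.Agent.KoszulFlatLib.OfExact
import Groth.Prelude.Def_LCI2

/-!
# Ideals generated by Koszul regular sequences near a prime

Ascent, composition, cancellation and descent along flat maps of finite presentation, without Noetherian
hypotheses.
-/

set_option autoImplicit false
set_option linter.style.haveILetI false
set_option backward.isDefEq.respectTransparency false

universe u

open Groth.Agent.WiebeLib

namespace Groth.Agent.KRegLib

variable {P : Type u} [CommRing P]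

/-- Over `T` the ideal `I` is generated by a Koszul regular sequence. -/
def KRegOn (I : Ideal P) (T : Type u) [CommRing T] [Algebra P T] : Prop :=
  ∃ (n : ℕ) (f : Fin n → T), IsExact f ∧ I.map (algebraMap P T) = Ideal.span (Set.range f)

/-- Near the prime `𝔭` the ideal `I` is generated by a Koszul regular sequence. -/
def KReg (I : Ideal P) (𝔭 : Ideal P) : Prop :=
  ∃ g : P, g ∉ 𝔭 ∧ KRegOn I (Localization.Away g)

theorem KRegOn.map {I : Ideal P} {T : Type u} [CommRing T] [Algebra P T] (T' : Type u) [CommRing T'] [Algebra P T']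
    [Algebra T T'] [IsScalarTower P T T'] [Module.Flat T T'] (h : KRegOn I T) : KRegOn I T' := by
  obtain ⟨n, f, hf, hI⟩ := h
  refine ⟨n, fun i => algebraMap T T' (f i), isExact_map hf, ?_⟩
  rw [IsScalarTower.algebraMap_eq P T T', ← Ideal.map_map, hI, Ideal.map_span, ← Set.range_comp]
  rfl

/-- A flat algebra in which `g` is invertible receives the sequence. -/
theorem KReg.exists_on {I 𝔭 : Ideal P} (h : KReg I 𝔭) :
    ∃ g : P, g ∉ 𝔭 ∧ ∀ (T : Type u) [CommRing T] [Algebra P T] [Module.Flat P T],
      IsUnit (algebraMap P T g) → KRegOn I T := by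
  obtain ⟨g, hg, hK⟩ := h
  refine ⟨g, hg, fun T _ _ _ hu => ?_⟩
  letI : Algebra (Localization.Away g) T := (IsLocalization.Away.lift g hu).toAlgebra
  haveI : IsScalarTower P (Localization.Away g) T := IsScalarTower.of_algebraMap_eq fun x => by
    rw [RingHom.algebraMap_toAlgebra, IsLocalization.Away.lift_eq]
  haveI : Module.Flat (Localization.Away g) T :=
    (Module.flat_iff_of_isLocalization (Localization.Away g) (Submonoid.powers g) T).2 inferInstance
  exact hK.map T

theorem KReg.of_on {I 𝔭 : Ideal P} (g : P) (hg : g ∉ 𝔭) (T : Type u) [CommRing T] [Algebra P T]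
    [IsLocalization.Away g T] (h : KRegOn I T) : KReg I 𝔭 := by
  let e : T ≃ₐ[P] Localization.Away g := IsLocalization.algEquiv (Submonoid.powers g) _ _
  letI : Algebra T (Localization.Away g) := e.toAlgHom.toRingHom.toAlgebra
  haveI : IsScalarTower P T (Localization.Away g) := IsScalarTower.of_algebraMap_eq fun x => (e.commutes x).symm
  haveI : Module.Flat T (Localization.Away g) := RingHom.Flat.of_bijective (f := e.toAlgHom.toRingHom) e.bijective
  exact ⟨g, hg, h.map _⟩

/-- The prime of a localisation away from an element outside a prime. -/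
theorem exists_prime_of_away {g : P} (T : Type u) [CommRing T] [Algebra P T] [IsLocalization.Away g T]
    (𝔭 : Ideal P) [h : 𝔭.IsPrime] (hg : g ∉ 𝔭) :
    (𝔭.map (algebraMap P T)).IsPrime ∧ (𝔭.map (algebraMap P T)).comap (algebraMap P T) = 𝔭 := by
  have hd : Disjoint (Submonoid.powers g : Set P) 𝔭 := Set.disjoint_left.2 fun x hx hx' => by
    obtain ⟨k, rfl⟩ := hx
    exact hg (h.mem_of_pow_mem k hx')
  exact ⟨IsLocalization.isPrime_of_isPrime_disjoint (Submonoid.powers g) T 𝔭 h hd,
    IsLocalization.under_map_of_isPrime_disjoint (Submonoid.powers g) T h hd⟩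

/-- A surjection stays surjective on localisations. -/
theorem away_map_surjective {Q T T' : Type u} [CommRing Q] [CommRing T] [CommRing T'] [Algebra P T] [Algebra Q T']
    {a : P →+* Q} (ha : Function.Surjective a) (g : P) [IsLocalization.Away g T] [IsLocalization.Away (a g) T'] :
    Function.Surjective (IsLocalization.Away.map T T' a g) :=
  have : IsLocalization (Submonoid.map a (Submonoid.powers g)) T' := by
    rw [Submonoid.map_powers]; infer_instance
  IsLocalization.map_surjective_of_surjective _ _ _ ha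

/-- A localisation of a localisation is a localisation. -/
theorem exists_away_away {g : P} (T : Type u) [CommRing T] [Algebra P T] [IsLocalization.Away g T]
    (𝔭 : Ideal P) [𝔭.IsPrime] (hg : g ∉ 𝔭) (d : T) (hd : d ∉ 𝔭.map (algebraMap P T))
    (T' : Type u) [CommRing T'] [Algebra P T'] [Algebra T T'] [IsScalarTower P T T'] [IsLocalization.Away d T'] :
    ∃ G : P, G ∉ 𝔭 ∧ IsLocalization.Away G T' := by
  obtain ⟨N, b, hb⟩ := IsLocalization.Away.surj g d
  have hunit : IsUnit (algebraMap P T g ^ N) := (IsLocalization.Away.algebraMap_isUnit g).pow N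
  have hgb : Associated d (algebraMap P T b) := ⟨hunit.unit, hb⟩
  haveI : IsLocalization.Away (algebraMap P T b) T' := IsLocalization.Away.of_associated hgb
  refine ⟨g * b, fun hmem => ?_, IsLocalization.Away.mul' T T' g b⟩
  refine (Ideal.IsPrime.mem_or_mem inferInstance hmem).elim hg fun hbq => hd ?_
  exact Ideal.mem_of_dvd _ hgb.symm.dvd (Ideal.mem_map_of_mem _ hbq)

theorem eta_base_mem {I : Ideal P} : ∀ (n : ℕ) (v : Fin n → P),
    (∀ i, eta n v 0 ((base n).symm 1) i ∈ I) → ∀ j, v j ∈ I
  | 0, _, _, j => j.elim0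
  | n + 1, v, h, j => by
    let o : Ko P n 0 := (base n).symm 1
    induction j using Fin.cases with
    | succ j => exact eta_base_mem n (fun i => v i.succ) (fun i => h (Sum.inl i)) j
    | zero =>
      have : base n (v 0 • o) ∈ I := base_apply_mem fun i => h (Sum.inr i)
      rwa [map_smul, LinearEquiv.apply_symm_apply, smul_eq_mul, mul_one] at this

/-- Relations among a Koszul regular sequence have coefficients in the ideal it generates. -/
theorem mem_span_of_sum_eq_zero {n : ℕ} {f : Fin n → P} (hf : IsExact f) (u : Fin n → P)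
    (hu : ∑ i, u i * f i = 0) (j : Fin n) : u j ∈ Ideal.span (Set.range f) := by
  obtain ⟨y, hy⟩ := hf 0 (eta n u 0 ((base n).symm 1)) (by rw [d_eta_zero, hu, zero_smul])
  exact eta_base_mem n u (fun i => hy ▸ d_mem n f 1 y i) j

theorem range_appendSeq {R : Type u} [CommRing R] {r : ℕ} (f : Fin r → R) : ∀ (m : ℕ) (g : Fin m → R),
    Set.range (appendSeq f m g) = Set.range f ∪ Set.range g
  | 0, g => by
    show Set.range f = _
    rw [Set.range_eq_empty g, Set.union_empty]
  | m + 1, g => by
    show Set.range (Fin.cons (g 0) (appendSeq f m fun i => g i.succ) : Fin (r + m + 1) → R) = _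
    conv_rhs => rw [← Fin.cons_self_tail g, Fin.range_cons]
    rw [Fin.range_cons, range_appendSeq f m, Set.union_insert]
    rfl

theorem appendSeq_comp {R S : Type u} [CommRing R] [CommRing S] (φ : R → S) {r : ℕ} (f : Fin r → R) :
    ∀ (m : ℕ) (g : Fin m → R) (i : Fin (r + m)),
      φ (appendSeq f m g i) = appendSeq (fun j => φ (f j)) m (fun j => φ (g j)) i
  | 0, _, _ => rfl
  | m + 1, g, i => by
    induction i using Fin.cases with
    | zero => rfl
    | succ i => exact appendSeq_comp φ f m (fun j => g j.succ) i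

/-- Exchange: members of a Koszul regular sequence may be replaced, near a prime, by elements independent
modulo the prime, completed from any given family of generators. -/
theorem exists_exchange {T : Type u} [CommRing T] (𝔓 : Ideal T) [𝔓.IsPrime] {n : ℕ} (m : Fin n → T)
    (hm : IsExact m) (hm𝔓 : ∀ i, m i ∈ 𝔓) {r : ℕ} (F : Fin r → T) {ι : Type u} (a : ι → T)
    (hspan : Ideal.span (Set.range F ∪ Set.range a) = Ideal.span (Set.range m))
    (hind : ∀ c : Fin r → T, ∑ i, c i * F i ∈ 𝔓 * Ideal.span (Set.range m) → ∀ i, c i ∈ 𝔓) :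
    ∃ d : T, d ∉ 𝔓 ∧ ∃ (t : ℕ) (e : Fin t → ι), ∀ (T' : Type u) [CommRing T'] [Algebra T T'] [Module.Flat T T'],
      IsUnit (algebraMap T T' d) →
        IsExact (appendSeq (fun i => algebraMap T T' (F i)) t fun j => algebraMap T T' (a (e j))) ∧
          Ideal.span (Set.range (appendSeq (fun i => algebraMap T T' (F i)) t fun j => algebraMap T T' (a (e j)))) =
            (Ideal.span (Set.range m)).map (algebraMap T T') := by
  classical
  let K := 𝔓.ResidueField
  let π : (Fin n → T) →ₗ[T] (Fin n → K) := LinearMap.compLeft (Algebra.linearMap T K) (Fin n)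
  let φ : (Fin n → T) →ₗ[T] T := Fintype.linearCombination T m
  have hφ : ∀ c, φ c = ∑ i, c i * m i := fun c => by simp [φ, Fintype.linearCombination_apply]
  have hKm : Ideal.span (Set.range m) ≤ 𝔓 := Ideal.span_le.2 fun _ ⟨i, hi⟩ => hi ▸ hm𝔓 i
  have hrel : ∀ c, φ c = 0 → π c = 0 := fun c hc => funext fun j =>
    Ideal.algebraMap_residueField_eq_zero.2 (hKm (mem_span_of_sum_eq_zero hm c (hφ c ▸ hc) j))
  have hFm : ∀ i, F i ∈ Ideal.span (Set.range m) := fun i => hspan ▸ Ideal.subset_span (Or.inl ⟨i, rfl⟩)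
  have ham : ∀ x, a x ∈ Ideal.span (Set.range m) := fun x => hspan ▸ Ideal.subset_span (Or.inr ⟨x, rfl⟩)
  choose cF hcF using fun i => (Ideal.mem_span_range_iff_exists_fun).1 (hFm i)
  choose cA hcA using fun x => (Ideal.mem_span_range_iff_exists_fun).1 (ham x)
  let v : Fin r → (Fin n → K) := fun i => π (cF i)
  let w : ι → (Fin n → K) := fun x => π (cA x)
  -- independence
  have hv : LinearIndependent K v := by
    rw [Fintype.linearIndependent_iff]
    intro b hb
    obtain ⟨s, hs⟩ := IsLocalization.exist_integer_multiples_of_finite (nonZeroDivisors (T ⧸ 𝔓)) b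
    choose b' hb' using hs
    choose c hc using fun i => Ideal.Quotient.mk_surjective (I := 𝔓) (b' i)
    have hcK : ∀ i, algebraMap T K (c i) = algebraMap (T ⧸ 𝔓) K s * b i := fun i => by
      rw [IsScalarTower.algebraMap_apply T (T ⧸ 𝔓) K, Ideal.Quotient.algebraMap_eq, hc, hb', Algebra.smul_def]
    have hz : ∀ j, ∑ i, c i * cF i j ∈ 𝔓 := fun j => by
      rw [← Ideal.algebraMap_residueField_eq_zero, map_sum]
      have := congrFun hb j
      rw [Finset.sum_apply] at this
      calc ∑ i, algebraMap T K (c i * cF i j) = algebraMap (T ⧸ 𝔓) K s * ∑ i, b i * algebraMap T K (cF i j) := by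
            rw [Finset.mul_sum]
            exact Finset.sum_congr rfl fun i _ => by rw [map_mul, hcK, mul_assoc]
        _ = 0 := mul_eq_zero_of_right _ this
    have hc𝔓 : ∀ i, c i ∈ 𝔓 := hind c (by
      have h1 : ∑ i, c i * F i = ∑ j, (∑ i, c i * cF i j) * m j := by
        simp only [← hcF, Finset.mul_sum, Finset.sum_mul, mul_assoc]
        exact Finset.sum_comm
      rw [h1]
      exact sum_mem fun j _ => Ideal.mul_mem_mul (hz j) (Ideal.subset_span ⟨j, rfl⟩))
    intro i
    have h1 := hcK i
    rw [Ideal.algebraMap_residueField_eq_zero.2 (hc𝔓 i)] at h1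
    refine (mul_eq_zero.1 h1.symm).resolve_left ?_
    exact (IsLocalization.map_units K s).ne_zero
  -- spanning
  have hgen : ∀ j, (Pi.single j 1 : Fin n → K) ∈ Submodule.span K (Set.range v ∪ Set.range w) := by
    intro j
    let W := Submodule.span K (Set.range v ∪ Set.range w)
    let S : Submodule T T := ((W.restrictScalars T).comap π).map φ
    have hS : Ideal.span (Set.range m) ≤ S := by
      rw [← hspan]
      refine Submodule.span_le.2 ?_
      rintro _ (⟨i, rfl⟩ | ⟨x, rfl⟩)
      · exact ⟨cF i, Submodule.subset_span (Or.inl ⟨i, rfl⟩), (hφ _).trans (hcF i)⟩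
      · exact ⟨cA x, Submodule.subset_span (Or.inr ⟨x, rfl⟩), (hφ _).trans (hcA x)⟩
    obtain ⟨c, hc, hcm⟩ := hS (Ideal.subset_span ⟨j, rfl⟩ : m j ∈ Ideal.span (Set.range m))
    have h1 : π (c - Pi.single j 1) = 0 := hrel _ (by
      rw [map_sub, hcm, hφ]
      simp [Pi.single_apply])
    rw [map_sub, sub_eq_zero] at h1
    have h2 : π (Pi.single j 1) = (Pi.single j 1 : Fin n → K) := funext fun i => by
      show algebraMap T K _ = _
      simp [Pi.single_apply, apply_ite (algebraMap T K)]
    rw [← h2, ← h1]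
    exact hc
  let W0 := Submodule.span K (Set.range v)
  obtain ⟨κ, e₀, -, he₀, hli⟩ := exists_linearIndependent' K (W0.mkQ ∘ w)
  haveI : Finite κ := hli.finite
  let t := Nat.card κ
  let e : Fin t → ι := e₀ ∘ (Finite.equivFin κ).symm
  have hli' : LinearIndependent K (W0.mkQ ∘ w ∘ e) := hli.comp _ (Finite.equivFin κ).symm.injective
  have hsp' : Submodule.span K (Set.range (W0.mkQ ∘ w ∘ e)) = ⊤ := by
    rw [show W0.mkQ ∘ w ∘ e = (W0.mkQ ∘ w ∘ e₀) ∘ (Finite.equivFin κ).symm from rfl,
      Set.range_comp (W0.mkQ ∘ w ∘ e₀), (Finite.equivFin κ).symm.surjective.range_eq, Set.image_univ]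
    refine he₀.trans (top_le_iff.1 fun y _ => ?_)
    obtain ⟨y, rfl⟩ := W0.mkQ_surjective y
    have hy : y ∈ Submodule.span K (Set.range v ∪ Set.range w) := by
      rw [pi_eq_sum_univ y]
      refine sum_mem fun i _ => Submodule.smul_mem _ _ ?_
      rw [show (fun j => if i = j then (1 : K) else 0) = Pi.single i 1 from
        funext fun j => by simp [Pi.single_apply, eq_comm]]
      exact hgen i
    refine (show Submodule.span K (Set.range v ∪ Set.range w) ≤
      (Submodule.span K (Set.range (W0.mkQ ∘ w))).comap W0.mkQ from Submodule.span_le.2 ?_) hy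
    rintro _ (⟨i, rfl⟩ | ⟨x, rfl⟩)
    · show W0.mkQ (v i) ∈ Submodule.span K (Set.range (W0.mkQ ∘ w))
      rw [show W0.mkQ (v i) = 0 from
        (Submodule.Quotient.mk_eq_zero W0).2 (Submodule.subset_span (Set.mem_range_self i))]
      exact zero_mem _
    · exact Submodule.subset_span ⟨x, rfl⟩
  have hn : r + t = n := by
    have h1 := W0.finrank_quotient_add_finrank
    rw [finrank_span_eq_card hv, Module.finrank_fintype_fun_eq_card, Fintype.card_fin, Fintype.card_fin,
      show Module.finrank K ((Fin n → K) ⧸ W0) = t by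
        rw [← finrank_top, ← hsp', finrank_span_eq_card hli', Fintype.card_fin]] at h1
    omega
  subst hn
  let V : Fin (r + t) → (Fin (r + t) → K) := appendSeq v t (w ∘ e)
  have hVsp : ⊤ ≤ Submodule.span K (Set.range V) := by
    intro y _
    rw [range_appendSeq, Submodule.span_union]
    have hy : W0.mkQ y ∈ Submodule.span K (Set.range (W0.mkQ ∘ w ∘ e)) := hsp' ▸ trivial
    rw [Set.range_comp, Submodule.span_image] at hy
    obtain ⟨z, hz, hzy⟩ := hy
    exact Submodule.mem_sup.2 ⟨y - z, (Submodule.Quotient.eq W0).1 hzy.symm, z, hz, sub_add_cancel y z⟩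
  let M : Matrix (Fin (r + t)) (Fin (r + t)) T := Matrix.of (appendSeq cF t (cA ∘ e))
  have hdet : M.det ∉ 𝔓 := by
    have hVli : LinearIndependent K V :=
      linearIndependent_of_top_le_span_of_card_eq_finrank hVsp (by simp)
    have hMV : M.map (algebraMap T K) = Matrix.of V := by
      ext i j
      show π (appendSeq cF t (cA ∘ e) i) j = V i j
      rw [appendSeq_comp (fun c => π c)]
      rfl
    have hu : IsUnit (Matrix.of V).det :=
      (Matrix.isUnit_iff_isUnit_det _).1 (Matrix.linearIndependent_rows_iff_isUnit.1 hVli)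
    rw [← hMV, ← RingHom.mapMatrix_apply, ← RingHom.map_det] at hu
    exact fun h => hu.ne_zero (Ideal.algebraMap_residueField_eq_zero.2 h)
  refine ⟨M.det, hdet, t, e, fun T' _ _ _ hu => ?_⟩
  let m' : Fin (r + t) → T' := fun i => algebraMap T T' (m i)
  let F' := appendSeq (fun i => algebraMap T T' (F i)) t fun j => algebraMap T T' (a (e j))
  let M' := M.map (algebraMap T T')
  have hMF : M'.mulVec m' = F' := funext fun i => by
    show ∑ j, algebraMap T T' (appendSeq cF t (cA ∘ e) i j) * algebraMap T T' (m j) = _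
    simp only [← map_mul, ← map_sum]
    rw [appendSeq_comp (fun c : Fin (r + t) → T => algebraMap T T' (∑ j, c j * m j))]
    simp only [F', Function.comp_apply, hcF, hcA]
  have hu' : IsUnit M'.det := by
    rw [show M'.det = algebraMap T T' M.det by rw [RingHom.map_det]; rfl]
    exact hu
  have hmF : M'⁻¹.mulVec F' = m' := by
    rw [← hMF, Matrix.mulVec_mulVec, Matrix.nonsing_inv_mul _ hu', Matrix.one_mulVec]
  refine ⟨isExact_of_isUnit_det (isExact_map hm) M'⁻¹ (Matrix.isUnit_nonsing_inv_det _ hu')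
    fun i => (congrFun hmF i).symm, ?_⟩
  rw [Ideal.map_span, ← Set.range_comp]
  refine le_antisymm (Ideal.span_le.2 ?_) (Ideal.span_le.2 ?_)
  · rintro _ ⟨i, rfl⟩
    show F' i ∈ Ideal.span (Set.range (algebraMap T T' ∘ m))
    rw [show F' i = ∑ j, M' i j * m' j from (congrFun hMF i).symm]
    exact sum_mem fun j _ => Ideal.mul_mem_left _ _ (Ideal.subset_span ⟨j, rfl⟩)
  · rintro _ ⟨i, rfl⟩
    rw [show (algebraMap T T' ∘ m) i = ∑ j, M'⁻¹ i j * F' j from (congrFun hmF i).symm]
    exact sum_mem fun j _ => Ideal.mul_mem_left _ _ (Ideal.subset_span ⟨j, rfl⟩)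

/-- Base change along a flat map. -/
theorem KReg.map {P' : Type u} [CommRing P'] [Algebra P P'] [Module.Flat P P'] {I : Ideal P} {𝔭' : Ideal P'}
    (h : KReg I (𝔭'.comap (algebraMap P P'))) : KReg (I.map (algebraMap P P')) 𝔭' := by
  obtain ⟨g, hg, hon⟩ := h.exists_on
  let T := Localization.Away (algebraMap P P' g)
  haveI : Module.Flat P T := Module.Flat.trans P P' T
  obtain ⟨n, f, hf, hI⟩ := hon T (by
    rw [IsScalarTower.algebraMap_apply P P' T]
    exact IsLocalization.Away.algebraMap_isUnit _)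
  exact ⟨algebraMap P P' g, hg, n, f, hf, by rw [Ideal.map_map, ← IsScalarTower.algebraMap_eq P P' T]; exact hI⟩

section surjective

variable {Q : Type u} [CommRing Q] (a : P →+* Q)

/-- Composition of closed immersions cut out by Koszul regular sequences. -/
theorem KReg.comp (ha : Function.Surjective a) {J : Ideal Q} (𝔮 : Ideal Q) [𝔮.IsPrime]
    (h1 : KReg (RingHom.ker a) (𝔮.comap a)) (h2 : KReg J 𝔮) : KReg (J.comap a) (𝔮.comap a) := by
  obtain ⟨g1, hg1, hon1⟩ := h1.exists_on
  obtain ⟨g2', hg2, hon2⟩ := h2.exists_on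
  obtain ⟨g2, rfl⟩ := ha g2'
  let g := g1 * g2
  have hg : g ∉ 𝔮.comap a := fun h => ((Ideal.comap_isPrime a 𝔮).mem_or_mem h).elim hg1 hg2
  let T := Localization.Away g
  let T' := Localization.Away (a g)
  let q : T →+* T' := IsLocalization.Away.map T T' a g
  have hq : Function.Surjective q := away_map_surjective ha g
  have hker : RingHom.ker q = (RingHom.ker a).map (algebraMap P T) :=
    IsLocalization.ker_map T' a (Submonoid.map_powers a g)
  haveI : Module.Flat P T := IsLocalization.flat T (Submonoid.powers g)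
  haveI : Module.Flat Q T' := IsLocalization.flat T' (Submonoid.powers (a g))
  obtain ⟨r, f, hf, hfI⟩ := hon1 T (isUnit_of_mul_isUnit_left
    (show IsUnit (algebraMap P T g1 * algebraMap P T g2) by
      rw [← map_mul]; exact IsLocalization.Away.algebraMap_isUnit g))
  obtain ⟨s, h', hh', hJ⟩ := hon2 T' (isUnit_of_mul_isUnit_right
    (show IsUnit (algebraMap Q T' (a g1) * algebraMap Q T' (a g2)) by
      rw [← map_mul, ← map_mul]; exact IsLocalization.Away.algebraMap_isUnit (a g)))
  choose h hh using fun i => hq (h' i)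
  have hqc : q.comp (algebraMap P T) = (algebraMap Q T').comp a := IsLocalization.map_comp _
  refine ⟨g, hg, r + s, appendSeq f s h,
    isExact_appendSeq hf hq (hker.trans hfI) h (by simpa only [hh] using hh'), ?_⟩
  have h4 : ((J.comap a).map (algebraMap P T)).map q = Ideal.span (Set.range h') := by
    rw [Ideal.map_map, hqc, ← Ideal.map_map, Ideal.map_comap_of_surjective a ha, hJ]
  have h5 : (Ideal.span (Set.range h)).map q = Ideal.span (Set.range h') := by
    rw [Ideal.map_span, ← Set.range_comp]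
    exact congrArg (fun z => Ideal.span (Set.range z)) (funext hh)
  have h6 : (Ideal.span (Set.range h')).comap q = Ideal.span (Set.range h) ⊔ RingHom.ker q := by
    rw [← h5, Ideal.comap_map_of_surjective q hq, RingHom.ker_eq_comap_bot]
  have h7 : RingHom.ker q ≤ (J.comap a).map (algebraMap P T) := by
    rw [hker]
    exact Ideal.map_mono fun x hx => by
      rw [Ideal.mem_comap, (RingHom.mem_ker).1 hx]
      exact zero_mem _
  have h8 : (((J.comap a).map (algebraMap P T)).map q).comap q = (J.comap a).map (algebraMap P T) := by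
    rw [Ideal.comap_map_of_surjective q hq, ← RingHom.ker_eq_comap_bot, sup_eq_left]
    exact h7
  rw [← h8, h4, h6, span_appendSeq, hker, hfI, sup_comm]

end surjective

/-- Cancellation of a part which is regular in the fibre. -/
theorem KReg.cancel {P' N : Type u} [CommRing P'] [CommRing N] [Algebra P P'] (q : P' →+* N)
    (hq : Function.Surjective q) {r : ℕ} (f : Fin r → P') (hf : IsExact f)
    (hker : RingHom.ker q = Ideal.span (Set.range f)) (I : Ideal P) (𝔑 : Ideal N) [𝔑.IsPrime]
    (hI : I.map ((q.comp (algebraMap P P'))) ≤ 𝔑)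
    (hfib : ∀ u : Fin r → P', ∑ i, u i * f i ∈ ((𝔑.comap q).comap (algebraMap P P')).map (algebraMap P P') →
      ∀ i, u i ∈ 𝔑.comap q)
    (hK : KReg (I.map (algebraMap P P') ⊔ Ideal.span (Set.range f)) (𝔑.comap q)) :
    KReg (I.map (q.comp (algebraMap P P'))) 𝔑 := by
  classical
  obtain ⟨g, hg, hon⟩ := hK
  let 𝔭 := 𝔑.comap q
  let T := Localization.Away g
  haveI : 𝔭.IsPrime := Ideal.comap_isPrime _ _
  obtain ⟨h𝔓, h𝔓c⟩ := exists_prime_of_away T 𝔭 hg
  let 𝔓 := 𝔭.map (algebraMap P' T)
  obtain ⟨n, m, hm, hmK⟩ := hon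
  let q₀ := 𝔭.comap (algebraMap P P')
  have hIq : I.map (algebraMap P P') ≤ 𝔭 := by
    rw [← Ideal.map_map] at hI
    exact Ideal.map_le_iff_le_comap.1 hI
  have hf𝔭 : ∀ i, f i ∈ 𝔭 := fun i => by
    show q (f i) ∈ 𝔑
    rw [(RingHom.mem_ker).1 (hker ▸ Ideal.subset_span ⟨i, rfl⟩ : f i ∈ RingHom.ker q)]
    exact zero_mem _
  have hle₀ : I.map (algebraMap P P') ⊔ Ideal.span (Set.range f) ≤ 𝔭 :=
    sup_le hIq (Ideal.span_le.2 (Set.range_subset_iff.2 hf𝔭))
  have hm𝔓 : ∀ i, m i ∈ 𝔓 := fun i =>
    Ideal.map_mono (f := algebraMap P' T) hle₀ (hmK ▸ Ideal.subset_span (Set.mem_range_self i))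
  let F : Fin r → T := fun i => algebraMap P' T (f i)
  let a : I → T := fun x => algebraMap P' T (algebraMap P P' x.1)
  have hspan : Ideal.span (Set.range F ∪ Set.range a) = Ideal.span (Set.range m) := by
    rw [Ideal.span_union, ← hmK, Ideal.map_sup, sup_comm, Ideal.map_map, Ideal.map_span, ← Set.range_comp]
    congr 1
    show Ideal.span (Set.range a) = Ideal.span (((algebraMap P' T).comp (algebraMap P P')) '' I)
    rw [show Set.range a = ((algebraMap P' T).comp (algebraMap P P')) '' I from
      (Set.image_eq_range ((algebraMap P' T).comp (algebraMap P P')) (I : Set P)).symm]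
  have hind : ∀ c : Fin r → T, ∑ i, c i * F i ∈ 𝔓 * Ideal.span (Set.range m) → ∀ i, c i ∈ 𝔓 := by
    intro c hc
    have hle : 𝔓 * Ideal.span (Set.range m) ≤
        (q₀.map (algebraMap P P')).map (algebraMap P' T) ⊔ 𝔓 * Ideal.span (Set.range F) := by
      rw [← hspan, Ideal.span_union, Ideal.mul_sup]
      refine sup_le le_sup_right ((Ideal.mul_le_right).trans ?_ |>.trans le_sup_left)
      rw [Ideal.span_le]
      rintro _ ⟨x, rfl⟩
      exact Ideal.mem_map_of_mem _ (Ideal.mem_map_of_mem _ (hIq (Ideal.mem_map_of_mem _ x.2)))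
    obtain ⟨z, hz, y, hy, hzy⟩ := Submodule.mem_sup.1 (hle hc)
    obtain ⟨w, hw, rfl⟩ : ∃ w : Fin r → T, (∀ i, w i ∈ 𝔓) ∧ ∑ i, w i * F i = y := by
      rw [← smul_eq_mul, Ideal.span, Submodule.mem_ideal_smul_span_iff_exists_sum 𝔓 F y] at hy
      obtain ⟨b, hb, hby⟩ := hy
      exact ⟨fun i => b i, hb, by rw [← hby, Finsupp.sum_fintype _ _ (by simp)]; simp⟩
    have hz' : ∑ i, (c i - w i) * F i ∈ (q₀.map (algebraMap P P')).map (algebraMap P' T) := by
      simp only [sub_mul, Finset.sum_sub_distrib]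
      rw [← hzy, add_sub_cancel_right]
      exact hz
    obtain ⟨s, hs⟩ := IsLocalization.exist_integer_multiples_of_finite (Submonoid.powers g) fun i => c i - w i
    choose u hu using hs
    have h1 : algebraMap P' T (∑ i, u i * f i) ∈ (q₀.map (algebraMap P P')).map (algebraMap P' T) := by
      rw [map_sum]
      have : ∑ i, algebraMap P' T (u i * f i) = algebraMap P' T s * ∑ i, (c i - w i) * F i := by
        rw [Finset.mul_sum]
        exact Finset.sum_congr rfl fun i _ => by rw [map_mul, hu, Algebra.smul_def, mul_assoc]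
      rw [this]
      exact Ideal.mul_mem_left _ _ hz'
    obtain ⟨s', hs', hmem⟩ := (IsLocalization.algebraMap_mem_map_algebraMap_iff (Submonoid.powers g) T _ _).1 h1
    have hu𝔭 := hfib (fun i => s' * u i) (by simpa only [Finset.mul_sum, mul_assoc] using hmem)
    intro i
    have hnot : ∀ x ∈ Submonoid.powers g, x ∉ 𝔭 := by
      rintro _ ⟨k, rfl⟩ hk
      exact hg (Ideal.IsPrime.mem_of_pow_mem inferInstance k hk)
    have h2 : algebraMap P' T (u i) ∈ 𝔓 :=
      Ideal.mem_map_of_mem _ ((Ideal.IsPrime.mem_or_mem inferInstance (hu𝔭 i)).resolve_left (hnot s' hs'))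
    rw [hu, Algebra.smul_def, Ideal.unit_mul_mem_iff_mem _ (IsLocalization.map_units T s)] at h2
    rw [← sub_add_cancel (c i) (w i)]
    exact add_mem h2 (hw i)
  obtain ⟨d, hd, t, e, hex⟩ := exists_exchange 𝔓 m hm hm𝔓 F a hspan hind
  let T' := Localization.Away d
  obtain ⟨G, hG, hGT⟩ := exists_away_away T 𝔭 hg d hd T'
  haveI := hGT
  haveI : Module.Flat T T' := IsLocalization.flat T' (Submonoid.powers d)
  haveI : Module.Flat P' T' := IsLocalization.flat T' (Submonoid.powers G)
  obtain ⟨hexact, hsp⟩ := hex T' (IsLocalization.Away.algebraMap_isUnit d)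
  let N' := Localization.Away (q G)
  let q' : T' →+* N' := IsLocalization.Away.map T' N' q G
  have hq'c : q'.comp (algebraMap P' T') = (algebraMap N N').comp q := IsLocalization.map_comp _
  let f' : Fin r → T' := fun i => algebraMap T T' (F i)
  have hf' : f' = fun i => algebraMap P' T' (f i) :=
    funext fun i => (IsScalarTower.algebraMap_apply P' T T' (f i)).symm
  have hk' : RingHom.ker q' = Ideal.span (Set.range f') := by
    refine (IsLocalization.ker_map N' q (Submonoid.map_powers q G)).trans ?_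
    rw [hker, Ideal.map_span, ← Set.range_comp, hf']
    rfl
  refine ⟨q G, hG, t, _, isExact_of_appendSeq (hf' ▸ isExact_map hf)
    (away_map_surjective hq G) hk' _ hexact, ?_⟩
  rw [← hmK, Ideal.map_map, ← IsScalarTower.algebraMap_eq P' T T', span_appendSeq] at hsp
  have h2 := congrArg (Ideal.map q') hsp
  rw [Ideal.map_sup, (Ideal.map_eq_bot_iff_le_ker q').2 hk'.ge, bot_sup_eq, Ideal.map_map,
    hq'c, Ideal.map_span, ← Set.range_comp, ← Ideal.map_map, Ideal.map_sup, ← hker,
    (Ideal.map_eq_bot_iff_le_ker q).2 le_rfl, sup_bot_eq, Ideal.map_map (algebraMap P P') q] at h2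
  exact h2.symm

/-- Descent along a flat map of finite presentation. -/
theorem KReg.descend {N : Type u} [CommRing N] [Algebra P N] [Module.Flat P N] [Algebra.FinitePresentation P N]
    (I : Ideal P) (𝔑 : Ideal N) [h𝔑 : 𝔑.IsPrime] (hI : I.map (algebraMap P N) ≤ 𝔑)
    (h : KReg (I.map (algebraMap P N)) 𝔑) : KReg I (𝔑.comap (algebraMap P N)) := by
  classical
  obtain ⟨g, hg, n, m, hm, hmK⟩ := h
  let T := Localization.Away g
  obtain ⟨h𝔓, -⟩ := exists_prime_of_away T 𝔑 hg
  let 𝔓 := 𝔑.map (algebraMap N T)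
  have hm𝔓 : ∀ i, m i ∈ 𝔓 := fun i => Ideal.map_mono hI (hmK ▸ Ideal.subset_span ⟨i, rfl⟩)
  let a : I → T := fun x => algebraMap P T x.1
  have hspan : Ideal.span (Set.range (fun i : Fin 0 => (i.elim0 : T)) ∪ Set.range a) = Ideal.span (Set.range m) := by
    rw [Set.range_eq_empty (fun i : Fin 0 => (i.elim0 : T)), Set.empty_union, ← hmK, Ideal.map_map,
      ← IsScalarTower.algebraMap_eq P N T]
    show _ = Ideal.span (algebraMap P T '' I)
    rw [show Set.range a = algebraMap P T '' I from (Set.image_eq_range (algebraMap P T) (I : Set P)).symm]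
  obtain ⟨d, hd, t, e, hex⟩ := exists_exchange 𝔓 m hm hm𝔓 _ a hspan fun _ _ i => i.elim0
  let T' := Localization.Away d
  obtain ⟨G, hG, hGT⟩ := exists_away_away T 𝔑 hg d hd T'
  haveI := hGT
  haveI : Module.Flat T T' := IsLocalization.flat T' (Submonoid.powers d)
  obtain ⟨hexact, hsp⟩ := hex T' (IsLocalization.Away.algebraMap_isUnit d)
  haveI : Module.Flat N T' := IsLocalization.flat T' (Submonoid.powers G)
  haveI : Module.Flat P T' := Module.Flat.trans P N T'
  haveI : Algebra.FinitePresentation N T' := IsLocalization.Away.finitePresentation G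
  haveI : Algebra.FinitePresentation P T' := Algebra.FinitePresentation.trans P N T'
  obtain ⟨h𝔑', h𝔑c⟩ := exists_prime_of_away T' 𝔑 hG
  let q₀ : PrimeSpectrum P := ⟨𝔑.comap (algebraMap P N), Ideal.comap_isPrime _ _⟩
  have hq₀ : q₀ ∈ Set.range (PrimeSpectrum.comap (algebraMap P T')) :=
    ⟨⟨_, h𝔑'⟩, PrimeSpectrum.ext (by
      show (𝔑.map (algebraMap N T')).comap (algebraMap P T') = 𝔑.comap (algebraMap P N)
      rw [IsScalarTower.algebraMap_eq P N T', ← Ideal.comap_comap, h𝔑c])⟩
  obtain ⟨_, ⟨_, ⟨c, rfl⟩, rfl⟩, hqc, hsub⟩ :=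
    PrimeSpectrum.isBasis_basic_opens.exists_subset_of_mem_open hq₀
      (PrimeSpectrum.isOpenMap_comap_of_hasGoingDown_of_finitePresentation (R := P) (S := T')).isOpen_range
  let T₀ := Localization.Away c
  obtain ⟨T₁, _, _, hT₁⟩ : ∃ (T₁ : Type u) (_ : CommRing T₁) (_ : Algebra T' T₁),
      IsLocalization.Away (algebraMap P T' c) T₁ :=
    ⟨Localization.Away (algebraMap P T' c), inferInstance, inferInstance, inferInstance⟩
  haveI : Module.Flat T' T₁ := IsLocalization.flat T₁ (Submonoid.powers (algebraMap P T' c))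
  letI : Algebra P T₁ := ((algebraMap T' T₁).comp (algebraMap P T')).toAlgebra
  haveI : IsScalarTower P T' T₁ := IsScalarTower.of_algebraMap_eq (R := P) (S := T') (A := T₁) fun _ => rfl
  have hcu : IsUnit (algebraMap P T₁ c) := by
    rw [IsScalarTower.algebraMap_apply P T' T₁]
    exact IsLocalization.Away.algebraMap_isUnit _
  letI : Algebra T₀ T₁ := (IsLocalization.Away.lift (g := algebraMap P T₁) c hcu : T₀ →+* T₁).toAlgebra
  haveI : IsScalarTower P T₀ T₁ := IsScalarTower.of_algebraMap_eq (R := P) (S := T₀) (A := T₁) fun x => by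
    show algebraMap P T₁ x = (IsLocalization.Away.lift (g := algebraMap P T₁) c hcu : T₀ →+* T₁) (algebraMap P T₀ x)
    rw [IsLocalization.Away.lift_eq]
  haveI : Module.Flat P T₁ := Module.Flat.trans P T' T₁
  haveI : Module.Flat T₀ T₁ := (Module.flat_iff_of_isLocalization T₀ (Submonoid.powers c) T₁).2 inferInstance
  haveI : Module.FaithfullyFlat T₀ T₁ := Module.FaithfullyFlat.of_comap_surjective fun x => by
    have hx : PrimeSpectrum.comap (algebraMap P T₀) x ∈ PrimeSpectrum.basicOpen c := by
      show _ ∈ (PrimeSpectrum.basicOpen c : Set (PrimeSpectrum P))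
      rw [← PrimeSpectrum.localization_away_comap_range T₀ c]
      exact ⟨x, rfl⟩
    obtain ⟨y, hy⟩ := hsub hx
    have hyc : y ∈ PrimeSpectrum.basicOpen (algebraMap P T' c) := by
      show algebraMap P T' c ∉ y.asIdeal
      intro hmem
      rw [← hy] at hx
      exact hx hmem
    obtain ⟨z, hz⟩ : y ∈ Set.range (PrimeSpectrum.comap (algebraMap T' T₁)) := by
      rw [PrimeSpectrum.localization_away_comap_range T₁ (algebraMap P T' c)]
      exact hyc
    refine ⟨z, PrimeSpectrum.localization_comap_injective T₀ (Submonoid.powers c) ?_⟩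
    rw [← hy, ← hz, ← PrimeSpectrum.comap_comp_apply, ← PrimeSpectrum.comap_comp_apply,
      ← IsScalarTower.algebraMap_eq P T₀ T₁, ← IsScalarTower.algebraMap_eq P T' T₁]
  let b : Fin t → P := fun j => (e j).1
  let b₀ : Fin (0 + t) → T₀ := appendSeq (fun i : Fin 0 => i.elim0) t fun j => algebraMap P T₀ (b j)
  let b' : Fin (0 + t) → T' :=
    appendSeq (fun i : Fin 0 => algebraMap T T' (i.elim0 : T)) t fun j => algebraMap T T' (a (e j))
  have hb : (fun i => algebraMap T₀ T₁ (b₀ i)) = fun i => algebraMap T' T₁ (b' i) := funext fun i => by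
    show algebraMap T₀ T₁ (appendSeq _ t _ i) = algebraMap T' T₁ (appendSeq _ t _ i)
    rw [appendSeq_comp (algebraMap T₀ T₁), appendSeq_comp (algebraMap T' T₁)]
    congr 1
    · exact funext fun j => j.elim0
    · funext j
      simp only [a, b, ← IsScalarTower.algebraMap_apply P T T', ← IsScalarTower.algebraMap_apply P T' T₁,
        ← IsScalarTower.algebraMap_apply P T₀ T₁]
  refine KReg.of_on c hqc T₀ ⟨0 + t, b₀, isExact_of_faithfullyFlat (hb ▸ isExact_map hexact), ?_⟩
  have hinj : ∀ A B : Ideal T₀, A.map (algebraMap T₀ T₁) = B.map (algebraMap T₀ T₁) → A = B := fun A B hAB => by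
    rw [← Ideal.comap_map_eq_self_of_faithfullyFlat (B := T₁) A, hAB, Ideal.comap_map_eq_self_of_faithfullyFlat]
  apply hinj
  rw [Ideal.map_map, ← IsScalarTower.algebraMap_eq P T₀ T₁, Ideal.map_span, ← Set.range_comp,
    show algebraMap T₀ T₁ ∘ b₀ = algebraMap T' T₁ ∘ b' from hb, Set.range_comp, ← Ideal.map_span,
    show Ideal.span (Set.range b') = _ from hsp, ← hmK, Ideal.map_map, Ideal.map_map, Ideal.map_map]
  congr 1

theorem kRegOn_iff_exists_list (I : Ideal P) (T : Type u) [CommRing T] [Algebra P T] :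
    KRegOn I T ↔ ∃ l : List T, LCI.IsKoszulRegularSeq T l ∧ I.map (algebraMap P T) = Ideal.span {x | x ∈ l} := by
  constructor
  · rintro ⟨n, f, hf, hI⟩
    refine ⟨List.ofFn f, KoszulFlatLib.isKoszulRegularSeq_of_isExact hf, hI.trans ?_⟩
    congr 1
    ext x
    simp [List.mem_ofFn]
  · rintro ⟨l, hl, hI⟩
    refine ⟨_, l.get, isExact_of_isKoszulRegularSeq _ (by rwa [List.ofFn_get]), hI.trans ?_⟩
    congr 1
    ext x
    simp [List.mem_iff_get]

theorem isKoszulRegularIdeal_iff (I : Ideal P) :
    LCI.IsKoszulRegularIdeal I ↔ ∀ 𝔭 : Ideal P, 𝔭.IsPrime → I ≤ 𝔭 → KReg I 𝔭 := by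
  simp only [LCI.IsKoszulRegularIdeal, KReg, kRegOn_iff_exists_list]
  exact ⟨fun h 𝔭 h𝔭 hI => h ⟨𝔭, h𝔭⟩ hI, fun h 𝔭 hI => h 𝔭.asIdeal 𝔭.2 hI⟩

end Groth.Agent.KRegLib
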