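import Mathlib
import Groth.Agent.KRegLib.Local

/-!
# Koszul regularity of sections of smooth morphisms

For a smooth `C`-algebra `E` and a `C`-map from `E` onto a quotient `R` of `C`, the kernel is locally
generated by the kernel of `C → R` and a coordinate sequence; consequently Koszul regularity of the two
kernels is equivalent.
-/

set_option autoImplicit false
set_option linter.style.haveILetI false
set_option backward.isDefEq.respectTransparency false

universe u

open Groth.Agent.WiebeLib TensorProduct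

namespace Groth.Agent.KRegLib

attribute [local instance] MvPolynomial.algebraMvPolynomial

/-- Koszul exactness is invariant under ring isomorphisms. -/
theorem isExact_ringEquiv {R S : Type u} [CommRing R] [CommRing S] (e : R ≃+* S) {n : ℕ} {f : Fin n → R}
    (hf : IsExact f) : IsExact fun i => e (f i) := by
  intro k x hx
  let x' : Ko R n (k + 1) := fun i => e.symm (x i)
  have hxx : x = fun i => e.toRingHom (x' i) := funext fun i => (e.apply_symm_apply (x i)).symm
  have h0 : d n f k x' = 0 := by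
    funext i
    apply e.injective
    have hd := congrFun (d_map e.toRingHom n f k x') i
    rw [← hxx] at hd
    refine hd.symm.trans ?_
    rw [Pi.zero_apply, map_zero]
    exact congrFun hx i
  obtain ⟨y, hy⟩ := hf k x' h0
  refine ⟨fun i => e.toRingHom (y i), ?_⟩
  refine (d_map e.toRingHom n f (k + 1) y).trans ?_
  rw [hy, hxx]

/-- Translated variables are Koszul regular. -/
theorem isExact_X_sub {R : Type u} [CommRing R] {n : ℕ} (a : Fin n → R) :
    IsExact fun i : Fin n => (MvPolynomial.X i - MvPolynomial.C (a i) : MvPolynomial (Fin n) R) := by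
  let φ : MvPolynomial (Fin n) R →ₐ[R] MvPolynomial (Fin n) R :=
    MvPolynomial.aeval fun i => MvPolynomial.X i - MvPolynomial.C (a i)
  let ψ : MvPolynomial (Fin n) R →ₐ[R] MvPolynomial (Fin n) R :=
    MvPolynomial.aeval fun i => MvPolynomial.X i + MvPolynomial.C (a i)
  let e : MvPolynomial (Fin n) R ≃ₐ[R] MvPolynomial (Fin n) R := AlgEquiv.ofAlgHom φ ψ
    (MvPolynomial.algHom_ext fun i => by simp [φ, ψ]) (MvPolynomial.algHom_ext fun i => by simp [φ, ψ])
  have he : (fun i : Fin n => (MvPolynomial.X i - MvPolynomial.C (a i) : MvPolynomial (Fin n) R)) =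
      fun i => e.toRingEquiv (MvPolynomial.X i) := funext fun i => by
    show _ = φ (MvPolynomial.X i)
    simp [φ]
  rw [he]
  exact isExact_ringEquiv e.toRingEquiv (isExact_X n)

/-- Flat base change of an exact sequence, seen in the other factor. -/
theorem isExact_includeRight {P A T : Type u} [CommRing P] [CommRing A] [CommRing T] [Algebra P A] [Algebra P T]
    [Module.Flat P T] {n : ℕ} {a : Fin n → A} (ha : IsExact a) (b : Fin n → P)
    (hb : ∀ j, a j = algebraMap P A (b j)) :
    IsExact fun j => (Algebra.TensorProduct.includeRight : T →ₐ[P] A ⊗[P] T) (algebraMap P T (b j)) := by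
  have h := isExact_map (S := A ⊗[P] T) ha
  have heq : (fun j => algebraMap A (A ⊗[P] T) (a j)) =
      fun j => (Algebra.TensorProduct.includeRight : T →ₐ[P] A ⊗[P] T) (algebraMap P T (b j)) := funext fun j => by
    rw [hb, ← IsScalarTower.algebraMap_apply, AlgHom.commutes]
  exact heq ▸ h

/-- A quotient of the base onto which a finitely generated unramified algebra maps is cut out near any point of
it by an idempotent. -/
theorem exists_idempotent_kill {C N R : Type u} [CommRing C] [CommRing N] [CommRing R] [Algebra C N]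
    [Algebra.FormallyUnramified C N] [Algebra.FiniteType C N] [Algebra C R]
    (hR : Function.Surjective (algebraMap C R)) (Ψ₀ : N →ₐ[C] R) :
    ∃ e : N, Ψ₀ e = 0 ∧ ∀ x, Ψ₀ x = 0 → (1 - e) * x ∈ (RingHom.ker (algebraMap C R)).map (algebraMap C N) := by
  classical
  let I := RingHom.ker (algebraMap C R)
  let N' := N ⧸ I.map (algebraMap C N)
  let m : N →ₐ[C] N' := Ideal.Quotient.mkₐ C _
  have hIΨ : I.map (algebraMap C N) ≤ RingHom.ker Ψ₀.toRingHom := by
    rw [Ideal.map_le_iff_le_comap]
    intro x hx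
    show Ψ₀ (algebraMap C N x) = 0
    rw [AlgHom.commutes]
    exact hx
  let Ψ : N' →ₐ[C] R := Ideal.Quotient.liftₐ _ Ψ₀ hIΨ
  have hsI : ∀ a ∈ I, (Algebra.ofId C N') a = 0 := fun a ha => by
    show algebraMap C N' a = 0
    rw [IsScalarTower.algebraMap_apply C N N', Ideal.Quotient.algebraMap_eq, Ideal.Quotient.eq_zero_iff_mem]
    exact Ideal.mem_map_of_mem _ ha
  let s : R →ₐ[C] N' := (Ideal.Quotient.liftₐ I (Algebra.ofId C N') hsI).comp
    (Ideal.quotientKerAlgEquivOfSurjective (R₁ := C) (f := Algebra.ofId C R) hR).symm.toAlgHom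
  let J := RingHom.ker Ψ.toRingHom
  have hΨs : ∀ r, Ψ (s r) = r := fun r => by
    obtain ⟨a, rfl⟩ := hR r
    rw [AlgHom.commutes, AlgHom.commutes]
  have hJ2 : J ≤ J ^ 2 := by
    let B := N' ⧸ J ^ 2
    let J' : Ideal B := J.map (Ideal.Quotient.mk (J ^ 2))
    have hsq : J' ^ 2 = ⊥ := by
      refine le_bot_iff.1 ((sq J').trans_le (Ideal.mul_le.2 fun r hr s' hs' => ?_))
      obtain ⟨a, ha, rfl⟩ := (Ideal.mem_map_iff_of_surjective _ Ideal.Quotient.mk_surjective).1 hr
      obtain ⟨b, hb, rfl⟩ := (Ideal.mem_map_iff_of_surjective _ Ideal.Quotient.mk_surjective).1 hs'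
      rw [Ideal.mem_bot, ← map_mul, Ideal.Quotient.eq_zero_iff_mem, pow_two]
      exact Ideal.mul_mem_mul ha hb
    let φ₁ : N →ₐ[C] B := (Ideal.Quotient.mkₐ C (J ^ 2)).comp m
    let φ₂ : N →ₐ[C] B := ((Ideal.Quotient.mkₐ C (J ^ 2)).comp s).comp Ψ₀
    have h := Algebra.FormallyUnramified.comp_injective (A := N) J' hsq (a₁ := φ₁) (a₂ := φ₂) (by
      refine AlgHom.ext fun x => ?_
      show Ideal.Quotient.mk J' (Ideal.Quotient.mk (J ^ 2) (m x)) =
        Ideal.Quotient.mk J' (Ideal.Quotient.mk (J ^ 2) (s (Ψ₀ x)))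
      rw [Ideal.Quotient.mk_eq_mk_iff_sub_mem, ← map_sub]
      refine Ideal.mem_map_of_mem _ ?_
      show Ψ (m x - s (Ψ₀ x)) = 0
      rw [map_sub, hΨs]
      exact sub_self _)
    intro x hx
    obtain ⟨x, rfl⟩ := Ideal.Quotient.mk_surjective x
    have hx0 : Ψ₀ x = 0 := hx
    have h1 := DFunLike.congr_fun h x
    rw [← Ideal.Quotient.eq_zero_iff_mem]
    refine h1.trans ?_
    show Ideal.Quotient.mk (J ^ 2) (s (Ψ₀ x)) = 0
    rw [hx0, map_zero, map_zero]
  have hJfg : J.FG := by
    obtain ⟨gens, hgens⟩ : (⊤ : Subalgebra C N).FG := Algebra.FiniteType.out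
    let d : N → N' := fun x => m x - s (Ψ₀ x)
    refine ⟨gens.image d, le_antisymm (Ideal.span_le.2 ?_) ?_⟩
    · intro y hy
      obtain ⟨x, -, rfl⟩ := Finset.mem_image.1 (Finset.mem_coe.1 hy)
      show Ψ (m x - s (Ψ₀ x)) = 0
      rw [map_sub, hΨs]
      exact sub_self _
    · intro y hy
      obtain ⟨x, rfl⟩ := Ideal.Quotient.mk_surjective y
      let J₀ : Ideal N' := Ideal.span (gens.image d : Finset N')
      have h : (Ideal.Quotient.mkₐ C J₀).comp m = ((Ideal.Quotient.mkₐ C J₀).comp s).comp Ψ₀ := by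
        refine AlgHom.ext_of_adjoin_eq_top hgens fun z hz => ?_
        show Ideal.Quotient.mk J₀ (m z) = Ideal.Quotient.mk J₀ (s (Ψ₀ z))
        rw [Ideal.Quotient.mk_eq_mk_iff_sub_mem]
        exact Ideal.subset_span (Finset.mem_coe.2 (Finset.mem_image_of_mem d hz))
      have h1 := DFunLike.congr_fun h x
      refine Ideal.Quotient.eq_zero_iff_mem.1 (h1.trans ?_)
      show Ideal.Quotient.mk J₀ (s (Ψ₀ x)) = 0
      rw [show Ψ₀ x = 0 from hy, map_zero, map_zero]
  obtain ⟨e, he, hJe⟩ := (Ideal.isIdempotentElem_iff_of_fg J hJfg).1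
    (le_antisymm Ideal.mul_le_left (hJ2.trans_eq (sq J)))
  obtain ⟨e₁, he₁⟩ := Ideal.Quotient.mk_surjective e
  refine ⟨e₁, ?_, fun x hx => ?_⟩
  · have h : e ∈ J := hJe ▸ Submodule.mem_span_singleton_self e
    rw [← he₁] at h
    exact h
  · have hxJ : m x ∈ J := hx
    rw [hJe, Submodule.mem_span_singleton] at hxJ
    obtain ⟨r, hr⟩ := hxJ
    refine Ideal.Quotient.eq_zero_iff_mem.1 ?_
    show m ((1 - e₁) * x) = 0
    rw [map_mul, map_sub, map_one, show m e₁ = e from he₁, ← hr, smul_eq_mul]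
    linear_combination (-r) * he.eq

set_option maxHeartbeats 1000000 in
/-- Translated coordinates have only trivial relations in the fibre. -/
theorem coordinates_fibre {C T : Type u} [CommRing C] [CommRing T] {n : ℕ}
    [Algebra (MvPolynomial (Fin n) C) T] [Algebra.Etale (MvPolynomial (Fin n) C) T] [Algebra C T]
    [IsScalarTower C (MvPolynomial (Fin n) C) T] (c : Fin n → C) (𝔭 : Ideal T) [𝔭.IsPrime]
    (hf𝔭 : ∀ i, algebraMap (MvPolynomial (Fin n) C) T (MvPolynomial.X i - MvPolynomial.C (c i)) ∈ 𝔭) :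
    ∀ u : Fin n → T, ∑ i, u i * algebraMap (MvPolynomial (Fin n) C) T (MvPolynomial.X i - MvPolynomial.C (c i)) ∈
        (𝔭.comap (algebraMap C T)).map (algebraMap C T) → ∀ i, u i ∈ 𝔭 := by
  classical
  let P := MvPolynomial (Fin n) C
  let q₀ := 𝔭.comap (algebraMap C T)
  let f : Fin n → T := fun i => algebraMap P T (MvPolynomial.X i - MvPolynomial.C (c i))
  intro u hu i
  let A := MvPolynomial (Fin n) (C ⧸ q₀)
  have hPA : ∀ x : P, algebraMap P A x = MvPolynomial.map (Ideal.Quotient.mk q₀) x := fun x => by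
    rw [MvPolynomial.algebraMap_def]; rfl
  let F := A ⊗[P] T
  let π : T →ₐ[P] F := Algebra.TensorProduct.includeRight
  have hπq : (q₀.map (algebraMap C T)) ≤ RingHom.ker π.toRingHom := by
    rw [Ideal.map_le_iff_le_comap]
    intro x hx
    show (1 : A) ⊗ₜ[P] (algebraMap C T x) = 0
    rw [IsScalarTower.algebraMap_apply C P T, Algebra.algebraMap_eq_smul_one (R := P),
      ← TensorProduct.smul_tmul, Algebra.smul_def, mul_one]
    rw [show algebraMap P A (algebraMap C P x) = 0 by
      rw [hPA, MvPolynomial.algebraMap_eq, MvPolynomial.map_C, Ideal.Quotient.eq_zero_iff_mem.2 hx, map_zero], TensorProduct.zero_tmul]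
  haveI hPT : Module.Flat P T := inferInstance
  have hex : IsExact fun j => π (f j) :=
    isExact_includeRight (isExact_X_sub fun j => Ideal.Quotient.mk q₀ (c j))
      (fun j => MvPolynomial.X j - MvPolynomial.C (c j)) fun j => by rw [hPA]; simp
  have hsum : ∑ j, π (u j) * π (f j) = 0 := by
    simp only [← map_mul, ← map_sum]
    exact hπq hu
  have hmem := mem_span_of_sum_eq_zero hex (fun j => π (u j)) hsum i
  let K := T ⧸ 𝔭
  let lA : A →+* K := MvPolynomial.eval₂Hom
    (Ideal.Quotient.lift q₀ ((Ideal.Quotient.mk 𝔭).comp (algebraMap C T))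
      fun x hx => Ideal.Quotient.eq_zero_iff_mem.2 hx)
    fun j => Ideal.Quotient.mk 𝔭 (algebraMap P T (MvPolynomial.X j))
  have hlA : lA.comp (algebraMap P A) = (Ideal.Quotient.mk 𝔭).comp (algebraMap P T) := by
    refine MvPolynomial.ringHom_ext (fun a => ?_) (fun j => ?_)
    · show lA (algebraMap P A (MvPolynomial.C a)) =
        Ideal.Quotient.mk 𝔭 (algebraMap P T (algebraMap C P a))
      rw [hPA, MvPolynomial.map_C, MvPolynomial.eval₂Hom_C, Ideal.Quotient.lift_mk, RingHom.comp_apply,
        ← IsScalarTower.algebraMap_apply C P T]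
    · show lA (algebraMap P A (MvPolynomial.X j)) = _
      rw [hPA, MvPolynomial.map_X, MvPolynomial.eval₂Hom_X']
      rfl
  let lA' : A →ₐ[P] K := ⟨lA, fun x => RingHom.congr_fun hlA x⟩
  let χ : F →ₐ[P] K := Algebra.TensorProduct.lift lA' (Ideal.Quotient.mkₐ P 𝔭) fun _ _ => Commute.all _ _
  have hχ : ∀ t, χ (π t) = Ideal.Quotient.mk 𝔭 t := fun t => by
    show χ ((1 : A) ⊗ₜ[P] t) = _
    rw [Algebra.TensorProduct.lift_tmul, map_one, one_mul]
    rfl
  rw [← Ideal.Quotient.eq_zero_iff_mem, ← hχ]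
  refine (show Ideal.span (Set.range fun j => π (f j)) ≤ RingHom.ker χ.toRingHom from Ideal.span_le.2 ?_) hmem
  rintro _ ⟨j, rfl⟩
  exact (hχ (f j)).trans (Ideal.Quotient.eq_zero_iff_mem.2 (hf𝔭 j))

set_option maxHeartbeats 1000000 in
/-- Coordinates at a point, when the smooth algebra is étale over a polynomial ring. -/
theorem exists_coordinates_aux {C T R : Type u} [CommRing C] [CommRing T] [CommRing R] {n : ℕ}
    [Algebra (MvPolynomial (Fin n) C) T] [Algebra.Etale (MvPolynomial (Fin n) C) T] [Algebra C T]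
    [IsScalarTower C (MvPolynomial (Fin n) C) T] [Algebra C R] (hR : Function.Surjective (algebraMap C R))
    (Φ : T →ₐ[C] R) (𝔭 : Ideal T) [𝔭.IsPrime] (h𝔭 : RingHom.ker Φ.toRingHom ≤ 𝔭) :
    ∃ (f : Fin n → T) (N : Type u) (_ : CommRing N) (_ : Algebra C N) (q : T →ₐ[C] N),
      Algebra.Etale C N ∧ IsExact f ∧ Function.Surjective q ∧ RingHom.ker q.toRingHom = Ideal.span (Set.range f) ∧
      (∀ i, f i ∈ RingHom.ker Φ.toRingHom) ∧
      (∀ u : Fin n → T, ∑ i, u i * f i ∈ (𝔭.comap (algebraMap C T)).map (algebraMap C T) → ∀ i, u i ∈ 𝔭) ∧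
      ∃ δ : T, δ ∉ 𝔭 ∧ ∀ x ∈ RingHom.ker Φ.toRingHom,
        δ * x ∈ (RingHom.ker (algebraMap C R)).map (algebraMap C T) ⊔ Ideal.span (Set.range f) := by
  classical
  let P := MvPolynomial (Fin n) C
  choose c hc using fun i => hR (Φ (algebraMap P T (MvPolynomial.X i)))
  let f : Fin n → T := fun i => algebraMap P T (MvPolynomial.X i - MvPolynomial.C (c i))
  have hfΦ : ∀ i, f i ∈ RingHom.ker Φ.toRingHom := fun i => by
    show Φ (algebraMap P T (MvPolynomial.X i - MvPolynomial.C (c i))) = 0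
    rw [map_sub, map_sub, ← MvPolynomial.algebraMap_eq, ← IsScalarTower.algebraMap_apply C P T, AlgHom.commutes,
      hc, sub_self]
  have hf𝔭 : ∀ i, f i ∈ 𝔭 := fun i => h𝔭 (hfΦ i)
  have hfex : IsExact f := isExact_map (isExact_X_sub c)
  letI : Algebra P C := (MvPolynomial.aeval c : P →ₐ[C] C).toRingHom.toAlgebra
  haveI : IsScalarTower C P C := IsScalarTower.of_algebraMap_eq (R := C) (S := P) (A := C) fun x =>
    ((MvPolynomial.aeval c : P →ₐ[C] C).commutes x).symm
  let N := C ⊗[P] T
  let q : T →ₐ[C] N := (Algebra.TensorProduct.includeRight : T →ₐ[P] N).restrictScalars C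
  have hq : Function.Surjective q := fun z => by
    induction z using TensorProduct.induction_on with
    | zero => exact ⟨0, map_zero q⟩
    | tmul a t =>
      refine ⟨algebraMap C P a • t, ?_⟩
      show (1 : C) ⊗ₜ[P] (algebraMap C P a • t) = a ⊗ₜ[P] t
      rw [← TensorProduct.smul_tmul, Algebra.smul_def, mul_one, ← IsScalarTower.algebraMap_apply]
      rfl
    | add x y hx hy =>
      obtain ⟨x', rfl⟩ := hx
      obtain ⟨y', rfl⟩ := hy
      exact ⟨x' + y', map_add q x' y'⟩
  have hker : RingHom.ker q.toRingHom = Ideal.span (Set.range f) := by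
    refine le_antisymm (fun t ht => ?_) (Ideal.span_le.2 ?_)
    · let M := T ⧸ Ideal.span (Set.range f)
      have hcomp : ((Ideal.Quotient.mk (Ideal.span (Set.range f))).comp (algebraMap P T)) =
          (algebraMap C M).comp (algebraMap P C) := by
        refine MvPolynomial.ringHom_ext (fun a => ?_) (fun i => ?_)
        · show Ideal.Quotient.mk (Ideal.span (Set.range f)) (algebraMap P T (algebraMap C P a)) =
            algebraMap C M (algebraMap P C (algebraMap C P a))
          rw [← IsScalarTower.algebraMap_apply C P T, ← IsScalarTower.algebraMap_apply C P C]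
          rfl
        · show Ideal.Quotient.mk (Ideal.span (Set.range f)) (algebraMap P T (MvPolynomial.X i)) =
            algebraMap C M ((MvPolynomial.aeval c : P →ₐ[C] C) (MvPolynomial.X i))
          rw [MvPolynomial.aeval_X, IsScalarTower.algebraMap_apply C T M, Ideal.Quotient.algebraMap_eq,
            Ideal.Quotient.mk_eq_mk_iff_sub_mem, IsScalarTower.algebraMap_apply C P T, ← map_sub]
          exact Ideal.subset_span ⟨i, rfl⟩
      let L : C →ₐ[P] M := ⟨algebraMap C M, fun x => (RingHom.congr_fun hcomp x).symm⟩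
      let β : N →ₐ[P] M := Algebra.TensorProduct.lift L (Ideal.Quotient.mkₐ P _) fun _ _ => Commute.all _ _
      have h1 : β ((1 : C) ⊗ₜ[P] t) = Ideal.Quotient.mk (Ideal.span (Set.range f)) t := by
        show β _ = _
        rw [Algebra.TensorProduct.lift_tmul, map_one, one_mul]
        rfl
      rw [← Ideal.Quotient.eq_zero_iff_mem, ← h1, show (1 : C) ⊗ₜ[P] t = 0 from ht, map_zero]
    · rintro _ ⟨i, rfl⟩
      show (1 : C) ⊗ₜ[P] (algebraMap P T (MvPolynomial.X i - MvPolynomial.C (c i))) = 0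
      rw [Algebra.algebraMap_eq_smul_one, ← TensorProduct.smul_tmul, Algebra.smul_def, mul_one,
        show algebraMap P C (MvPolynomial.X i - MvPolynomial.C (c i)) = 0 by
          show (MvPolynomial.aeval c : P →ₐ[C] C) _ = 0
          simp, TensorProduct.zero_tmul]
  haveI hN : Algebra.Etale C N := inferInstance
  have hfib := coordinates_fibre c 𝔭 hf𝔭
  refine ⟨f, N, inferInstance, inferInstance, q, hN, hfex, hq, hker, hfΦ, hfib, ?_⟩
  -- the section is cut out by an idempotent
  let I := RingHom.ker (algebraMap C R)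
  have hle : RingHom.ker q.toRingHom ≤ RingHom.ker Φ.toRingHom :=
    hker.trans_le (Ideal.span_le.2 (Set.range_subset_iff.2 hfΦ))
  let Ψr : N →+* R := RingHom.liftOfSurjective q.toRingHom hq ⟨Φ.toRingHom, hle⟩
  have hΨq : ∀ t, Ψr (q t) = Φ t := fun t =>
    RingHom.congr_fun (RingHom.liftOfRightInverse_comp q.toRingHom _ (Function.rightInverse_surjInv hq) ⟨Φ.toRingHom, hle⟩) t
  let Ψ₀ : N →ₐ[C] R := ⟨Ψr, fun x => by
    rw [← q.commutes x]
    exact (hΨq _).trans (Φ.commutes x)⟩
  haveI : Algebra.FiniteType C N := inferInstance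
  obtain ⟨e₁, he₁, hkill⟩ := exists_idempotent_kill hR Ψ₀
  obtain ⟨e₀, he₀⟩ := hq e₁
  have heΦ : Φ e₀ = 0 := by
    rw [← hΨq, he₀]
    exact he₁
  refine ⟨1 - e₀, fun hmem => ?_, fun x hx => ?_⟩
  · exact (Ideal.IsPrime.ne_top' (I := 𝔭)) ((Ideal.eq_top_iff_one _).2 (by
      simpa using add_mem hmem (h𝔭 (show e₀ ∈ RingHom.ker Φ.toRingHom from heΦ))))
  · have h0 := hkill (q x) ((hΨq x).trans hx)
    rw [← he₀, ← map_one q, ← map_sub, ← map_mul] at h0
    have h1 : q.toRingHom ((1 - e₀) * x) ∈ ((I.map (algebraMap C T)).map q.toRingHom) := by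
      rw [Ideal.map_map, show q.toRingHom.comp (algebraMap C T) = algebraMap C N from q.comp_algebraMap]
      exact h0
    have h2 : (1 - e₀) * x ∈ ((I.map (algebraMap C T)).map q.toRingHom).comap q.toRingHom := h1
    rwa [Ideal.comap_map_of_surjective q.toRingHom hq, ← RingHom.ker_eq_comap_bot, hker] at h2

set_option maxHeartbeats 1000000 in
/-- Coordinates at a point of a smooth algebra with a map onto a quotient of the base. -/
theorem exists_coordinates {C E R : Type u} [CommRing C] [CommRing E] [CommRing R] [Algebra C E]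
    [Algebra.Smooth C E] [Algebra C R] (hR : Function.Surjective (algebraMap C R)) (Φ : E →ₐ[C] R)
    (𝔭 : Ideal E) [h𝔭p : 𝔭.IsPrime] (h𝔭 : RingHom.ker Φ.toRingHom ≤ 𝔭) :
    ∃ (G : E) (T : Type u) (_ : CommRing T) (_ : Algebra E T) (_ : Algebra C T) (_ : IsScalarTower C E T)
      (n : ℕ) (f : Fin n → T) (N : Type u) (_ : CommRing N) (_ : Algebra C N) (q : T →ₐ[C] N),
      G ∉ 𝔭 ∧ IsLocalization.Away G T ∧ Module.Flat C N ∧ Algebra.FinitePresentation C N ∧ IsExact f ∧
      Function.Surjective q ∧ RingHom.ker q.toRingHom = Ideal.span (Set.range f) ∧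
      (RingHom.ker Φ.toRingHom).map (algebraMap E T) =
        (RingHom.ker (algebraMap C R)).map (algebraMap C T) ⊔ Ideal.span (Set.range f) ∧
      ∀ u : Fin n → T, ∑ i, u i * f i ∈ (𝔭.comap (algebraMap C E)).map (algebraMap C T) →
        ∀ i, u i ∈ 𝔭.map (algebraMap E T) := by
  classical
  haveI : Algebra.IsSmoothAt C 𝔭 := Set.eq_univ_iff_forall.mp
    (Algebra.smoothLocus_eq_univ_iff.mpr (inferInstance : Algebra.FormallySmooth C E)) ⟨𝔭, h𝔭p⟩
  obtain ⟨g, hg, n, algP, towP, hse⟩ := Algebra.IsSmoothAt.exists_isStandardEtale_mvPolynomial (R := C) (p := 𝔭)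
  obtain ⟨γ, hγ⟩ := hR (Φ g)
  have hγ𝔭 : algebraMap C E γ ∉ 𝔭 := fun h => hg (by
    have : g - algebraMap C E γ ∈ 𝔭 := h𝔭 (by
      show Φ (g - algebraMap C E γ) = 0
      rw [map_sub, AlgHom.commutes, hγ, sub_self])
    simpa using add_mem this h)
  let E₁ := Localization.Away g
  obtain ⟨h𝔭₁, h𝔭₁c⟩ := exists_prime_of_away E₁ 𝔭 hg
  obtain ⟨C', _, _, hC'⟩ : ∃ (C' : Type u) (_ : CommRing C') (_ : Algebra C C'), IsLocalization.Away γ C' :=
    ⟨Localization.Away γ, inferInstance, inferInstance, inferInstance⟩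
  let P := MvPolynomial (Fin n) C
  let P' := MvPolynomial (Fin n) C'
  obtain ⟨T₀, _, _, hT₀⟩ : ∃ (T₀ : Type u) (_ : CommRing T₀) (_ : Algebra E₁ T₀),
      IsLocalization.Away (algebraMap E E₁ (algebraMap C E γ)) T₀ :=
    ⟨Localization.Away (algebraMap E E₁ (algebraMap C E γ)), inferInstance, inferInstance, inferInstance⟩
  letI : Algebra E T₀ := ((algebraMap E₁ T₀).comp (algebraMap E E₁)).toAlgebra
  haveI : IsScalarTower E E₁ T₀ := IsScalarTower.of_algebraMap_eq (R := E) (S := E₁) (A := T₀) fun _ => rfl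
  letI : Algebra C T₀ := ((algebraMap E T₀).comp (algebraMap C E)).toAlgebra
  haveI : IsScalarTower C E T₀ := IsScalarTower.of_algebraMap_eq (R := C) (S := E) (A := T₀) fun _ => rfl
  letI : Algebra P T₀ := ((algebraMap E₁ T₀).comp (algebraMap P E₁)).toAlgebra
  haveI : IsScalarTower P E₁ T₀ := IsScalarTower.of_algebraMap_eq (R := P) (S := E₁) (A := T₀) fun _ => rfl
  haveI : IsScalarTower C P T₀ := IsScalarTower.of_algebraMap_eq (R := C) (S := P) (A := T₀) fun x => by
    show algebraMap E₁ T₀ (algebraMap E E₁ (algebraMap C E x)) = algebraMap E₁ T₀ (algebraMap P E₁ (algebraMap C P x))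
    rw [← IsScalarTower.algebraMap_apply C P E₁, ← IsScalarTower.algebraMap_apply C E E₁]
  obtain ⟨G₀, hG₀, hGT₀⟩ := exists_away_away E₁ 𝔭 hg _ (fun h => hγ𝔭 (h𝔭₁c ▸ h)) T₀
  haveI := hGT₀
  obtain ⟨h𝔭₀, h𝔭₀c⟩ := exists_prime_of_away T₀ 𝔭 hG₀
  have hγT : IsUnit (algebraMap C T₀ γ) :=
    IsLocalization.Away.algebraMap_isUnit (S := T₀) (algebraMap E E₁ (algebraMap C E γ))
  letI : Algebra C' T₀ := (IsLocalization.Away.lift (g := algebraMap C T₀) γ hγT : C' →+* T₀).toAlgebra
  haveI : IsScalarTower C C' T₀ := IsScalarTower.of_algebraMap_eq (R := C) (S := C') (A := T₀) fun x => by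
    show algebraMap C T₀ x = (IsLocalization.Away.lift (g := algebraMap C T₀) γ hγT : C' →+* T₀) (algebraMap C C' x)
    rw [IsLocalization.Away.lift_eq]
  letI : Algebra P P' := (MvPolynomial.map (algebraMap C C')).toAlgebra
  haveI : IsLocalization.Away (algebraMap C P γ) P' := by
    have := MvPolynomial.isLocalization (σ := Fin n) (Submonoid.powers γ) C'
    rwa [Submonoid.map_powers] at this
  letI : Algebra P' T₀ := (MvPolynomial.eval₂Hom (algebraMap C' T₀)
    fun i => algebraMap P T₀ (MvPolynomial.X i)).toAlgebra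
  haveI : IsScalarTower P P' T₀ := IsScalarTower.of_algebraMap_eq' (R := P) (S := P') (A := T₀) (by
    refine MvPolynomial.ringHom_ext (fun a => ?_) (fun i => ?_)
    · show algebraMap P T₀ (algebraMap C P a) =
        MvPolynomial.eval₂Hom _ _ (MvPolynomial.map (algebraMap C C') (MvPolynomial.C a))
      rw [MvPolynomial.map_C, MvPolynomial.eval₂Hom_C, ← IsScalarTower.algebraMap_apply C P T₀,
        ← IsScalarTower.algebraMap_apply C C' T₀]
    · show _ = MvPolynomial.eval₂Hom _ _ (MvPolynomial.map (algebraMap C C') (MvPolynomial.X i))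
      rw [MvPolynomial.map_X, MvPolynomial.eval₂Hom_X'])
  haveI : IsScalarTower C' P' T₀ := IsScalarTower.of_algebraMap_eq (R := C') (S := P') (A := T₀) fun x => by
    show _ = MvPolynomial.eval₂Hom _ _ (MvPolynomial.C x)
    rw [MvPolynomial.eval₂Hom_C]
  haveI : Algebra.Etale P E₁ := inferInstance
  haveI : Algebra.Etale E₁ T₀ := Algebra.Etale.of_isLocalizationAway (algebraMap E E₁ (algebraMap C E γ))
  haveI : Algebra.Etale P T₀ := Algebra.Etale.comp P E₁ T₀
  haveI : Algebra.Etale P P' := Algebra.Etale.of_isLocalizationAway (algebraMap C P γ)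
  haveI : Algebra.Etale P' T₀ := Algebra.Etale.of_restrictScalars P P' T₀
  -- the map to the localised quotient
  obtain ⟨R', _, _, hR'⟩ : ∃ (R' : Type u) (_ : CommRing R') (_ : Algebra R R'),
      IsLocalization.Away (algebraMap C R γ) R' :=
    ⟨Localization.Away (algebraMap C R γ), inferInstance, inferInstance, inferInstance⟩
  letI : Algebra C R' := ((algebraMap R R').comp (algebraMap C R)).toAlgebra
  have hγR : IsUnit (algebraMap C R' γ) := IsLocalization.Away.algebraMap_isUnit (S := R') (algebraMap C R γ)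
  letI : Algebra C' R' := (IsLocalization.Away.map C' R' (algebraMap C R) γ).toAlgebra
  have hC'R : ∀ x, algebraMap C' R' (algebraMap C C' x) = algebraMap R R' (algebraMap C R x) := fun x => by
    show IsLocalization.Away.map C' R' (algebraMap C R) γ (algebraMap C C' x) = _
    rw [IsLocalization.Away.map, IsLocalization.map_eq]
  have hR'surj : Function.Surjective (algebraMap C' R') := away_map_surjective hR γ
  let Φ₁ : E₁ →+* R' := IsLocalization.Away.lift (g := (algebraMap R R').comp Φ.toRingHom) g (by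
    show IsUnit (algebraMap R R' (Φ g))
    rw [← hγ]
    exact hγR)
  have hΦ₁ : ∀ x, Φ₁ (algebraMap E E₁ x) = algebraMap R R' (Φ x) := fun x => IsLocalization.Away.lift_eq _ _ x
  let Φ₀ : T₀ →+* R' := IsLocalization.Away.lift (g := Φ₁) (algebraMap E E₁ (algebraMap C E γ)) (by
    rw [hΦ₁, AlgHom.commutes]
    exact hγR)
  have hΦ₀ : ∀ x, Φ₀ (algebraMap E T₀ x) = algebraMap R R' (Φ x) := fun x =>
    (IsLocalization.Away.lift_eq _ _ _).trans (hΦ₁ x)
  have hΦ₀C : Φ₀.comp (algebraMap C' T₀) = algebraMap C' R' := by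
    refine IsLocalization.ringHom_ext (Submonoid.powers γ) (RingHom.ext fun x => ?_)
    show Φ₀ (algebraMap C' T₀ (algebraMap C C' x)) = algebraMap C' R' (algebraMap C C' x)
    rw [← IsScalarTower.algebraMap_apply C C' T₀, IsScalarTower.algebraMap_apply C E T₀, hΦ₀, AlgHom.commutes,
      hC'R]
  let Φ' : T₀ →ₐ[C'] R' := ⟨Φ₀, RingHom.congr_fun hΦ₀C⟩
  have hker₀ : RingHom.ker Φ₀ = (RingHom.ker Φ.toRingHom).map (algebraMap E T₀) := by
    refine le_antisymm (fun z hz => ?_) (Ideal.map_le_iff_le_comap.2 fun x hx => ?_)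
    · obtain ⟨⟨x, s⟩, hxs⟩ := IsLocalization.surj (Submonoid.powers G₀) z
      have h1 : algebraMap R R' (Φ x) = 0 := by
        rw [← hΦ₀, ← hxs, map_mul, show Φ₀ z = 0 from hz, zero_mul]
      obtain ⟨⟨_, k, rfl⟩, hk⟩ :=
        (IsLocalization.map_eq_zero_iff (Submonoid.powers (algebraMap C R γ)) R' _).1 h1
      have hu : IsUnit (algebraMap E T₀ (algebraMap C E γ ^ k)) := by
        rw [map_pow, ← IsScalarTower.algebraMap_apply]
        exact hγT.pow k
      rw [← Ideal.unit_mul_mem_iff_mem _ (hu.mul (IsLocalization.map_units T₀ s)), mul_assoc,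
        mul_comm (algebraMap E T₀ s) z, hxs, ← map_mul]
      refine Ideal.mem_map_of_mem _ ?_
      show Φ (algebraMap C E γ ^ k * x) = 0
      rw [map_mul, map_pow, AlgHom.commutes]
      exact hk
    · show Φ₀ (algebraMap E T₀ x) = 0
      rw [hΦ₀, show Φ x = 0 from hx, map_zero]
  obtain ⟨f, N, _, _, q, hNet, hfex, hq, hqk, hfΦ, hfib, δ, hδ, hδK⟩ := exists_coordinates_aux (C := C') (T := T₀) (n := n) hR'surj Φ'
    (𝔭.map (algebraMap E T₀)) (hker₀.trans_le (Ideal.map_mono h𝔭))
  haveI := hNet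
  obtain ⟨T, _, _, hT⟩ : ∃ (T : Type u) (_ : CommRing T) (_ : Algebra T₀ T), IsLocalization.Away δ T :=
    ⟨Localization.Away δ, inferInstance, inferInstance, inferInstance⟩
  letI : Algebra E T := ((algebraMap T₀ T).comp (algebraMap E T₀)).toAlgebra
  haveI : IsScalarTower E T₀ T := IsScalarTower.of_algebraMap_eq (R := E) (S := T₀) (A := T) fun _ => rfl
  letI : Algebra C T := ((algebraMap T₀ T).comp (algebraMap C T₀)).toAlgebra
  haveI : IsScalarTower C T₀ T := IsScalarTower.of_algebraMap_eq (R := C) (S := T₀) (A := T) fun _ => rfl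
  haveI : IsScalarTower C E T := IsScalarTower.of_algebraMap_eq (R := C) (S := E) (A := T) fun _ => rfl
  obtain ⟨G, hG, hGT⟩ := exists_away_away T₀ 𝔭 hG₀ δ hδ T
  haveI := hGT
  letI : Algebra C N := ((algebraMap C' N).comp (algebraMap C C')).toAlgebra
  haveI : IsScalarTower C C' N := IsScalarTower.of_algebraMap_eq (R := C) (S := C') (A := N) fun _ => rfl
  haveI : Algebra.Etale C C' := Algebra.Etale.of_isLocalizationAway γ
  haveI : Algebra.Etale C N := Algebra.Etale.comp C C' N
  obtain ⟨N₁, _, _, hN₁⟩ : ∃ (N₁ : Type u) (_ : CommRing N₁) (_ : Algebra N N₁), IsLocalization.Away (q δ) N₁ :=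
    ⟨Localization.Away (q δ), inferInstance, inferInstance, inferInstance⟩
  letI : Algebra C N₁ := ((algebraMap N N₁).comp (algebraMap C N)).toAlgebra
  haveI : IsScalarTower C N N₁ := IsScalarTower.of_algebraMap_eq (R := C) (S := N) (A := N₁) fun _ => rfl
  haveI : IsLocalization.Away (q.toRingHom δ) N₁ := hN₁
  haveI : Algebra.Etale N N₁ := Algebra.Etale.of_isLocalizationAway (q δ)
  haveI : Algebra.Etale C N₁ := Algebra.Etale.comp C N N₁
  let q₁ : T →+* N₁ := IsLocalization.Away.map T N₁ q.toRingHom δ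
  let q' : T →ₐ[C] N₁ := ⟨q₁, fun x => by
    show q₁ (algebraMap T₀ T (algebraMap C T₀ x)) = _
    refine (IsLocalization.map_eq _ _).trans ?_
    show algebraMap N N₁ (q (algebraMap C T₀ x)) = algebraMap N N₁ (algebraMap C N x)
    rw [IsScalarTower.algebraMap_apply C C' T₀, AlgHom.commutes]
    rfl⟩
  have hδf : Module.Flat T₀ T := IsLocalization.flat T (Submonoid.powers δ)
  refine ⟨G, T, inferInstance, inferInstance, inferInstance, inferInstance, n, fun i => algebraMap T₀ T (f i), N₁,
    inferInstance, inferInstance, q', hG, hGT, inferInstance, inferInstance, isExact_map hfex,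
    away_map_surjective hq δ, ?_, ?_, ?_⟩
  · refine (IsLocalization.ker_map N₁ q.toRingHom (Submonoid.map_powers q.toRingHom δ)).trans ?_
    rw [hqk, Ideal.map_span, ← Set.range_comp]
    rfl
  · have hI' : RingHom.ker (algebraMap C' R') = (RingHom.ker (algebraMap C R)).map (algebraMap C C') :=
      IsLocalization.ker_map R' (algebraMap C R) (Submonoid.map_powers _ γ)
    have hfK : Ideal.span (Set.range f) ≤ (RingHom.ker Φ.toRingHom).map (algebraMap E T₀) := by
      rw [← hker₀]
      exact Ideal.span_le.2 (Set.range_subset_iff.2 hfΦ)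
    have hcomb : ((RingHom.ker (algebraMap C' R')).map (algebraMap C' T₀) ⊔ Ideal.span (Set.range f)).map
        (algebraMap T₀ T) = (RingHom.ker (algebraMap C R)).map (algebraMap C T) ⊔
          Ideal.span (Set.range fun i => algebraMap T₀ T (f i)) := by
      rw [Ideal.map_sup, hI', Ideal.map_map, Ideal.map_map, Ideal.map_span, ← Set.range_comp]
      congr 2
      · rw [RingHom.comp_assoc, ← IsScalarTower.algebraMap_eq C C' T₀]
        rfl
    rw [← hcomb, IsScalarTower.algebraMap_eq E T₀ T, ← Ideal.map_map]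
    refine le_antisymm ?_ (Ideal.map_mono (sup_le ?_ hfK))
    · rw [Ideal.map_le_iff_le_comap, ← hker₀]
      intro x hx
      rw [Ideal.mem_comap, ← Ideal.unit_mul_mem_iff_mem _ (IsLocalization.Away.algebraMap_isUnit (S := T) δ),
        ← map_mul]
      exact Ideal.mem_map_of_mem _ (hδK x hx)
    · rw [← hker₀, Ideal.map_le_iff_le_comap]
      intro x hx
      show Φ₀ (algebraMap C' T₀ x) = 0
      exact (RingHom.congr_fun hΦ₀C x).trans hx
  · intro u hu
    let 𝔭₀ := 𝔭.map (algebraMap E T₀)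
    obtain ⟨s, hs⟩ := IsLocalization.exist_integer_multiples_of_finite (Submonoid.powers δ) u
    choose v hv using hs
    have hsum : algebraMap T₀ T (∑ i, v i * f i) = algebraMap T₀ T s * ∑ i, u i * algebraMap T₀ T (f i) := by
      rw [map_sum, Finset.mul_sum]
      exact Finset.sum_congr rfl fun i _ => by rw [map_mul, hv, Algebra.smul_def, mul_assoc]
    have h1 : algebraMap T₀ T (∑ i, v i * f i) ∈
        ((𝔭₀.comap (algebraMap C' T₀)).map (algebraMap C' T₀)).map (algebraMap T₀ T) := by
      rw [hsum]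
      refine Ideal.mul_mem_left _ _ ((show (𝔭.comap (algebraMap C E)).map (algebraMap C T) ≤
        ((𝔭₀.comap (algebraMap C' T₀)).map (algebraMap C' T₀)).map (algebraMap T₀ T) from ?_) hu)
      rw [IsScalarTower.algebraMap_eq C T₀ T, ← Ideal.map_map, IsScalarTower.algebraMap_eq C C' T₀, ← Ideal.map_map]
      refine Ideal.map_mono (Ideal.map_mono (Ideal.map_le_iff_le_comap.2 fun x hx => ?_))
      show algebraMap C' T₀ (algebraMap C C' x) ∈ 𝔭₀
      rw [← IsScalarTower.algebraMap_apply, IsScalarTower.algebraMap_apply C E T₀]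
      exact Ideal.mem_map_of_mem _ hx
    obtain ⟨s', hs', hmem⟩ := (IsLocalization.algebraMap_mem_map_algebraMap_iff (Submonoid.powers δ) T _ _).1 h1
    intro i
    have h2 := hfib (fun i => s' * v i) (by simpa only [Finset.mul_sum, mul_assoc] using hmem) i
    have hnot : s' ∉ 𝔭₀ := by
      obtain ⟨k, rfl⟩ := hs'
      exact fun hk => hδ (h𝔭₀.mem_of_pow_mem k hk)
    have h3 : algebraMap T₀ T (v i) ∈ 𝔭₀.map (algebraMap T₀ T) :=
      Ideal.mem_map_of_mem _ ((h𝔭₀.mem_or_mem h2).resolve_left hnot)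
    rw [hv, Algebra.smul_def, Ideal.unit_mul_mem_iff_mem _ (IsLocalization.map_units T s)] at h3
    rw [IsScalarTower.algebraMap_eq E T₀ T, ← Ideal.map_map]
    exact h3

set_option maxHeartbeats 1000000 in
/-- Koszul regularity of the two kernels is equivalent. -/
theorem kReg_smooth_iff {C E R : Type u} [CommRing C] [CommRing E] [CommRing R] [Algebra C E]
    [Algebra.Smooth C E] [Algebra C R] (hR : Function.Surjective (algebraMap C R)) (Φ : E →ₐ[C] R)
    (𝔭 : Ideal E) [h𝔭p : 𝔭.IsPrime] (h𝔭 : RingHom.ker Φ.toRingHom ≤ 𝔭) :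
    KReg (RingHom.ker Φ.toRingHom) 𝔭 ↔ KReg (RingHom.ker (algebraMap C R)) (𝔭.comap (algebraMap C E)) := by
  obtain ⟨G, T, _, _, _, _, n, f, N, _, _, q, hG, hGT, hNfl, hNfp, hf, hq, hker, hK, hfib⟩ :=
    exists_coordinates hR Φ 𝔭 h𝔭
  haveI := hGT; haveI := hNfl; haveI := hNfp
  obtain ⟨h𝔓, h𝔓c⟩ := exists_prime_of_away T 𝔭 hG
  let 𝔓 := 𝔭.map (algebraMap E T)
  haveI : Module.Flat E T := IsLocalization.flat T (Submonoid.powers G)
  haveI : Module.Flat C T := Module.Flat.trans C E T
  let I := RingHom.ker (algebraMap C R)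
  let 𝔑 := 𝔓.map q.toRingHom
  have hf𝔓 : RingHom.ker q.toRingHom ≤ 𝔓 := by
    rw [hker]
    exact le_sup_right.trans (hK.symm.trans_le (Ideal.map_mono h𝔭))
  haveI h𝔑 : 𝔑.IsPrime := Ideal.map_isPrime_of_surjective hq hf𝔓
  have h𝔑c : 𝔑.comap q.toRingHom = 𝔓 := by
    show (𝔓.map q.toRingHom).comap q.toRingHom = 𝔓
    rw [Ideal.comap_map_of_surjective q.toRingHom hq, ← RingHom.ker_eq_comap_bot]
    exact sup_eq_left.2 hf𝔓
  have hq₀ : 𝔓.comap (algebraMap C T) = 𝔭.comap (algebraMap C E) := by
    rw [IsScalarTower.algebraMap_eq C E T, ← Ideal.comap_comap, h𝔓c]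
  have hI𝔓 : I.map (algebraMap C T) ≤ 𝔓 := le_sup_left.trans (hK.symm.trans_le (Ideal.map_mono h𝔭))
  have hqa : q.toRingHom.comp (algebraMap C T) = algebraMap C N := q.comp_algebraMap
  constructor
  · intro h
    have h1 : KReg (I.map (algebraMap C T) ⊔ Ideal.span (Set.range f)) (𝔑.comap q.toRingHom) := by
      rw [h𝔑c, ← hK]
      exact KReg.map (h𝔓c.symm ▸ h)
    have h2 := KReg.cancel q.toRingHom hq f hf hker I 𝔑 (by
      rw [← Ideal.map_map]; exact Ideal.map_mono hI𝔓) (fun u hu i => h𝔑c ▸ hfib u (hq₀ ▸ h𝔑c ▸ hu) i) h1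
    rw [hqa] at h2
    have h3 := KReg.descend I 𝔑 (by rw [← hqa, ← Ideal.map_map]; exact Ideal.map_mono hI𝔓) h2
    rwa [← hqa, ← Ideal.comap_comap, h𝔑c, hq₀] at h3
  · intro h
    obtain ⟨γ, hγ, hon⟩ := h.exists_on
    obtain ⟨T', _, _, hT'⟩ : ∃ (T' : Type u) (_ : CommRing T') (_ : Algebra T T'),
        IsLocalization.Away (algebraMap C T γ) T' :=
      ⟨Localization.Away (algebraMap C T γ), inferInstance, inferInstance, inferInstance⟩
    obtain ⟨N', _, _, hN'⟩ : ∃ (N' : Type u) (_ : CommRing N') (_ : Algebra N N'),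
        IsLocalization.Away (q.toRingHom (algebraMap C T γ)) N' :=
      ⟨Localization.Away (q.toRingHom (algebraMap C T γ)), inferInstance, inferInstance, inferInstance⟩
    letI : Algebra E T' := ((algebraMap T T').comp (algebraMap E T)).toAlgebra
    haveI : IsScalarTower E T T' := IsScalarTower.of_algebraMap_eq (R := E) (S := T) (A := T') fun _ => rfl
    letI : Algebra C N' := ((algebraMap N N').comp (algebraMap C N)).toAlgebra
    haveI : IsScalarTower C N N' := IsScalarTower.of_algebraMap_eq (R := C) (S := N) (A := N') fun _ => rfl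
    haveI : Module.Flat N N' := IsLocalization.flat N' (Submonoid.powers (q.toRingHom (algebraMap C T γ)))
    haveI : Module.Flat C N' := Module.Flat.trans C N N'
    obtain ⟨s, b, hb, hbI⟩ := hon N' (by
      show IsUnit (algebraMap N N' (algebraMap C N γ))
      rw [← RingHom.congr_fun hqa γ]
      exact IsLocalization.Away.algebraMap_isUnit _)
    let q' : T' →+* N' := IsLocalization.Away.map T' N' q.toRingHom (algebraMap C T γ)
    have hq' : Function.Surjective q' := away_map_surjective hq _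
    choose b' hb' using fun i => hq' (b i)
    haveI : Module.Flat T T' := IsLocalization.flat T' (Submonoid.powers (algebraMap C T γ))
    let f' : Fin n → T' := fun i => algebraMap T T' (f i)
    have hk' : RingHom.ker q' = Ideal.span (Set.range f') := by
      refine (IsLocalization.ker_map N' q.toRingHom (Submonoid.map_powers _ _)).trans ?_
      rw [hker, Ideal.map_span, ← Set.range_comp]
      rfl
    obtain ⟨G', hG', hG'T⟩ := exists_away_away T 𝔭 hG (algebraMap C T γ)
      (fun hm => hγ (hq₀ ▸ hm : γ ∈ 𝔭.comap (algebraMap C E))) T'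
    haveI := hG'T
    refine KReg.of_on G' hG' T' ⟨n + s, appendSeq f' s b',
      isExact_appendSeq (isExact_map hf) hq' hk' b' (by simpa only [hb'] using hb), ?_⟩
    have hqc : q'.comp (algebraMap T T') = (algebraMap N N').comp q.toRingHom := IsLocalization.map_comp _
    have hIT : ((I.map (algebraMap C T)).map (algebraMap T T')).map q' = Ideal.span (Set.range b) := by
      rw [Ideal.map_map, Ideal.map_map, RingHom.comp_assoc, ← RingHom.comp_assoc (algebraMap C T),
        ← hbI, hqc, RingHom.comp_assoc, hqa]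
      rfl
    have hbb : (Ideal.span (Set.range b')).map q' = Ideal.span (Set.range b) := by
      rw [Ideal.map_span, ← Set.range_comp]
      exact congrArg (fun z => Ideal.span (Set.range z)) (funext hb')
    have hKT : (RingHom.ker Φ.toRingHom).map (algebraMap E T') =
        (I.map (algebraMap C T)).map (algebraMap T T') ⊔ RingHom.ker q' := by
      rw [IsScalarTower.algebraMap_eq E T T', ← Ideal.map_map, hK, Ideal.map_sup, hk', Ideal.map_span,
        ← Set.range_comp]
      rfl
    rw [hKT, span_appendSeq, ← hk', sup_comm (RingHom.ker q'), RingHom.ker_eq_comap_bot,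
      ← Ideal.comap_map_of_surjective q' hq', ← Ideal.comap_map_of_surjective q' hq', hIT, hbb]

end Groth.Agent.KRegLib
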