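import Mathlib
import Groth.Agent.KRegLib.Smooth

/-!
# Local complete intersection ring maps

Independence of the presentation, locality and composition.
-/

set_option autoImplicit false
set_option linter.style.haveILetI false
set_option backward.isDefEq.respectTransparency false

universe u

open TensorProduct

namespace Groth.Agent.KRegLib

/-- Invariance under a ring isomorphism. -/
theorem KReg.map_equiv {P P' : Type u} [CommRing P] [CommRing P'] (σ : P ≃+* P') {I 𝔭 : Ideal P}
    (h : KReg I 𝔭) : KReg (I.map σ.toRingHom) (𝔭.comap σ.symm.toRingHom) := by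
  letI := σ.toRingHom.toAlgebra
  haveI : Module.Flat P P' := RingHom.Flat.of_bijective (f := σ.toRingHom) σ.bijective
  refine KReg.map (P := P) (P' := P') ((?_ : (𝔭.comap σ.symm.toRingHom).comap (algebraMap P P') = 𝔭).symm ▸ h)
  ext x
  show σ.symm (σ x) ∈ 𝔭 ↔ x ∈ 𝔭
  rw [σ.symm_apply_apply]

/-- Koszul regularity may be read on an open neighbourhood. -/
theorem KReg.of_away {P : Type u} [CommRing P] {I 𝔭 : Ideal P} [𝔭.IsPrime] {g : P} (hg : g ∉ 𝔭) (T : Type u)
    [CommRing T] [Algebra P T] [IsLocalization.Away g T]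
    (h : KReg (I.map (algebraMap P T)) (𝔭.map (algebraMap P T))) : KReg I 𝔭 := by
  obtain ⟨d, hd, n, f, hf, hI⟩ := h
  obtain ⟨T', _, _, hT'⟩ : ∃ (T' : Type u) (_ : CommRing T') (_ : Algebra T T'), IsLocalization.Away d T' :=
    ⟨Localization.Away d, inferInstance, inferInstance, inferInstance⟩
  letI : Algebra P T' := ((algebraMap T T').comp (algebraMap P T)).toAlgebra
  haveI : IsScalarTower P T T' := IsScalarTower.of_algebraMap_eq (R := P) (S := T) (A := T') fun _ => rfl
  let e : Localization.Away d ≃ₐ[T] T' := IsLocalization.algEquiv (Submonoid.powers d) _ _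
  obtain ⟨G, hG, hGT⟩ := exists_away_away T 𝔭 hg d hd T'
  haveI := hGT
  refine KReg.of_on G hG T' ⟨n, fun i => e.toRingEquiv (f i), isExact_ringEquiv e.toRingEquiv hf, ?_⟩
  rw [IsScalarTower.algebraMap_eq P T T', ← Ideal.map_map,
    show algebraMap T T' = e.toAlgHom.toRingHom.comp (algebraMap T (Localization.Away d)) from
      e.toAlgHom.comp_algebraMap.symm, ← Ideal.map_map, hI, Ideal.map_span, ← Set.range_comp]
  rfl

/-- The kernel on a tensor product compared with the left factor. -/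
theorem kReg_tensor_iff {A C₁ C₂ R : Type u} [CommRing A] [CommRing C₁] [CommRing C₂] [CommRing R] [Algebra A C₁]
    [Algebra A C₂] [Algebra A R] [Algebra.Smooth A C₂] (ψ₁ : C₁ →ₐ[A] R) (ψ₂ : C₂ →ₐ[A] R)
    (h1 : Function.Surjective ψ₁) (𝔯 : Ideal R) [𝔯.IsPrime] :
    KReg (RingHom.ker (Algebra.TensorProduct.productMap ψ₁ ψ₂).toRingHom)
        (𝔯.comap (Algebra.TensorProduct.productMap ψ₁ ψ₂).toRingHom) ↔
      KReg (RingHom.ker ψ₁.toRingHom) (𝔯.comap ψ₁.toRingHom) := by
  letI : Algebra C₁ R := ψ₁.toRingHom.toAlgebra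
  let Ω := Algebra.TensorProduct.productMap ψ₁ ψ₂
  let Φ : C₁ ⊗[A] C₂ →ₐ[C₁] R := ⟨Ω.toRingHom, fun x => by
    show Ω (x ⊗ₜ[A] 1) = ψ₁ x
    rw [Algebra.TensorProduct.productMap_apply_tmul, map_one, mul_one]⟩
  have hc : (𝔯.comap Φ.toRingHom).comap (algebraMap C₁ (C₁ ⊗[A] C₂)) = 𝔯.comap ψ₁.toRingHom := by
    rw [Ideal.comap_comap]
    exact congrArg (fun r : C₁ →+* R => 𝔯.comap r) (RingHom.ext fun x => Φ.commutes x)
  have h := kReg_smooth_iff (C := C₁) (E := C₁ ⊗[A] C₂) (R := R) h1 Φ (𝔯.comap Φ.toRingHom)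
    fun x hx => show Φ x ∈ 𝔯 by rw [show Φ x = 0 from hx]; exact zero_mem _
  rw [hc] at h
  exact h

/-- Independence of the smooth algebra covering a quotient. -/
theorem kReg_transfer {A C₁ C₂ R : Type u} [CommRing A] [CommRing C₁] [CommRing C₂] [CommRing R] [Algebra A C₁]
    [Algebra A C₂] [Algebra A R] [Algebra.Smooth A C₁] [Algebra.Smooth A C₂] (ψ₁ : C₁ →ₐ[A] R) (ψ₂ : C₂ →ₐ[A] R)
    (h1 : Function.Surjective ψ₁) (h2 : Function.Surjective ψ₂) (𝔯 : Ideal R) [𝔯.IsPrime]
    (h : KReg (RingHom.ker ψ₁.toRingHom) (𝔯.comap ψ₁.toRingHom)) :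
    KReg (RingHom.ker ψ₂.toRingHom) (𝔯.comap ψ₂.toRingHom) := by
  refine (kReg_tensor_iff ψ₂ ψ₁ h2 𝔯).1 ?_
  let σ := (Algebra.TensorProduct.comm A C₁ C₂)
  have hcomp : ∀ z, Algebra.TensorProduct.productMap ψ₁ ψ₂ z = Algebra.TensorProduct.productMap ψ₂ ψ₁ (σ z) := by
    intro z
    induction z using TensorProduct.induction_on with
    | zero => simp
    | tmul a b => simp [σ, mul_comm]
    | add x y hx hy => simp [map_add, hx, hy]
  have h' := KReg.map_equiv σ.toRingEquiv ((kReg_tensor_iff ψ₁ ψ₂ h1 𝔯).2 h)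
  have e1 : (RingHom.ker (Algebra.TensorProduct.productMap ψ₁ ψ₂).toRingHom).map σ.toRingEquiv.toRingHom =
      RingHom.ker (Algebra.TensorProduct.productMap ψ₂ ψ₁).toRingHom := by
    refine le_antisymm (Ideal.map_le_iff_le_comap.2 fun z hz => ?_) fun w hw => ?_
    · show Algebra.TensorProduct.productMap ψ₂ ψ₁ (σ z) = 0
      rw [← hcomp]
      exact hz
    · rw [← σ.apply_symm_apply w]
      refine Ideal.mem_map_of_mem σ.toRingEquiv.toRingHom ?_
      show Algebra.TensorProduct.productMap ψ₁ ψ₂ (σ.symm w) = 0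
      rw [hcomp, AlgEquiv.apply_symm_apply]
      exact hw
  have e2 : (𝔯.comap (Algebra.TensorProduct.productMap ψ₁ ψ₂).toRingHom).comap σ.toRingEquiv.symm.toRingHom =
      𝔯.comap (Algebra.TensorProduct.productMap ψ₂ ψ₁).toRingHom := by
    ext w
    show Algebra.TensorProduct.productMap ψ₁ ψ₂ (σ.symm w) ∈ 𝔯 ↔ _
    rw [hcomp, AlgEquiv.apply_symm_apply]
    rfl
  rwa [e1, e2] at h'

/-- Over a presentation by a smooth algebra, a local complete intersection has Koszul regular kernel. -/
theorem kReg_of_isLCI {A B C : Type u} [CommRing A] [CommRing B] [CommRing C] [Algebra A B] [Algebra A C]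
    [Algebra.Smooth A C] (h : LCI.IsLCI A B) (ψ : C →ₐ[A] B) (hψ : Function.Surjective ψ) (𝔮 : Ideal B) [𝔮.IsPrime] :
    KReg (RingHom.ker ψ.toRingHom) (𝔮.comap ψ.toRingHom) := by
  obtain ⟨-, n, φ, hφ, hK⟩ := h
  haveI : Algebra.Smooth A (MvPolynomial (Fin n) A) := ⟨inferInstance, inferInstance⟩
  refine kReg_transfer φ ψ hφ hψ 𝔮 ((isKoszulRegularIdeal_iff _).1 hK _ (Ideal.comap_isPrime _ _) ?_)
  intro x hx
  rw [Ideal.mem_comap, show φ.toRingHom x = 0 from hx]
  exact zero_mem _

/-- A quotient of a smooth algebra by an ideal that is Koszul regular at every point is a local complete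
intersection. -/
theorem isLCI_of_kReg {A B C : Type u} [CommRing A] [CommRing B] [CommRing C] [Algebra A B] [Algebra A C]
    [Algebra.Smooth A C] (ψ : C →ₐ[A] B) (hψ : Function.Surjective ψ)
    (h : ∀ (𝔮 : Ideal B) [𝔮.IsPrime], KReg (RingHom.ker ψ.toRingHom) (𝔮.comap ψ.toRingHom)) : LCI.IsLCI A B := by
  haveI hB : Algebra.FiniteType A B := Algebra.FiniteType.of_surjective ψ hψ
  obtain ⟨n, φ, hφ⟩ := Algebra.FiniteType.iff_quotient_mvPolynomial''.1 hB
  haveI : Algebra.Smooth A (MvPolynomial (Fin n) A) := ⟨inferInstance, inferInstance⟩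
  refine ⟨hB, n, φ, hφ, (isKoszulRegularIdeal_iff _).2 fun 𝔭 h𝔭 hle => ?_⟩
  haveI : (𝔭.map φ.toRingHom).IsPrime := Ideal.map_isPrime_of_surjective (f := φ.toRingHom) hφ hle
  have hc : (𝔭.map φ.toRingHom).comap φ.toRingHom = 𝔭 := by
    rw [Ideal.comap_map_of_surjective φ.toRingHom hφ, ← RingHom.ker_eq_comap_bot]
    exact sup_eq_left.2 hle
  have := kReg_transfer ψ φ hψ hφ (𝔭.map φ.toRingHom) (h _)
  rwa [hc] at this

/-- Independence of the presentation. -/
theorem isKoszulRegularIdeal_ker_transfer {A B : Type u} [CommRing A] [CommRing B] [Algebra A B] {n m : ℕ}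
    (α : MvPolynomial (Fin n) A →ₐ[A] B) (hα : Function.Surjective α) (β : MvPolynomial (Fin m) A →ₐ[A] B)
    (hβ : Function.Surjective β) (h : LCI.IsKoszulRegularIdeal (RingHom.ker α.toRingHom)) :
    LCI.IsKoszulRegularIdeal (RingHom.ker β.toRingHom) := by
  haveI : Algebra.Smooth A (MvPolynomial (Fin m) A) := ⟨inferInstance, inferInstance⟩
  have hL : LCI.IsLCI A B := ⟨Algebra.FiniteType.of_surjective α hα, n, α, hα, h⟩
  refine (isKoszulRegularIdeal_iff _).2 fun 𝔭 h𝔭 hle => ?_
  haveI : (𝔭.map β.toRingHom).IsPrime := Ideal.map_isPrime_of_surjective (f := β.toRingHom) hβ hle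
  have hc : (𝔭.map β.toRingHom).comap β.toRingHom = 𝔭 := by
    rw [Ideal.comap_map_of_surjective β.toRingHom hβ, ← RingHom.ker_eq_comap_bot]
    exact sup_eq_left.2 hle
  have := kReg_of_isLCI hL β hβ (𝔭.map β.toRingHom)
  rwa [hc] at this

/-- Localising the target preserves local complete intersections. -/
theorem isLCI_away_target {A B : Type u} [CommRing A] [CommRing B] [Algebra A B] (h : LCI.IsLCI A B) (b : B)
    (B' : Type u) [CommRing B'] [Algebra A B'] [Algebra B B'] [IsScalarTower A B B'] [IsLocalization.Away b B'] :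
    LCI.IsLCI A B' := by
  obtain ⟨-, n, φ, hφ, hK⟩ := id h
  let P := MvPolynomial (Fin n) A
  haveI : Algebra.Smooth A P := ⟨inferInstance, inferInstance⟩
  obtain ⟨c, hc⟩ := hφ b
  obtain ⟨C, _, _, hC⟩ : ∃ (C : Type u) (_ : CommRing C) (_ : Algebra P C), IsLocalization.Away c C :=
    ⟨Localization.Away c, inferInstance, inferInstance, inferInstance⟩
  letI : Algebra A C := ((algebraMap P C).comp (algebraMap A P)).toAlgebra
  haveI : IsScalarTower A P C := IsScalarTower.of_algebraMap_eq (R := A) (S := P) (A := C) fun _ => rfl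
  haveI : Algebra.Smooth P C := Algebra.Smooth.of_isLocalization_Away c
  haveI : Algebra.Smooth A C := Algebra.Smooth.comp A P C
  subst hc
  haveI : IsLocalization.Away (φ.toRingHom c) B' := ‹IsLocalization.Away (φ c) B'›
  let ψ₀ : C →+* B' := IsLocalization.Away.map C B' φ.toRingHom c
  have hψ₀ : ∀ x, ψ₀ (algebraMap P C x) = algebraMap B B' (φ x) := fun x => by
    show IsLocalization.Away.map C B' φ.toRingHom c (algebraMap P C x) = _
    rw [IsLocalization.Away.map, IsLocalization.map_eq]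
    rfl
  let ψ : C →ₐ[A] B' := ⟨ψ₀, fun x => by
    show ψ₀ (algebraMap P C (algebraMap A P x)) = _
    rw [hψ₀, AlgHom.commutes, ← IsScalarTower.algebraMap_apply]⟩
  refine isLCI_of_kReg ψ (away_map_surjective hφ c) fun 𝔮 _ => ?_
  have hk : RingHom.ker ψ.toRingHom = (RingHom.ker φ.toRingHom).map (algebraMap P C) :=
    IsLocalization.ker_map B' φ.toRingHom (Submonoid.map_powers φ.toRingHom c)
  haveI : Module.Flat P C := IsLocalization.flat C (Submonoid.powers c)
  rw [hk]
  refine KReg.map ?_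
  have h1 := kReg_of_isLCI h φ hφ (𝔮.comap (algebraMap B B'))
  rw [Ideal.comap_comap] at h1
  rw [Ideal.comap_comap, show ψ.toRingHom.comp (algebraMap P C) = (algebraMap B B').comp φ.toRingHom from
    RingHom.ext hψ₀]
  exact h1

/-- Local complete intersections form a local notion on the target. -/
theorem isLCI_of_span {A B : Type u} [CommRing A] [CommRing B] [Algebra A B] (s : Set B) (hs : Ideal.span s = ⊤)
    (h : ∀ g ∈ s, LCI.IsLCI A (Localization.Away g)) : LCI.IsLCI A B := by
  haveI hB : Algebra.FiniteType A B :=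
    RingHom.finiteType_algebraMap.1 (RingHom.finiteType_ofLocalizationSpanTarget (algebraMap A B) s hs fun g => by
      rw [← IsScalarTower.algebraMap_eq A B (Localization.Away g.1)]
      exact RingHom.finiteType_algebraMap.2 (h g.1 g.2).1)
  obtain ⟨n, φ, hφ⟩ := Algebra.FiniteType.iff_quotient_mvPolynomial''.1 hB
  let P := MvPolynomial (Fin n) A
  haveI : Algebra.Smooth A P := ⟨inferInstance, inferInstance⟩
  refine isLCI_of_kReg φ hφ fun 𝔮 h𝔮 => ?_
  obtain ⟨g, hgs, hg⟩ : ∃ g ∈ s, g ∉ 𝔮 := by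
    by_contra hcon
    push Not at hcon
    exact h𝔮.ne_top (top_le_iff.1 (hs.symm.trans_le (Ideal.span_le.2 hcon)))
  obtain ⟨c, hc⟩ := hφ g
  subst hc
  let B' := Localization.Away (φ c)
  obtain ⟨C, _, _, hC⟩ : ∃ (C : Type u) (_ : CommRing C) (_ : Algebra P C), IsLocalization.Away c C :=
    ⟨Localization.Away c, inferInstance, inferInstance, inferInstance⟩
  letI : Algebra A C := ((algebraMap P C).comp (algebraMap A P)).toAlgebra
  haveI : IsScalarTower A P C := IsScalarTower.of_algebraMap_eq (R := A) (S := P) (A := C) fun _ => rfl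
  haveI : Algebra.Smooth P C := Algebra.Smooth.of_isLocalization_Away c
  haveI : Algebra.Smooth A C := Algebra.Smooth.comp A P C
  haveI : IsLocalization.Away (φ.toRingHom c) B' := inferInstanceAs (IsLocalization.Away (φ c) B')
  let ψ₀ : C →+* B' := IsLocalization.Away.map C B' φ.toRingHom c
  have hψ₀ : ∀ x, ψ₀ (algebraMap P C x) = algebraMap B B' (φ x) := fun x => by
    show IsLocalization.Away.map C B' φ.toRingHom c (algebraMap P C x) = _
    rw [IsLocalization.Away.map, IsLocalization.map_eq]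
    rfl
  let ψ : C →ₐ[A] B' := ⟨ψ₀, fun x => by
    show ψ₀ (algebraMap P C (algebraMap A P x)) = _
    rw [hψ₀, AlgHom.commutes, ← IsScalarTower.algebraMap_apply]⟩
  obtain ⟨h𝔮', h𝔮c⟩ := exists_prime_of_away B' 𝔮 hg
  have hk : RingHom.ker ψ.toRingHom = (RingHom.ker φ.toRingHom).map (algebraMap P C) :=
    IsLocalization.ker_map B' φ.toRingHom (Submonoid.map_powers φ.toRingHom c)
  have hcP : c ∉ 𝔮.comap φ.toRingHom := hg
  have h1 := kReg_of_isLCI (h (φ c) hgs) ψ (away_map_surjective hφ c) (𝔮.map (algebraMap B B'))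
  rw [hk] at h1
  refine KReg.of_away hcP C ?_
  obtain ⟨h𝔭', h𝔭c⟩ := exists_prime_of_away C (𝔮.comap φ.toRingHom) hcP
  suffices heq : (𝔮.map (algebraMap B B')).comap ψ.toRingHom = (𝔮.comap φ.toRingHom).map (algebraMap P C) by
    rwa [heq] at h1
  rw [← IsLocalization.map_under (Submonoid.powers c) C ((𝔮.map (algebraMap B B')).comap ψ.toRingHom)]
  congr 1
  show ((𝔮.map (algebraMap B B')).comap ψ.toRingHom).comap (algebraMap P C) = _
  rw [Ideal.comap_comap, show ψ.toRingHom.comp (algebraMap P C) = (algebraMap B B').comp φ.toRingHom from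
    RingHom.ext hψ₀, ← Ideal.comap_comap, h𝔮c]

/-- Replacing the base by an open subset of it. -/
theorem isLCI_iff_away_base {A A' B : Type u} [CommRing A] [CommRing A'] [CommRing B] [Algebra A A'] [Algebra A B]
    [Algebra A' B] [IsScalarTower A A' B] (a : A) [IsLocalization.Away a A'] : LCI.IsLCI A' B ↔ LCI.IsLCI A B := by
  haveI : Algebra.Smooth A A' := Algebra.Smooth.of_isLocalization_Away a
  constructor
  · intro h
    obtain ⟨-, n, φ, hφ, -⟩ := id h
    haveI : Algebra.Smooth A' (MvPolynomial (Fin n) A') := ⟨inferInstance, inferInstance⟩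
    haveI : Algebra.Smooth A (MvPolynomial (Fin n) A') := Algebra.Smooth.comp A A' _
    exact isLCI_of_kReg (φ.restrictScalars A) hφ fun 𝔮 _ => kReg_of_isLCI h φ hφ 𝔮
  · intro h
    haveI : Algebra.FiniteType A B := h.1
    haveI hB : Algebra.FiniteType A' B := Algebra.FiniteType.of_restrictScalars_finiteType A A' B
    obtain ⟨n, φ, hφ⟩ := Algebra.FiniteType.iff_quotient_mvPolynomial''.1 hB
    haveI : Algebra.Smooth A' (MvPolynomial (Fin n) A') := ⟨inferInstance, inferInstance⟩
    haveI : Algebra.Smooth A (MvPolynomial (Fin n) A') := Algebra.Smooth.comp A A' _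
    exact isLCI_of_kReg φ hφ fun 𝔮 _ => kReg_of_isLCI h (φ.restrictScalars A) hφ 𝔮

/-- Local complete intersections compose. -/
theorem isLCI_comp {A B C : Type u} [CommRing A] [CommRing B] [CommRing C] [Algebra A B] [Algebra B C] [Algebra A C]
    [IsScalarTower A B C] (h1 : LCI.IsLCI A B) (h2 : LCI.IsLCI B C) : LCI.IsLCI A C := by
  classical
  obtain ⟨-, n, α, hα, -⟩ := id h1
  obtain ⟨-, m, β, hβ, -⟩ := id h2
  let P := MvPolynomial (Fin n) A
  let Q := MvPolynomial (Fin m) P
  let QB := MvPolynomial (Fin m) B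
  let a : Q →+* QB := MvPolynomial.map α.toRingHom
  have ha : Function.Surjective a := MvPolynomial.map_surjective _ hα
  haveI : Algebra.Smooth A P := ⟨inferInstance, inferInstance⟩
  haveI : Algebra.Smooth B QB := ⟨inferInstance, inferInstance⟩
  haveI : Algebra.Smooth P Q := ⟨inferInstance, inferInstance⟩
  haveI : Algebra.Smooth A Q := Algebra.Smooth.comp A P Q
  let ψ : Q →ₐ[A] C := ⟨β.toRingHom.comp a, fun x => by
    show β (a (algebraMap A Q x)) = _
    rw [IsScalarTower.algebraMap_apply A P Q, MvPolynomial.algebraMap_eq,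
      show a (MvPolynomial.C (algebraMap A P x)) = MvPolynomial.C (α (algebraMap A P x)) from MvPolynomial.map_C _ _,
      AlgHom.commutes, ← MvPolynomial.algebraMap_eq, AlgHom.commutes, ← IsScalarTower.algebraMap_apply]⟩
  refine isLCI_of_kReg ψ (hβ.comp ha) fun 𝔯 _ => ?_
  haveI : Module.Flat P Q := inferInstance
  have hk : RingHom.ker a = (RingHom.ker α.toRingHom).map (algebraMap P Q) := MvPolynomial.ker_map _
  have e : RingHom.ker ψ.toRingHom = (RingHom.ker β.toRingHom).comap a := rfl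
  rw [e, show 𝔯.comap ψ.toRingHom = (𝔯.comap β.toRingHom).comap a from (Ideal.comap_comap _ _).symm]
  refine KReg.comp a ha (𝔯.comap β.toRingHom) ?_ (kReg_of_isLCI h2 β hβ 𝔯)
  rw [hk]
  refine KReg.map ?_
  have h := kReg_of_isLCI h1 α hα (𝔯.comap (algebraMap B C))
  suffices heq : ((𝔯.comap β.toRingHom).comap a).comap (algebraMap P Q) =
      (𝔯.comap (algebraMap B C)).comap α.toRingHom by rwa [heq]
  rw [Ideal.comap_comap, Ideal.comap_comap, Ideal.comap_comap]
  congr 1
  refine RingHom.ext fun x => ?_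
  show β (a (algebraMap P Q x)) = algebraMap B C (α x)
  rw [MvPolynomial.algebraMap_eq, show a (MvPolynomial.C x) = MvPolynomial.C (α x) from MvPolynomial.map_C _ _,
    ← MvPolynomial.algebraMap_eq, AlgHom.commutes]

/-- A quotient by an ideal which is Koszul regular at every point. -/
theorem isLCI_of_smooth {A C : Type u} [CommRing A] [CommRing C] [Algebra A C] [Algebra.Smooth A C] :
    LCI.IsLCI A C :=
  isLCI_of_kReg (AlgHom.id A C) Function.surjective_id fun 𝔮 _ => ⟨1, Ideal.IsPrime.one_notMem inferInstance, 0, fun i => i.elim0,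
    fun k x _ => haveI := WiebeLib.subsingleton_ko (Localization.Away (1 : C)) (Nat.succ_pos k)
      ⟨0, Subsingleton.elim _ _⟩,
    by
      rw [show RingHom.ker (AlgHom.id A C).toRingHom = ⊥ from (RingHom.injective_iff_ker_eq_bot _).1 Function.injective_id,
        Ideal.map_bot, Set.range_eq_empty, Ideal.span_empty]⟩

end Groth.Agent.KRegLib
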