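import Mathlib
import Groth.Agent.KRegLib.Pres
import Groth.Agent.Synt29.KoszulSyntomic

/-!
# Local complete intersection morphisms

`Synt.IsKoszulAt` agrees with the affine-local notion; composition and cancellation of smooth morphisms.
-/

set_option autoImplicit false
set_option linter.style.haveILetI false
set_option backward.isDefEq.respectTransparency false
set_option backward.isDefEq.respectTransparency.types false

universe u

open AlgebraicGeometry CategoryTheory TensorProduct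

namespace Groth.Agent.KRegLib

/-- The property of ring maps of being a local complete intersection. -/
def RingHomIsLCI {R S : Type u} [CommRing R] [CommRing S] (f : R →+* S) : Prop :=
  letI := f.toAlgebra
  LCI.IsLCI R S

theorem ringHomIsLCI_algebraMap {R S : Type u} [CommRing R] [CommRing S] [a : Algebra R S] :
    RingHomIsLCI (algebraMap R S) ↔ LCI.IsLCI R S := by
  show @LCI.IsLCI R _ S _ (algebraMap R S).toAlgebra ↔ _
  rw [show (algebraMap R S).toAlgebra = a from Algebra.algebra_ext _ _ fun _ => rfl]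

theorem lci_localizationAwayPreserves : RingHom.LocalizationAwayPreserves RingHomIsLCI := by
  intro R S _ _ f r R' S' _ _ _ _ _ _ hf
  letI := f.toAlgebra
  letI : Algebra R' S' := (IsLocalization.Away.map R' S' f r).toAlgebra
  letI : Algebra R S' := ((algebraMap S S').comp f).toAlgebra
  haveI : IsScalarTower R S S' := .of_algebraMap_eq fun _ => rfl
  haveI : IsScalarTower R R' S' := .of_algebraMap_eq fun x => by
    show algebraMap S S' (f x) = IsLocalization.Away.map R' S' f r (algebraMap R R' x)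
    rw [IsLocalization.Away.map, IsLocalization.map_eq]
  haveI : IsLocalization.Away (algebraMap R S r) S' := ‹IsLocalization.Away (f r) S'›
  exact (isLCI_iff_away_base (A := R) r).2 (isLCI_away_target hf (algebraMap R S r) S')

theorem lci_sourceAway : RingHom.StableUnderCompositionWithLocalizationAwaySource RingHomIsLCI := by
  intro R S T _ _ _ _ r _ f hf
  letI := f.toAlgebra
  letI : Algebra R T := (f.comp (algebraMap R S)).toAlgebra
  haveI : IsScalarTower R S T := .of_algebraMap_eq fun _ => rfl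
  exact (isLCI_iff_away_base (A := R) (A' := S) (B := T) r).1 hf

theorem lci_targetAway : RingHom.StableUnderCompositionWithLocalizationAwayTarget RingHomIsLCI := by
  intro R S T _ _ _ _ s _ f hf
  letI := f.toAlgebra
  letI : Algebra R T := ((algebraMap S T).comp f).toAlgebra
  haveI : IsScalarTower R S T := .of_algebraMap_eq fun _ => rfl
  exact isLCI_away_target (A := R) (B := S) hf s T

theorem lci_ofLocalizationSpanTarget : RingHom.OfLocalizationSpanTarget RingHomIsLCI := by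
  intro R S _ _ f s hs h
  letI := f.toAlgebra
  refine isLCI_of_span (A := R) (B := S) s hs fun g hg => ?_
  exact ringHomIsLCI_algebraMap.1 (h ⟨g, hg⟩)

theorem lci_propertyIsLocal : RingHom.PropertyIsLocal RingHomIsLCI where
  localizationAwayPreserves := lci_localizationAwayPreserves
  ofLocalizationSpanTarget := lci_ofLocalizationSpanTarget
  ofLocalizationSpan := lci_ofLocalizationSpanTarget.ofLocalizationSpan lci_sourceAway
  StableUnderCompositionWithLocalizationAwayTarget := lci_targetAway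

theorem lci_stableUnderComposition : RingHom.StableUnderComposition RingHomIsLCI := by
  intro R S T _ _ _ f g hf hg
  letI := f.toAlgebra
  letI := g.toAlgebra
  letI := (g.comp f).toAlgebra
  haveI : IsScalarTower R S T := .of_algebraMap_eq fun _ => rfl
  exact isLCI_comp (A := R) (B := S) (C := T) hf hg

/-- Local complete intersection morphisms, affine-locally. -/
def IsLCI' : MorphismProperty Scheme.{u} := affineLocally RingHomIsLCI

instance : HasRingHomProperty (IsLCI'.{u}) RingHomIsLCI := ⟨lci_propertyIsLocal, rfl⟩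

instance : (IsLCI'.{u}).IsStableUnderComposition :=
  HasRingHomProperty.stableUnderComposition lci_stableUnderComposition

theorem isLCI'_iff {X S : Scheme.{u}} (f : X ⟶ S) : IsLCI' f ↔
    ∀ (U : X.Opens) (V : S.Opens) (_ : IsAffineOpen U) (_ : IsAffineOpen V) (e : U ≤ f ⁻¹ᵁ V),
      letI := (f.appLE V U e).hom.toAlgebra
      LCI.IsLCI Γ(S, V) Γ(X, U) :=
  (affineLocally_iff_forall_isAffineOpen RingHomIsLCI f).trans
    ⟨fun h U V hU hV e => h hV hU e, fun h _ hV _ hU e => h _ _ hU hV e⟩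

theorem isClosedImmersion_restrict_of_le {Z P : Scheme.{u}} (i : Z ⟶ P) {W O : P.Opens} (hWO : W ≤ O)
    [IsClosedImmersion (i ∣_ O)] : IsClosedImmersion (i ∣_ W) := by
  have h1 : IsClosedImmersion ((i ∣_ O) ∣_ (O.ι ⁻¹ᵁ W)) := inferInstance
  have h2 := (MorphismProperty.arrow_mk_iso_iff @IsClosedImmersion (morphismRestrictRestrict i O (O.ι ⁻¹ᵁ W))).1 h1
  have he : O.ι ''ᵁ O.ι ⁻¹ᵁ W = W := by
    rw [Scheme.Hom.image_preimage_eq_opensRange_inf, Scheme.Opens.opensRange_ι]
    exact inf_eq_right.2 hWO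
  rwa [he] at h2

theorem isClosedImmersion_restrict_coborderRange {Z P : Scheme.{u}} (i : Z ⟶ P) [IsImmersion i] :
    IsClosedImmersion (i ∣_ i.coborderRange) := by
  have he : i ∣_ i.coborderRange = (i ⁻¹ᵁ i.coborderRange).ι ≫ i.liftCoborder := by
    rw [← cancel_mono i.coborderRange.ι, Category.assoc, i.liftCoborder_ι, morphismRestrict_ι]
  have htop : i ⁻¹ᵁ i.coborderRange = ⊤ := top_le_iff.1 fun z _ => subset_coborder ⟨z, rfl⟩
  haveI : IsIso (i ⁻¹ᵁ i.coborderRange).ι := by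
    rw [htop, ← Scheme.topIso_hom]
    infer_instance
  rw [he]
  infer_instance

/-- An immersion is, near a point, a closed immersion into an affine open. -/
theorem exists_affine_isClosedImmersion_restrict {Z P : Scheme.{u}} (i : Z ⟶ P) [IsImmersion i] (z : Z)
    (O : P.Opens) (hO : i z ∈ O) :
    ∃ W : P.Opens, IsAffineOpen W ∧ i z ∈ W ∧ W ≤ O ∧ IsClosedImmersion (i ∣_ W) := by
  obtain ⟨W, hW, hzW, hWO⟩ := exists_isAffineOpen_mem_and_subset (U := O ⊓ i.coborderRange) (x := i z)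
    ⟨hO, subset_coborder ⟨z, rfl⟩⟩
  haveI := isClosedImmersion_restrict_coborderRange i
  exact ⟨W, hW, hzW, fun y hy => (hWO hy).1, isClosedImmersion_restrict_of_le i fun y hy => (hWO hy).2⟩

/-- Restricting a closed immersion to a basic open: the ring map is still surjective and its kernel is the
extended one. -/
theorem app_basicOpen_props {Z P : Scheme.{u}} (i : Z ⟶ P) {W : P.Opens} (hW : IsAffineOpen W)
    (hW' : IsAffineOpen (i ⁻¹ᵁ W)) (hsurj : Function.Surjective (i.app W)) (g : Γ(P, W)) :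
    Function.Surjective (i.app (P.basicOpen g)) ∧ IsAffineOpen (i ⁻¹ᵁ P.basicOpen g) ∧
      RingHom.ker (i.app (P.basicOpen g)).hom =
        (RingHom.ker (i.app W).hom).map (P.presheaf.map (homOfLE (P.basicOpen_le g)).op).hom := by
  haveI := hW.isLocalization_basicOpen g
  haveI := hW'.isLocalization_basicOpen (i.app W g)
  let L : Γ(P, P.basicOpen g) →+* Γ(Z, Z.basicOpen (i.app W g)) :=
    IsLocalization.Away.map _ _ (i.app W).hom g
  let r := Z.presheaf.map (eqToHom (Scheme.preimage_basicOpen i g)).op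
  have hr : Function.Bijective r := ConcreteCategory.bijective_of_isIso _
  have he : (i.app (P.basicOpen g)).hom = r.hom.comp L :=
    congrArg CommRingCat.Hom.hom (hW.app_basicOpen_eq_away_map i hW' g)
  refine ⟨?_, (Scheme.preimage_basicOpen i g) ▸ hW'.basicOpen _, ?_⟩
  · show Function.Surjective (i.app (P.basicOpen g)).hom
    rw [he]
    exact hr.2.comp (away_map_surjective hsurj g)
  · rw [he, RingHom.ker_comp_of_injective _ hr.1]
    exact IsLocalization.ker_map _ (i.app W).hom (Submonoid.map_powers _ g)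

theorem kReg_of_regImmAt {Z P : Scheme.{u}} (i : Z ⟶ P) (z : Z)
    (h : RegImm.IsRegularImmersionAt .koszul i z) {D : P.Opens} (hD : IsAffineOpen D) (hzD : i z ∈ D)
    [IsClosedImmersion (i ∣_ D)] :
    KReg (RingHom.ker (i.app D).hom) (hD.primeIdealOf ⟨i z, hzD⟩).asIdeal := by
  obtain ⟨⟨W, hW⟩, hzW, hci, rs, hrs, hker⟩ := h
  obtain ⟨hW', hWs⟩ := Synt29.surjective_app_of_isClosedImmersion_restrict i W hW
  obtain ⟨hD', hDs⟩ := Synt29.surjective_app_of_isClosedImmersion_restrict i D hD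
  obtain ⟨g, g', hgg, hzg⟩ := exists_basicOpen_le_affine_inter hD hW (i z) ⟨hzD, hzW⟩
  letI : Algebra Γ(P, D) Γ(P, P.basicOpen g) := (P.presheaf.map (homOfLE (P.basicOpen_le g)).op).hom.toAlgebra
  haveI : IsLocalization.Away g Γ(P, P.basicOpen g) := hD.isLocalization_basicOpen g
  haveI := hW.isLocalization_basicOpen g'
  have hgp : g ∉ (hD.primeIdealOf ⟨i z, hzD⟩).asIdeal := by
    intro hmem
    have : hD.primeIdealOf ⟨i z, hzD⟩ ∈ PrimeSpectrum.basicOpen g := by
      rw [← hD.fromSpec_preimage_basicOpen g]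
      show hD.fromSpec (hD.primeIdealOf ⟨i z, hzD⟩) ∈ P.basicOpen g
      rw [hD.fromSpec_primeIdealOf]
      exact hzg
    exact this hmem
  refine KReg.of_on g hgp Γ(P, P.basicOpen g) ?_
  have h1 : KRegOn (RingHom.ker (i.app W).hom) Γ(P, W) :=
    ⟨rs.length, rs.get, WiebeLib.isExact_of_isKoszulRegularSeq _ (by rw [List.ofFn_get]; exact hrs), by
      rw [Algebra.algebraMap_self, Ideal.map_id, hker]
      show Ideal.span {y | y ∈ rs} = _
      congr 1
      ext y
      simp [List.mem_iff_get]⟩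
  haveI : Module.Flat Γ(P, W) Γ(P, P.basicOpen g') := IsLocalization.flat _ (Submonoid.powers g')
  obtain ⟨n, f, hf, hfI⟩ := h1.map Γ(P, P.basicOpen g')
  have key : ∀ (O : P.Opens) (hO : O = P.basicOpen g'), ∃ (n : ℕ) (f : Fin n → Γ(P, O)), WiebeLib.IsExact f ∧
      RingHom.ker (i.app O).hom = Ideal.span (Set.range f) := by
    rintro O rfl
    exact ⟨n, f, hf, ((app_basicOpen_props i hW hW' hWs g').2.2).trans hfI⟩
  obtain ⟨n', f', hf', hfI'⟩ := key (P.basicOpen g) hgg
  exact ⟨n', f', hf', ((app_basicOpen_props i hD hD' hDs g).2.2).symm.trans hfI'⟩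

theorem exists_regImm_nhd_of_kReg {Z P : Scheme.{u}} (i : Z ⟶ P) [IsImmersion i] (z : Z) {D : P.Opens}
    (hD : IsAffineOpen D) (hzD : i z ∈ D) [IsClosedImmersion (i ∣_ D)]
    (h : KReg (RingHom.ker (i.app D).hom) (hD.primeIdealOf ⟨i z, hzD⟩).asIdeal) :
    ∃ V : Z.Opens, z ∈ V ∧ RegImm.IsRegularImmersion .koszul (V.ι ≫ i) := by
  obtain ⟨g, hg, hon⟩ := h.exists_on
  obtain ⟨hD', hDs⟩ := Synt29.surjective_app_of_isClosedImmersion_restrict i D hD
  letI : Algebra Γ(P, D) Γ(P, P.basicOpen g) := (P.presheaf.map (homOfLE (P.basicOpen_le g)).op).hom.toAlgebra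
  haveI : IsLocalization.Away g Γ(P, P.basicOpen g) := hD.isLocalization_basicOpen g
  haveI : Module.Flat Γ(P, D) Γ(P, P.basicOpen g) := IsLocalization.flat _ (Submonoid.powers g)
  obtain ⟨n, f, hf, hfI⟩ := hon Γ(P, P.basicOpen g) (IsLocalization.Away.algebraMap_isUnit g)
  have hzg : i z ∈ P.basicOpen g := by
    rw [← hD.fromSpec_image_basicOpen g]
    exact ⟨hD.primeIdealOf ⟨i z, hzD⟩, hg, hD.fromSpec_primeIdealOf _⟩
  let V : Z.Opens := i ⁻¹ᵁ P.basicOpen g
  refine ⟨V, hzg, inferInstance, fun z' => ⟨⟨P.basicOpen g, hD.basicOpen g⟩, z'.2, ?_, List.ofFn f,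
    KoszulFlatLib.isKoszulRegularSeq_of_isExact hf, ?_⟩⟩
  · show IsClosedImmersion ((V.ι ≫ i) ∣_ P.basicOpen g)
    haveI := isClosedImmersion_restrict_of_le i (P.basicOpen_le g)
    rw [morphismRestrict_comp]
    haveI : IsIso (V.ι ∣_ (i ⁻¹ᵁ P.basicOpen g)) := by
      haveI : Surjective (V.ι ∣_ (i ⁻¹ᵁ P.basicOpen g)) := ⟨fun y => ⟨⟨⟨y.1, y.2⟩, y.2⟩, Subtype.ext (by
        simp [morphismRestrict_base_coe])⟩⟩
      exact (isIso_iff_isOpenImmersion_and_surjective _).2 ⟨inferInstance, inferInstance⟩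
    infer_instance
  · show RingHom.ker ((V.ι ≫ i).app (P.basicOpen g)).hom = _
    haveI : IsIso (V.ι.app V) := by
      rw [Scheme.Opens.ι_app_self]
      infer_instance
    rw [Scheme.Hom.comp_app, CommRingCat.hom_comp,
      RingHom.ker_comp_of_injective _ (ConcreteCategory.bijective_of_isIso (V.ι.app V)).1,
      (app_basicOpen_props i hD hD' hDs g).2.2]
    refine hfI.trans ?_
    show _ = Ideal.span {y | y ∈ List.ofFn f}
    congr 1
    ext y
    simp [List.mem_ofFn]

/-- A chart with Koszul regular kernel makes a morphism Koszul at the point. -/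
theorem isKoszulAt_of_kReg {X S : Scheme.{u}} (f : X ⟶ S) {U : X.Opens} (hU : IsAffineOpen U) {V : S.Opens}
    (hV : IsAffineOpen V) (e : U ≤ f ⁻¹ᵁ V) (x : X) (hxU : x ∈ U) {C : Type u} [CommRing C] [Algebra Γ(S, V) C]
    [Algebra.Smooth Γ(S, V) C] (φ : C →+* Γ(X, U)) (hφc : φ.comp (algebraMap Γ(S, V) C) = (f.appLE V U e).hom)
    (hφ : Function.Surjective φ) (hK : KReg (RingHom.ker φ) ((hU.primeIdealOf ⟨x, hxU⟩).asIdeal.comap φ)) :
    Synt.IsKoszulAt f x := by
  let A₀ := Γ(S, V)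
  obtain ⟨g, hg, n, fs, hfs, hI⟩ := hK
  let b : Γ(X, U) := φ g
  let U' : X.Opens := X.basicOpen b
  have hU' : IsAffineOpen U' := hU.basicOpen b
  have hxU' : x ∈ U' := by
    rw [show U' = hU.fromSpec ''ᵁ PrimeSpectrum.basicOpen b from (hU.fromSpec_image_basicOpen b).symm]
    exact ⟨hU.primeIdealOf ⟨x, hxU⟩, hg, hU.fromSpec_primeIdealOf _⟩
  haveI := hU.isLocalization_basicOpen b
  let R := Localization.Away g
  let φ' : R →+* Γ(X, U') := IsLocalization.Away.map R Γ(X, U') φ g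
  have hφ' : Function.Surjective φ' := away_map_surjective hφ g
  let l := List.ofFn fs
  have hφ'ker : RingHom.ker φ' = Ideal.span {y | y ∈ l} := by
    refine ((IsLocalization.ker_map (Γ(X, U')) φ (Submonoid.map_powers φ g)).trans hI).trans ?_
    congr 1
    ext y
    simp [l, List.mem_ofFn]
  have e' : U' ≤ f ⁻¹ᵁ V := (X.basicOpen_le b).trans e
  let j : (U' : Scheme.{u}) ⟶ Spec (CommRingCat.of R) := hU'.isoSpec.hom ≫ Spec.map (CommRingCat.ofHom φ')
  let π : Spec (CommRingCat.of R) ⟶ S := Spec.map (CommRingCat.ofHom (algebraMap A₀ R)) ≫ hV.fromSpec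
  haveI : IsClosedImmersion (Spec.map (CommRingCat.ofHom φ')) := IsClosedImmersion.spec_of_surjective _ hφ'
  haveI : IsClosedImmersion j := inferInstanceAs (IsClosedImmersion (_ ≫ _))
  haveI : Smooth π := by
    haveI : Smooth (Spec.map (CommRingCat.ofHom (algebraMap A₀ R))) := by
      rw [HasRingHomProperty.Spec_iff (P := @Smooth), CommRingCat.hom_ofHom, RingHom.smooth_algebraMap]
      haveI : Algebra.Smooth C R := Algebra.Smooth.of_isLocalization_Away g
      exact Algebra.Smooth.comp A₀ C R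
    exact inferInstanceAs (Smooth (_ ≫ _))
  have hjπ : j ≫ π = U'.ι ≫ f := by
    have h1 : φ'.comp (algebraMap A₀ R) = (f.appLE V U' e').hom := by
      rw [IsScalarTower.algebraMap_eq A₀ C R, ← RingHom.comp_assoc,
        show φ'.comp (algebraMap C R) = (algebraMap Γ(X, U) Γ(X, U')).comp φ from IsLocalization.map_comp _,
        RingHom.comp_assoc, hφc, RingHom.algebraMap_toAlgebra, ← CommRingCat.hom_comp]
      exact congrArg CommRingCat.Hom.hom (f.appLE_map e (homOfLE (X.basicOpen_le b)).op)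
    simp only [j, π, Category.assoc]
    rw [← Spec.map_comp_assoc, ← CommRingCat.ofHom_comp, h1, CommRingCat.ofHom_hom,
      IsAffineOpen.SpecMap_appLE_fromSpec f hV hU' e', IsAffineOpen.isoSpec_hom_fromSpec_assoc]
  refine ⟨U', Spec (CommRingCat.of R), j, π, hxU', ?_, ⟨inferInstance, fun z => ?_⟩, inferInstance, hjπ⟩
  · rw [← hjπ]
    infer_instance
  exact ⟨⟨⊤, isAffineOpen_top _⟩, trivial, inferInstance,
    l.map (Scheme.ΓSpecIso (CommRingCat.of R)).symm.commRingCatIsoToRingEquiv,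
    Synt29.isKoszulRegularSeq_map_equiv _ l (KoszulFlatLib.isKoszulRegularSeq_of_isExact hfs),
    Synt29.ker_appTop_comp_specMap hU'.isoSpec.hom (CommRingCat.ofHom φ') l hφ'ker⟩

theorem isKoszulAt_of_chart {X S : Scheme.{u}} (f : X ⟶ S) (x : X) (U : X.Opens) (hU : IsAffineOpen U)
    (V : S.Opens) (hV : IsAffineOpen V) (e : U ≤ f ⁻¹ᵁ V) (hxU : x ∈ U)
    (h : RingHomIsLCI (f.appLE V U e).hom) : Synt.IsKoszulAt f x := by
  letI : Algebra Γ(S, V) Γ(X, U) := (f.appLE V U e).hom.toAlgebra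
  have h' : LCI.IsLCI Γ(S, V) Γ(X, U) := h
  obtain ⟨-, n, φ, hφ, -⟩ := id h'
  haveI : Algebra.Smooth Γ(S, V) (MvPolynomial (Fin n) Γ(S, V)) := ⟨inferInstance, inferInstance⟩
  exact isKoszulAt_of_kReg f hU hV e x hxU φ.toRingHom φ.comp_algebraMap hφ (kReg_of_isLCI h' φ hφ _)

theorem exists_chart_of_isKoszulAt {X S : Scheme.{u}} (f : X ⟶ S) (x : X) (h : Synt.IsKoszulAt f x) :
    ∃ (V : S.affineOpens) (U : X.affineOpens) (_ : x ∈ U.1) (e : U.1 ≤ f ⁻¹ᵁ V.1),
      RingHomIsLCI (f.appLE V.1 U.1 e).hom := by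
  obtain ⟨U, P, i, π, hxU, -, ⟨-, hreg⟩, hsm, hcomp⟩ := h
  let z : (U : Scheme.{u}) := ⟨x, hxU⟩
  obtain ⟨⟨W, hW⟩, hzW, hci, rs, hrs, hker⟩ := hreg z
  obtain ⟨hW', hWs⟩ := Synt29.surjective_app_of_isClosedImmersion_restrict i W hW
  obtain ⟨V, hV, hzV, -⟩ := exists_isAffineOpen_mem_and_subset (U := ⊤) (x := f x) trivial
  have hπz : π (i z) = f x := by
    rw [← Scheme.Hom.comp_apply, hcomp, Scheme.Hom.comp_apply]
    rfl
  obtain ⟨g, hgV, hgz⟩ := hW.exists_basicOpen_le (V := π ⁻¹ᵁ V) ⟨i z, show π (i z) ∈ V from hπz ▸ hzV⟩ hzW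
  let D : P.Opens := P.basicOpen g
  have hD : IsAffineOpen D := hW.basicOpen g
  obtain ⟨hDs, hD', -⟩ := app_basicOpen_props i hW hW' hWs g
  haveI := isClosedImmersion_restrict_of_le i (P.basicOpen_le g)
  let D' := i ⁻¹ᵁ D
  have he : D' ≤ (i ≫ π) ⁻¹ᵁ V := fun y hy => hgV hy
  letI : Algebra Γ(S, V) Γ(P, D) := (π.appLE V D hgV).hom.toAlgebra
  haveI : Algebra.Smooth Γ(S, V) Γ(P, D) := π.smooth_appLE hV hD hgV
  letI : Algebra Γ(S, V) Γ(U.toScheme, D') := ((i ≫ π).appLE V D' he).hom.toAlgebra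
  let ψ : Γ(P, D) →ₐ[Γ(S, V)] Γ(U.toScheme, D') := ⟨(i.app D).hom, fun a => by
    show (π.appLE V D hgV ≫ i.app D) a = _
    rw [Scheme.Hom.app_eq_appLE, Scheme.Hom.appLE_comp_appLE]
    rfl⟩
  have hlci : LCI.IsLCI Γ(S, V) Γ(U.toScheme, D') := by
    refine isLCI_of_kReg ψ hDs fun 𝔮 _ => ?_
    let y := hD'.fromSpec ⟨𝔮, inferInstance⟩
    have hyD : y ∈ D' := by
      have : y ∈ Set.range hD'.fromSpec := ⟨_, rfl⟩
      rwa [hD'.range_fromSpec] at this
    have h1 := kReg_of_regImmAt i y (hreg y) hD (show i y ∈ D from hyD)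
    have hq : hD'.primeIdealOf ⟨y, hyD⟩ = ⟨𝔮, inferInstance⟩ :=
      hD'.fromSpec.isOpenEmbedding.injective (hD'.fromSpec_primeIdealOf ⟨y, hyD⟩)
    have hc := congrArg PrimeSpectrum.asIdeal (IsAffineOpen.comap_primeIdealOf_appLE (f := i) D hD D' hD' le_rfl hyD)
    rw [hq] at hc
    rw [← hc] at h1
    convert h1 using 2
    rw [← Scheme.Hom.app_eq_appLE]
    rfl
  let U'' : X.Opens := U.ι ''ᵁ D'
  have e2 : D' ≤ U.ι ⁻¹ᵁ U'' := (Scheme.Hom.preimage_image_eq U.ι D').ge
  have e3 : U'' ≤ f ⁻¹ᵁ V := by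
    rintro _ ⟨y, hy, rfl⟩
    have := he hy
    rw [hcomp] at this
    exact this
  have hiso : IsIso (U.ι.appLE U'' D' e2) := by
    rw [← Scheme.Hom.appIso_hom']
    infer_instance
  refine ⟨⟨V, hV⟩, ⟨U'', hD'.image_of_isOpenImmersion U.ι⟩, ⟨z, hgz, rfl⟩, e3, ?_⟩
  refine ((lci_propertyIsLocal.respectsIso).cancel_right_isIso (f.appLE V U'' e3)
    (U.ι.appLE U'' D' e2)).1 ?_
  rw [← CommRingCat.hom_comp, Scheme.Hom.appLE_comp_appLE]
  have key : ∀ (h' : (U : Scheme.{u}) ⟶ S) (e' : D' ≤ h' ⁻¹ᵁ V), h' = i ≫ π →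
      RingHomIsLCI (h'.appLE V D' e').hom := by
    rintro _ e' rfl
    exact hlci
  exact key _ _ hcomp.symm

/-- The factorisation form agrees with the affine-local form. -/
theorem forall_isKoszulAt_iff {X S : Scheme.{u}} (f : X ⟶ S) : (∀ x, Synt.IsKoszulAt f x) ↔ IsLCI' f := by
  rw [HasRingHomProperty.iff_exists_appLE (P := IsLCI'.{u}) lci_sourceAway]
  exact ⟨fun h x => exists_chart_of_isKoszulAt f x (h x), fun h x => by
    obtain ⟨V, U, hx, e, hUV⟩ := h x
    exact isKoszulAt_of_chart f x U.1 U.2 V.1 V.2 e hx hUV⟩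

theorem isLCI_of_comp_smooth_aux {A B C R : Type u} [CommRing A] [CommRing B] [CommRing C] [CommRing R]
    [Algebra A B] [Algebra A C] [Algebra A R] [Algebra B R] [IsScalarTower A B R] [Algebra.Smooth A B]
    [Algebra.Smooth A C] (h : LCI.IsLCI A R) (φ : C →ₐ[A] R) (hφ : Function.Surjective φ) : LCI.IsLCI B R := by
  haveI : Algebra.Smooth A (B ⊗[A] C) := Algebra.Smooth.comp A B (B ⊗[A] C)
  let Φ : B ⊗[A] C →ₐ[B] R := Algebra.TensorProduct.lift (Algebra.ofId B R) φ fun _ _ => Commute.all _ _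
  have hΦ : Function.Surjective Φ := fun r => by
    obtain ⟨c, rfl⟩ := hφ r
    exact ⟨1 ⊗ₜ[A] c, by simp [Φ]⟩
  exact isLCI_of_kReg Φ hΦ fun 𝔮 _ => kReg_of_isLCI h (Φ.restrictScalars A) hΦ 𝔮

/-- A local complete intersection over a smooth base stays one over the intermediate algebra. -/
theorem isLCI_of_comp_smooth {A B R : Type u} [CommRing A] [CommRing B] [CommRing R] [Algebra A B] [Algebra A R]
    [Algebra B R] [IsScalarTower A B R] [Algebra.Smooth A B] (h : LCI.IsLCI A R) : LCI.IsLCI B R := by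
  obtain ⟨-, n, φ, hφ, -⟩ := id h
  let C := MvPolynomial (Fin n) A
  haveI : Algebra.Smooth A C := ⟨inferInstance, inferInstance⟩
  exact isLCI_of_comp_smooth_aux (A := A) (C := C) h φ hφ

theorem isKoszulAt_of_comp_smooth {X Y S : Scheme.{u}} (f : X ⟶ Y) (g : Y ⟶ S) [Smooth g]
    (h : ∀ x : X, Synt.IsKoszulAt (f ≫ g) x) (x : X) : Synt.IsKoszulAt f x := by
  have hL := (forall_isKoszulAt_iff (f ≫ g)).1 h
  rw [HasRingHomProperty.iff_appLE (P := IsLCI'.{u})] at hL
  obtain ⟨V, hV, hxV, -⟩ := exists_isAffineOpen_mem_and_subset (U := ⊤) (x := g (f x)) trivial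
  obtain ⟨W, hW, hxW, hWV⟩ := exists_isAffineOpen_mem_and_subset (U := g ⁻¹ᵁ V) (x := f x) hxV
  obtain ⟨U, hU, hxU, hUW⟩ := exists_isAffineOpen_mem_and_subset (U := f ⁻¹ᵁ W) (x := x) hxW
  refine isKoszulAt_of_chart f x U hU W hW hUW hxU ?_
  letI : Algebra Γ(S, V) Γ(Y, W) := (g.appLE V W hWV).hom.toAlgebra
  haveI : Algebra.Smooth Γ(S, V) Γ(Y, W) := g.smooth_appLE hV hW hWV
  letI : Algebra Γ(Y, W) Γ(X, U) := (f.appLE W U hUW).hom.toAlgebra
  have e : U ≤ (f ≫ g) ⁻¹ᵁ V := fun y hy => hWV (hUW hy)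
  letI : Algebra Γ(S, V) Γ(X, U) := ((f ≫ g).appLE V U e).hom.toAlgebra
  haveI : IsScalarTower Γ(S, V) Γ(Y, W) Γ(X, U) := IsScalarTower.of_algebraMap_eq' (by
    show ((f ≫ g).appLE V U e).hom = (f.appLE W U hUW).hom.comp (g.appLE V W hWV).hom
    rw [← CommRingCat.hom_comp, Scheme.Hom.appLE_comp_appLE])
  exact isLCI_of_comp_smooth (A := Γ(S, V)) (hL ⟨V, hV⟩ ⟨U, hU⟩ e)

end Groth.Agent.KRegLib
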