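import Mathlib
import Groth.Agent.KRegLib.Mor
import Groth.Agent.Synt29.KoszulLocal
import Groth.Agent.CILib.Basic
import Groth.Agent.S2166

/-!
# Morphisms of regular schemes are local complete intersections
-/

set_option autoImplicit false
set_option linter.style.haveILetI false
set_option backward.isDefEq.respectTransparency.types false

universe u

open RingTheory.Sequence AlgebraicGeometry

namespace Groth.Agent.KRegLib

/-- Weakly regular generators at a prime spread out to a neighbourhood. -/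
theorem exists_away_isRegular_of_atPrime {R : Type u} [CommRing R] [IsNoetherianRing R] (I : Ideal R)
    (p : Ideal R) [p.IsPrime] (hIp : I ≤ p) {r : ℕ} (x : Fin r → Localization.AtPrime p)
    (hreg : IsWeaklyRegular (Localization.AtPrime p) (List.ofFn x))
    (hgen : Ideal.span (Set.range x) = I.map (algebraMap R (Localization.AtPrime p))) :
    ∃ g : R, g ∉ p ∧ ∃ rs : List (Localization.Away g),
      IsRegular (Localization.Away g) rs ∧ Ideal.ofList rs = I.map (algebraMap R (Localization.Away g)) := by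
  classical
  let A := Localization.AtPrime p
  have hxI : ∀ i, ∃ a ∈ I, Associated (x i) (algebraMap R A a) := fun i => by
    have h : x i ∈ I.map (algebraMap R A) := hgen ▸ Ideal.subset_span ⟨i, rfl⟩
    rw [IsLocalization.mem_map_algebraMap_iff p.primeCompl] at h
    obtain ⟨⟨⟨a, ha⟩, s⟩, hs⟩ := h
    exact ⟨a, ha, (IsLocalization.map_units A s).unit, hs⟩
  choose a haI hxa using hxI
  have hspan : ∀ s : Set (Fin r), (Ideal.span (a '' s)).map (algebraMap R A) = Ideal.span (x '' s) := fun s => by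
    rw [Ideal.map_span, ← Set.image_comp]
    refine le_antisymm (Ideal.span_le.2 ?_) (Ideal.span_le.2 ?_) <;> rintro _ ⟨j, hj, rfl⟩
    · exact Ideal.mem_of_dvd _ (hxa j).dvd (Ideal.subset_span ⟨j, hj, rfl⟩)
    · exact Ideal.mem_of_dvd _ (hxa j).symm.dvd (Ideal.subset_span ⟨j, hj, rfl⟩)
  let lt : Fin r → Ideal R := fun i => Ideal.span (a '' {j | j.1 < i.1})
  have hfg : ∀ (N M : Ideal R), N.map (algebraMap R A) ≤ M.map (algebraMap R A) →
      ∃ t ∉ p, ∀ b ∈ N, t * b ∈ M := by
    intro N M hle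
    obtain ⟨S, rfl⟩ := N.fg_of_isNoetherianRing
    have hex : ∀ b ∈ S, ∃ t ∉ p, t * b ∈ M := fun b hb => by
      obtain ⟨⟨⟨c, hc⟩, s⟩, hcs⟩ := (IsLocalization.mem_map_algebraMap_iff p.primeCompl A).1
        (hle (Ideal.mem_map_of_mem _ (Ideal.subset_span hb)))
      rw [← map_mul, IsLocalization.eq_iff_exists p.primeCompl] at hcs
      obtain ⟨d, hd⟩ := hcs
      refine ⟨d.1 * s.1, fun h => (Ideal.IsPrime.mem_or_mem ‹p.IsPrime› h).elim d.2 s.2, ?_⟩
      rw [show d.1 * s.1 * b = d.1 * (b * s.1) by ring, hd]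
      exact M.mul_mem_left _ hc
    choose! t ht1 ht2 using hex
    refine ⟨∏ b ∈ S, t b, show _ ∈ p.primeCompl from prod_mem fun b hb => ht1 b hb, fun b hb => ?_⟩
    induction hb using Submodule.span_induction with
    | mem b hb =>
      obtain ⟨c, hc⟩ := Finset.dvd_prod_of_mem t hb
      rw [hc, mul_comm (t b), mul_assoc]
      exact M.mul_mem_left _ (ht2 b hb)
    | zero => rw [mul_zero]; exact M.zero_mem
    | add b c _ _ hb hc => rw [mul_add]; exact M.add_mem hb hc
    | smul c b _ hb => rw [smul_eq_mul, mul_left_comm]; exact M.mul_mem_left _ hb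
  have hcolon : ∀ i : Fin r, ∃ t ∉ p, ∀ b, a i * b ∈ lt i → t * b ∈ lt i := by
    intro i
    let N : Ideal R := Submodule.comap (LinearMap.mulLeft R (a i)) (lt i)
    have hN : N.map (algebraMap R A) ≤ (lt i).map (algebraMap R A) := Ideal.map_le_iff_le_comap.2 fun b hb => by
      have h1 : algebraMap R A (a i) * algebraMap R A b ∈ Ideal.span (x '' {j | j.1 < i.1}) := by
        rw [← map_mul, ← hspan]
        exact Ideal.mem_map_of_mem _ hb
      rw [Ideal.mem_comap, hspan]
      rw [isWeaklyRegular_iff_Fin] at hreg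
      have hr := hreg ⟨i.1, by simpa using i.2⟩
      have htake : (Ideal.ofList ((List.ofFn x).take i.1) • ⊤ : Submodule A A) = Ideal.span (x '' {j | j.1 < i.1}) := by
        rw [smul_eq_mul, Ideal.mul_top, Ideal.ofList]
        refine congrArg Ideal.span (Set.ext fun z => ?_)
        simp only [Set.mem_setOf_eq, Set.mem_image, List.mem_take_iff_getElem, List.length_ofFn, List.getElem_ofFn]
        constructor
        · rintro ⟨j, hj, rfl⟩
          exact ⟨⟨j, by omega⟩, show j < i.1 by omega, rfl⟩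
        · rintro ⟨j, hj, rfl⟩
          exact ⟨j.1, by have : j.1 < i.1 := hj; omega, rfl⟩
      have hget : (List.ofFn x)[(⟨i.1, by simpa using i.2⟩ : Fin (List.ofFn x).length)] = x i := by simp
      have h2 : x i * algebraMap R A b ∈ Ideal.span (x '' {j | j.1 < i.1}) := by
        obtain ⟨u, hu⟩ := hxa i
        rw [← hu, mul_comm (x i) u, mul_assoc] at h1
        exact (Ideal.unit_mul_mem_iff_mem _ u.isUnit).1 h1
      rw [hget] at hr
      have h3 := isSMulRegular_iff_right_eq_zero_of_smul.1 hr (Submodule.Quotient.mk (algebraMap R A b))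
        (by rw [← Submodule.Quotient.mk_smul, Submodule.Quotient.mk_eq_zero]; exact htake.ge h2)
      exact htake.le ((Submodule.Quotient.mk_eq_zero _).1 h3)
    obtain ⟨t, ht, htN⟩ := hfg N (lt i) hN
    exact ⟨t, ht, fun b hb => htN b hb⟩
  choose t ht htc using hcolon
  obtain ⟨t₀, ht₀, ht₀I⟩ := hfg I (Ideal.span (Set.range a)) (by
    rw [← Set.image_univ, hspan, Set.image_univ, hgen])
  let g := t₀ * ∏ i, t i
  have hg : g ∉ p := fun h => (Ideal.IsPrime.mem_or_mem ‹p.IsPrime› h).elim ht₀
    (show _ ∈ p.primeCompl from prod_mem fun i _ => ht i)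
  let B := Localization.Away g
  have hgu : ∀ d : R, d ∣ g → IsUnit (algebraMap R B d) := fun d hd =>
    isUnit_of_dvd_unit (map_dvd _ hd) (IsLocalization.Away.algebraMap_isUnit g)
  refine ⟨g, hg, List.ofFn fun i => algebraMap R B (a i), ⟨?_, ?_⟩, ?_⟩
  · rw [isWeaklyRegular_iff_Fin]
    intro k
    have hk : k.1 < r := by simpa using k.2
    have htake : (Ideal.ofList ((List.ofFn fun i => algebraMap R B (a i)).take k.1) • ⊤ : Submodule B B) =
        (lt ⟨k.1, hk⟩).map (algebraMap R B) := by
      rw [smul_eq_mul, Ideal.mul_top, Ideal.ofList, Ideal.map_span, ← Set.image_comp]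
      refine congrArg Ideal.span (Set.ext fun z => ?_)
      simp only [Set.mem_setOf_eq, Set.mem_image, List.mem_take_iff_getElem, List.length_ofFn, List.getElem_ofFn,
        Function.comp_apply]
      constructor
      · rintro ⟨j, hj, rfl⟩
        exact ⟨⟨j, by omega⟩, by show j < k.1; omega, rfl⟩
      · rintro ⟨j, hj, rfl⟩
        exact ⟨j.1, by have : j.1 < k.1 := hj; omega, rfl⟩
    refine IsSMulRegular.of_right_eq_zero_of_smul fun z hz => ?_
    obtain ⟨z, rfl⟩ := Submodule.Quotient.mk_surjective _ z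
    rw [← Submodule.Quotient.mk_smul, Submodule.Quotient.mk_eq_zero, htake] at hz
    rw [Submodule.Quotient.mk_eq_zero, htake]
    obtain ⟨⟨b, s⟩, hbs⟩ := IsLocalization.surj (Submonoid.powers g) z
    have hget : (List.ofFn fun i => algebraMap R B (a i))[k] = algebraMap R B (a ⟨k.1, hk⟩) := by simp
    have h1 : algebraMap R B (a ⟨k.1, hk⟩ * b) ∈ (lt ⟨k.1, hk⟩).map (algebraMap R B) := by
      rw [map_mul, ← hbs, ← mul_assoc, ← hget]
      exact Ideal.mul_mem_right _ _ hz
    rw [IsLocalization.mem_map_algebraMap_iff (Submonoid.powers g)] at h1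
    obtain ⟨⟨⟨c, hc⟩, s'⟩, hs'⟩ := h1
    rw [← map_mul, IsLocalization.eq_iff_exists (Submonoid.powers g)] at hs'
    obtain ⟨d, hd⟩ := hs'
    have h2 : a ⟨k.1, hk⟩ * ((d.1 * s'.1) * b) ∈ lt ⟨k.1, hk⟩ := by
      rw [show a ⟨k.1, hk⟩ * ((d.1 * s'.1) * b) = d.1 * (a ⟨k.1, hk⟩ * b * s'.1) by ring, hd]
      exact Ideal.mul_mem_left _ _ hc
    have hu : IsUnit (algebraMap R B (t ⟨k.1, hk⟩ * (d.1 * s'.1))) := by
      rw [map_mul, map_mul]
      exact (hgu _ ((Finset.dvd_prod_of_mem t (Finset.mem_univ _)).mul_left t₀)).mul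
        ((IsLocalization.map_units B d).mul (IsLocalization.map_units B s'))
    rw [← Ideal.unit_mul_mem_iff_mem _ (IsLocalization.map_units B s), mul_comm, hbs,
      ← Ideal.unit_mul_mem_iff_mem _ hu, ← map_mul, mul_assoc]
    exact Ideal.mem_map_of_mem _ (htc _ _ h2)
  · rw [smul_eq_mul, Ideal.mul_top]
    intro htop
    have hle : Ideal.ofList (List.ofFn fun i => algebraMap R B (a i)) ≤ p.map (algebraMap R B) := by
      rw [Ideal.ofList, Ideal.span_le]
      intro z hz
      obtain ⟨i, rfl⟩ := List.mem_ofFn.1 hz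
      exact Ideal.mem_map_of_mem _ (hIp (haI i))
    rw [← htop, top_le_iff] at hle
    exact (IsLocalization.isPrime_of_isPrime_disjoint (Submonoid.powers g) B p ‹p.IsPrime›
      ((Ideal.disjoint_powers_iff_notMem g (Ideal.IsPrime.isRadical ‹p.IsPrime›)).2 hg)).ne_top hle
  · refine le_antisymm ?_ (Ideal.map_le_iff_le_comap.2 fun b hb => ?_)
    · rw [Ideal.ofList, Ideal.span_le]
      intro z hz
      obtain ⟨i, rfl⟩ := List.mem_ofFn.1 hz
      exact Ideal.mem_map_of_mem _ (haI i)
    · rw [Ideal.mem_comap, ← Ideal.unit_mul_mem_iff_mem _ (hgu t₀ (dvd_mul_right _ _)), ← map_mul]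
      have h := Ideal.mem_map_of_mem (algebraMap R B) (ht₀I b hb)
      rw [Ideal.map_span, ← Set.range_comp] at h
      refine Ideal.span_mono ?_ h
      rintro _ ⟨i, rfl⟩
      exact List.mem_ofFn.2 ⟨i, rfl⟩


/-- A regular local ring is a complete intersection. -/
theorem isCompleteIntersection_of_regular (A : Type u) [CommRing A] [IsRegularLocalRing A] :
    Pi1.IsCompleteIntersection A := by
  haveI := CILib.isRegularLocalRing_adicCompletion A
  refine ⟨AdicCompletion (IsLocalRing.maximalIdeal A) A, inferInstance, inferInstance, [], by simp,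
    IsRegular.nil _ _, ⟨?_⟩⟩
  exact (RingEquiv.quotientBot _).symm.trans (Ideal.quotEquivOfEq (by simp))

/-- The kernel of a surjection of regular rings is Koszul regular at every point. -/
theorem kReg_of_regular {P B : Type u} [CommRing P] [CommRing B] [IsRegularRing P] [IsRegularRing B] (φ : P →+* B)
    (hφ : Function.Surjective φ) (𝔮 : Ideal B) [𝔮.IsPrime] : KReg (RingHom.ker φ) (𝔮.comap φ) := by
  let 𝔭 := 𝔮.comap φ
  let R := Localization.AtPrime 𝔭
  have hle : RingHom.ker φ ≤ 𝔭 := fun z hz => by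
    rw [Ideal.mem_comap, show φ z = 0 from hz]
    exact zero_mem _
  let J := (RingHom.ker φ).map (algebraMap P R)
  let σ : R →+* Localization.AtPrime 𝔮 := Localization.localRingHom 𝔭 𝔮 φ rfl
  have hσ : Function.Surjective σ := RingHom.surjective_localRingHom_of_surjective φ hφ 𝔮
  have hker : RingHom.ker σ = J := by
    refine IsLocalization.ker_map _ φ (le_antisymm ?_ ?_)
    · rintro _ ⟨z, hz, rfl⟩
      exact hz
    · intro z hz
      obtain ⟨w, rfl⟩ := hφ z
      exact ⟨w, hz, rfl⟩
  let e : R ⧸ J ≃+* Localization.AtPrime 𝔮 :=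
    (Ideal.quotEquivOfEq hker.symm).trans (RingHom.quotientKerEquivOfSurjective hσ)
  haveI : IsRegularLocalRing (R ⧸ J) := IsRegularLocalRing.of_ringEquiv e.symm
  have hJ : J ≠ ⊤ := fun h => by
    haveI : Subsingleton (R ⧸ J) := Ideal.Quotient.subsingleton_iff.2 h
    exact not_subsingleton (R ⧸ J) ‹_›
  obtain ⟨rs, hrs, hreg⟩ :=
    (Groth.Agent.S2166.result J hJ).1 (isCompleteIntersection_of_regular (R ⧸ J))
  obtain ⟨g, hg, l, hl, hlI⟩ := exists_away_isRegular_of_atPrime (RingHom.ker φ) 𝔭 hle rs.get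
    (by rw [List.ofFn_get]; exact hreg.toIsWeaklyRegular) (by
      refine Eq.trans ?_ hrs
      rw [Ideal.ofList]
      congr 1
      ext z
      simp only [Set.mem_range, List.mem_iff_get]
      exact Iff.rfl)
  refine ⟨g, hg, (kRegOn_iff_exists_list _ _).2 ⟨l, Synt29.isKoszulRegularSeq_of_local l ?_, hlI.symm⟩⟩
  intro q hq _ _
  haveI : Module.Flat (Localization.Away g) (Localization.AtPrime q) :=
    IsLocalization.flat (Localization.AtPrime q) q.primeCompl
  exact hl.toIsWeaklyRegular.of_flat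

/-- The sections of a regular scheme on an affine open form a regular ring. -/
theorem isRegularRing_sections {X : Scheme.{u}} [IsLocallyNoetherian X]
    (hX : ∀ x : X, IsRegularLocalRing ↑(X.presheaf.stalk x)) {U : X.Opens} (hU : IsAffineOpen U) :
    IsRegularRing Γ(X, U) := by
  haveI : IsNoetherianRing Γ(X, U) := IsLocallyNoetherian.component_noetherian ⟨U, hU⟩
  rw [isRegularRing_iff]
  intro p hp
  have hy : hU.fromSpec ⟨p, hp⟩ ∈ U := hU.range_fromSpec.le ⟨_, rfl⟩
  letI := TopCat.Presheaf.algebra_section_stalk X.presheaf (⟨_, hy⟩ : U)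
  haveI : IsLocalization.AtPrime (X.presheaf.stalk (hU.fromSpec ⟨p, hp⟩)) p := hU.isLocalization_stalk' ⟨p, hp⟩ hy
  haveI := hX (hU.fromSpec ⟨p, hp⟩)
  exact IsRegularLocalRing.of_ringEquiv (IsLocalization.algEquiv p.primeCompl
    (X.presheaf.stalk (hU.fromSpec ⟨p, hp⟩)) (Localization.AtPrime p)).toRingEquiv

/-- A finite type algebra of regular rings is a local complete intersection. -/
theorem isLCI_of_regular (A B : Type u) [CommRing A] [CommRing B] [Algebra A B] [IsRegularRing A] [IsRegularRing B]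
    [Algebra.FiniteType A B] : LCI.IsLCI A B := by
  obtain ⟨n, φ, hφ⟩ := Algebra.FiniteType.iff_quotient_mvPolynomial''.1 (inferInstance : Algebra.FiniteType A B)
  haveI : Algebra.Smooth A (MvPolynomial (Fin n) A) := ⟨inferInstance, inferInstance⟩
  exact isLCI_of_kReg φ hφ fun 𝔮 _ => kReg_of_regular φ.toRingHom hφ 𝔮

end Groth.Agent.KRegLib
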