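import Mathlib
import Groth.Agent.KRegLib.Regular
import Groth.Agent.TorObstr.Main
import Groth.Agent.RegLoc6.Pd
import Groth.Agent.LC.GorLCI

/-!
# Permanence of Koszul regularity along maps of finite projective dimension

Let `σ : T → S` be a surjection of Noetherian local rings and `K` an ideal of `T` containing `ker σ`,
generated by a regular sequence, such that `S / K S` has finite projective dimension over `S`. Then both
`ker σ` and `K S` are generated by regular sequences.
-/

set_option autoImplicit false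
set_option linter.style.haveILetI false
set_option backward.isDefEq.respectTransparency.types false

universe u

open IsLocalRing RingTheory.Sequence CategoryTheory TensorProduct

namespace Groth.Agent.KRegLib

open Groth.Agent.WiebeLib Groth.Agent.RegLoc6

/-- Tor exactness of a module from that of a syzygy. -/
theorem torExact_of_ker {A : Type u} [CommRing A] {M F : Type u} [AddCommGroup M] [Module A M] [AddCommGroup F]
    [Module A F] [Module.Flat A F] (q : F →ₗ[A] M) (hq : Function.Surjective q) {N : ModuleCat.{u} A}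
    (Q : ProjectiveResolution N) (i : ℕ) (h : Synt29.TorExact (LinearMap.ker q) Q i) :
    Synt29.TorExact M Q (i + 1) := by
  haveI : ∀ j, Module.Projective A (Q.complex.X j) := fun j => (IsProjective.iff_projective _).2 (Q.projective j)
  let ι := (LinearMap.ker q).subtype
  let d : ∀ j, Q.complex.X (j + 1) →ₗ[A] Q.complex.X j := fun j => (Q.complex.d (j + 1) j).hom
  have hdd : ∀ j, (d j).comp (d (j + 1)) = 0 := fun j =>
    congrArg ModuleCat.Hom.hom (Q.complex.d_comp_d (j + 2) (j + 1) j)
  have hι : ∀ j, Function.Injective (ι.rTensor (Q.complex.X j)) := fun j =>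
    Module.Flat.rTensor_preserves_injective_linearMap (M := Q.complex.X j) ι Subtype.val_injective
  have hFex : Function.Exact ((d (i + 2)).lTensor F) ((d (i + 1)).lTensor F) :=
    Module.Flat.lTensor_exact F
      ((ShortComplex.ShortExact.moduleCat_exact_iff_function_exact _).1 (Q.exact_succ (i + 1)))
  have hrow : ∀ j, Function.Exact (ι.rTensor (Q.complex.X j)) (q.rTensor (Q.complex.X j)) := fun j =>
    rTensor_exact _ (LinearMap.exact_subtype_ker_map q) hq
  have hcomm : ∀ {V W : Type u} [AddCommGroup V] [Module A V] [AddCommGroup W] [Module A W] {a b : ℕ}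
      (f : V →ₗ[A] W) (g : Q.complex.X a →ₗ[A] Q.complex.X b) (x : V ⊗[A] Q.complex.X a),
      f.rTensor _ (g.lTensor V x) = g.lTensor W (f.rTensor _ x) := fun f g x => EtGlue7.rTensor_lTensor_comm f g x
  intro z
  constructor
  · intro hz
    obtain ⟨w, rfl⟩ := LinearMap.rTensor_surjective (Q.complex.X (i + 2)) hq z
    obtain ⟨y, hy⟩ := (hrow _ ((d (i + 1)).lTensor F w)).1 (by rw [hcomm]; exact hz)
    have hcyc : (d i).lTensor _ y = 0 := hι _ (by
      rw [hcomm, hy, ← LinearMap.lTensor_comp_apply, hdd, LinearMap.lTensor_zero, LinearMap.zero_apply, map_zero])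
    obtain ⟨v, hv⟩ := (h y).1 hcyc
    obtain ⟨u, hu⟩ := (hFex (w - ι.rTensor _ v)).1 (by
      rw [map_sub, ← hcomm, show (d (i + 1)).lTensor _ v = y from hv, hy, sub_self])
    refine ⟨q.rTensor _ u, ?_⟩
    show (d (i + 2)).lTensor M _ = _
    rw [← hcomm, hu, map_sub, (hrow _).apply_apply_eq_zero v, sub_zero]
  · rintro ⟨y, rfl⟩
    show (d (i + 1)).lTensor _ ((d (i + 2)).lTensor _ y) = 0
    rw [← LinearMap.lTensor_comp_apply, hdd, LinearMap.lTensor_zero, LinearMap.zero_apply]

/-- Finite projective dimension bounds the tor dimension. -/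
theorem torExactFrom_of_pdLE {A : Type u} [CommRing A] [IsNoetherianRing A] : ∀ (n : ℕ) (M : Type u)
    [AddCommGroup M] [Module A M] [Module.Finite A M], PdLE A n M → Synt29.TorExactFrom A n M
  | 0, M, _, _, _, h => fun N Q i _ => by
    haveI := pdLE_zero_iff.1 h
    haveI : ∀ j, Module.Projective A (Q.complex.X j) := fun j => (IsProjective.iff_projective _).2 (Q.projective j)
    exact Module.Flat.lTensor_exact M ((ShortComplex.ShortExact.moduleCat_exact_iff_function_exact _).1 (Q.exact_succ i))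
  | n + 1, M, _, _, _, h => fun N Q i hi => by
    obtain ⟨k, g, hg⟩ := RegLoc6.exists_presentation (R := A) (M := M)
    obtain ⟨i, rfl⟩ : ∃ j, i = j + 1 := ⟨i - 1, by omega⟩
    exact torExact_of_ker g hg Q i
      (torExactFrom_of_pdLE n (LinearMap.ker g) ((pdLE_succ_iff g hg).1 h) N Q i (by omega))

section Local

variable {T S : Type u} [CommRing T] [CommRing S] [IsLocalRing T] [IsNoetherianRing T] [IsLocalRing S]
  (σ : T →+* S) (hσ : Function.Surjective σ)

include hσ

theorem maximalIdeal_mem_iff (x : T) : σ x ∈ maximalIdeal S ↔ x ∈ maximalIdeal T := by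
  haveI := hσ.isLocalHom σ
  exact map_mem_nonunits_iff σ x

/-- The key lemma: finite projective dimension forces minimal generators of the kernel to be part of minimal
generators of the bigger ideal. -/
theorem mem_maximalIdeal_mul_ker {n : ℕ} (f : Fin n → T) (hf : ∀ i, f i ∈ maximalIdeal T) {D : ℕ}
    (hpd : PdLE S D (S ⧸ Ideal.span (Set.range fun i => σ (f i)))) {g : T} (hg : g ∈ RingHom.ker σ)
    (hgf : g ∈ maximalIdeal T * Ideal.span (Set.range f)) : g ∈ maximalIdeal T * RingHom.ker σ := by
  classical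
  by_contra hne
  let H := RingHom.ker σ
  obtain ⟨L, ⟨hLm, hLH, hgL⟩, hmax⟩ := set_has_maximal_iff_noetherian.2 ‹IsNoetherianRing T›
    {L : Ideal T | maximalIdeal T * H ≤ L ∧ L ≤ H ∧ g ∉ L} ⟨_, le_rfl, Ideal.mul_le_right, hne⟩
  have hspan : ∀ x ∈ H, ∃ c : T, x - c * g ∈ L := by
    intro x hx
    by_contra hx'
    have hgx : g ∈ L ⊔ Ideal.span {x} := by
      by_contra hgx
      refine hmax (L ⊔ Ideal.span {x})
        ⟨hLm.trans le_sup_left, sup_le hLH ((Ideal.span_singleton_le_iff_mem _).2 hx), hgx⟩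
        (lt_of_le_of_ne le_sup_left fun h => hx' ⟨0, ?_⟩)
      rw [zero_mul, sub_zero, h]
      exact Ideal.mem_sup_right (Ideal.mem_span_singleton_self x)
    obtain ⟨l, hl, z, hz, hlz⟩ := Submodule.mem_sup.1 hgx
    obtain ⟨c, rfl⟩ := Ideal.mem_span_singleton'.1 hz
    by_cases hc : c ∈ maximalIdeal T
    · exact hgL (hlz ▸ add_mem hl (hLm (Ideal.mul_mem_mul hc hx)))
    · obtain ⟨u, rfl⟩ := IsLocalRing.notMem_maximalIdeal.1 hc
      refine hx' ⟨↑u⁻¹, ?_⟩
      rw [← hlz, mul_add, ← mul_assoc, Units.inv_mul, one_mul, sub_add_eq_sub_sub]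
      rw [show x - ↑u⁻¹ * l - x = -(↑u⁻¹ * l) by ring]
      exact neg_mem (Ideal.mul_mem_left _ _ hl)
  let Pp := T ⧸ L
  let ρ : Pp →+* S := Ideal.Quotient.lift L σ fun x hx => hLH hx
  have hρ : Function.Surjective ρ := fun y => by
    obtain ⟨x, rfl⟩ := hσ y
    exact ⟨Ideal.Quotient.mk L x, rfl⟩
  let F₀ : Pp := Ideal.Quotient.mk L g
  have hgm : g ∈ maximalIdeal T := Ideal.mul_le_left hgf
  have hker : RingHom.ker ρ = Ideal.span {F₀} := by
    refine le_antisymm (fun z hz => ?_) ((Ideal.span_singleton_le_iff_mem _).2 hg)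
    obtain ⟨x, rfl⟩ := Ideal.Quotient.mk_surjective z
    obtain ⟨c, hc⟩ := hspan x hz
    exact Ideal.mem_span_singleton'.2 ⟨Ideal.Quotient.mk L c, by
      rw [← map_mul, eq_comm, Ideal.Quotient.eq]; exact hc⟩
  have hF₀ : F₀ * F₀ = 0 := by
    rw [← map_mul, Ideal.Quotient.eq_zero_iff_mem]
    exact hLm (Ideal.mul_mem_mul hgm hg)
  haveI : IsNoetherianRing S := isNoetherianRing_of_surjective T S σ hσ
  obtain ⟨p, e, he⟩ := Submodule.fg_iff_exists_fin_generating_family.1 (IsNoetherian.noetherian (maximalIdeal S))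
  rw [← smul_eq_mul, Ideal.span, Submodule.mem_ideal_smul_span_iff_exists_sum (maximalIdeal T) f g] at hgf
  obtain ⟨c, hc, hcg⟩ := hgf
  have hcg' : ∑ i, c i * f i = g := by
    rw [← hcg, Finsupp.sum_fintype _ _ (by simp)]
    simp
  have key := TorObstr.pow_mem_sup (R := S) (P := S) ρ hρ F₀ hker hF₀ e (maximalIdeal S)
    (by rw [← he]; rfl)
    (fun u hu => by
      obtain ⟨x, rfl⟩ := Ideal.Quotient.mk_surjective u
      show σ x ∈ _
      rw [maximalIdeal_mem_iff σ hσ]
      by_contra hx
      obtain ⟨v, rfl⟩ := IsLocalRing.notMem_maximalIdeal.1 hx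
      refine hgL ?_
      rw [← Ideal.Quotient.eq_zero_iff_mem]
      exact (IsUnit.mul_left_eq_zero ((v.isUnit).map (Ideal.Quotient.mk L))).1 hu)
    (fun y hy => by
      obtain ⟨x, rfl⟩ := hσ y
      refine ⟨Ideal.Quotient.mk L x, ?_, rfl⟩
      rw [← map_mul, Ideal.Quotient.eq_zero_iff_mem, mul_comm]
      exact hLm (Ideal.mul_mem_mul ((maximalIdeal_mem_iff σ hσ x).1 hy) hg))
    (fun i => σ (f i)) (fun i => σ (c i)) (fun i => (maximalIdeal_mem_iff σ hσ _).2 (hc i))
    (by simp only [← map_mul, ← map_sum, hcg']; exact hg)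
    (fun i => Ideal.Quotient.mk L (c i)) (fun i => Ideal.Quotient.mk L (f i)) (fun i => rfl) (fun i => rfl) 1
    (by simp only [← map_mul, ← map_sum, hcg', mul_one]; rfl)
    (D := D) (fun N Q i hi => torExactFrom_of_pdLE D _ hpd N Q i (by omega))
  rw [map_one, one_pow] at key
  refine (maximalIdeal.isMaximal S).ne_top ((Ideal.eq_top_iff_one _).2 ?_)
  have hle : Ideal.span (Set.range fun i => σ (f i)) ≤ maximalIdeal S :=
    Ideal.span_le.2 (Set.range_subset_iff.2 fun i => (maximalIdeal_mem_iff σ hσ _).2 (hf i))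
  exact (sup_le hle le_rfl) key

/-- The splitting of a regular sequence. -/
theorem exists_weaklyRegular_split {n : ℕ} (f : Fin n → T) (hf : ∀ i, f i ∈ maximalIdeal T) (hex : IsExact f)
    (hle : RingHom.ker σ ≤ Ideal.span (Set.range f)) {D : ℕ}
    (hpd : PdLE S D (S ⧸ Ideal.span (Set.range fun i => σ (f i)))) :
    (∃ (r : ℕ) (F : Fin r → T), IsWeaklyRegular T (List.ofFn F) ∧ Ideal.span (Set.range F) = RingHom.ker σ) ∧
    ∃ (t : ℕ) (G : Fin t → S), IsWeaklyRegular S (List.ofFn G) ∧
      Ideal.span (Set.range G) = (Ideal.span (Set.range f)).map σ := by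
  classical
  let H := RingHom.ker σ
  have hexgen : ∃ r, ∃ F : Fin r → T, Ideal.span (Set.range F) = H :=
    Submodule.fg_iff_exists_fin_generating_family.1 (IsNoetherian.noetherian H)
  obtain ⟨r, ⟨F, hF⟩, hmin⟩ : ∃ r, (∃ F : Fin r → T, Ideal.span (Set.range F) = H) ∧
      ∀ r' < r, ¬ ∃ F : Fin r' → T, Ideal.span (Set.range F) = H :=
    ⟨Nat.find hexgen, Nat.find_spec hexgen, fun r' h => Nat.find_min hexgen h⟩
  have hFH : ∀ i, F i ∈ H := fun i => hF ▸ Ideal.subset_span ⟨i, rfl⟩
  have hind : ∀ c : Fin r → T, ∑ i, c i * F i ∈ maximalIdeal T * Ideal.span (Set.range f) →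
      ∀ i, c i ∈ maximalIdeal T := by
    intro c hc
    have h := mem_maximalIdeal_mul_ker σ hσ f hf hpd (Ideal.sum_mem _ fun i _ => Ideal.mul_mem_left _ _ (hFH i)) hc
    rw [show RingHom.ker σ = _ from hF.symm, ← smul_eq_mul, Ideal.span, Submodule.mem_ideal_smul_span_iff_exists_sum (maximalIdeal T) F] at h
    obtain ⟨b, hb, hbc⟩ := h
    have h0 : ∑ i, (c i - b i) * F i = 0 := by
      simp only [sub_mul, Finset.sum_sub_distrib]
      rw [← hbc, Finsupp.sum_fintype _ _ (by simp)]
      simp
    intro i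
    by_contra hi
    have hu : IsUnit (c i - b i) := by
      rw [← IsLocalRing.notMem_maximalIdeal]
      exact fun h => hi (sub_add_cancel (c i) (b i) ▸ add_mem h (hb i))
    have hFi : F i ∈ Ideal.span (F '' {j | j ≠ i}) := by
      rw [← Ideal.unit_mul_mem_iff_mem _ hu]
      rw [← Finset.add_sum_erase _ _ (Finset.mem_univ i)] at h0
      rw [eq_neg_of_add_eq_zero_left h0]
      exact neg_mem (Ideal.sum_mem _ fun j hj =>
        Ideal.mul_mem_left _ _ (Ideal.subset_span ⟨j, Finset.ne_of_mem_erase hj, rfl⟩))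
    obtain ⟨r', hr'⟩ : ∃ r', r = r' + 1 := ⟨r - 1, by have := i.2; omega⟩
    refine hmin r' (show r' < r by omega)
      ⟨fun j => F ((Fin.cast hr' i).succAbove j |>.cast hr'.symm), le_antisymm ?_ ?_⟩
    · exact Ideal.span_le.2 (Set.range_subset_iff.2 fun j => hFH _)
    · rw [← hF, Ideal.span_le]
      rintro _ ⟨j, rfl⟩
      have haux : ∀ k, k ≠ i → F k ∈ Ideal.span (Set.range fun j => F ((Fin.cast hr' i).succAbove j |>.cast hr'.symm)) := by
        intro k hk
        obtain ⟨z, hz⟩ := Fin.exists_succAbove_eq (x := Fin.cast hr' k) (y := Fin.cast hr' i)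
          (fun h => hk (Fin.cast_injective hr' h))
        exact Ideal.subset_span ⟨z, by show F _ = F k; congr 1; rw [hz]; rfl⟩
      by_cases hj : j = i
      · subst hj
        exact Ideal.span_le.2 (by rintro _ ⟨k, hk, rfl⟩; exact haux k hk) hFi
      · exact haux j hj
  obtain ⟨d, hd, t, e, he⟩ := exists_exchange (maximalIdeal T) f hex hf F
    (fun i : ULift.{u} (Fin n) => f i.down) (by
      have : Set.range (fun i : ULift.{u} (Fin n) => f i.down) = Set.range f :=
        Equiv.ulift.surjective.range_comp f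
      rw [Ideal.span_union, this]
      exact sup_eq_right.2 (hF.trans_le hle))
    hind
  obtain ⟨hAex, hAsp⟩ := he T (by rw [Algebra.algebraMap_self, RingHom.id_apply]; exact IsLocalRing.notMem_maximalIdeal.1 hd)
  simp only [Algebra.algebraMap_self, RingHom.id_apply, Ideal.map_id] at hAex hAsp
  let G : Fin t → T := fun j => f (e j).down
  let l := List.ofFn (appendSeq F t G)
  have hlm : ∀ x ∈ l, x ∈ maximalIdeal T := fun x hx => by
    obtain ⟨i, rfl⟩ := List.mem_ofFn.1 hx
    exact Ideal.span_le.2 (Set.range_subset_iff.2 hf) (hAsp ▸ Ideal.subset_span ⟨i, rfl⟩)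
  have hl : IsWeaklyRegular T l := by
    rw [← List.ofFn_getElem (xs := l)]
    exact LC.weaklyRegular_of_rel _ _ (fun i => hlm _ (List.getElem_mem _)) fun u hu =>
      DefGlueLib.mem_trivR_of_isKoszulRegularSeq (KoszulFlatLib.isKoszulRegularSeq_of_isExact hAex) hu
  have happ : ∀ (k : ℕ) (G : Fin k → T), List.ofFn (appendSeq F k G) = List.ofFn G ++ List.ofFn F := by
    intro k
    induction k with
    | zero => intro G; simp [appendSeq]
    | succ k ih =>
      intro G
      show List.ofFn (Fin.cons (G 0) (appendSeq F k fun i => G i.succ) : Fin (r + k + 1) → T) = _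
      rw [List.ofFn_succ, List.ofFn_succ (f := G), List.cons_append]
      simp only [Fin.cons_zero, Fin.cons_succ]
      rw [ih]
  have hperm : IsWeaklyRegular T (List.ofFn F ++ List.ofFn G) :=
    IsLocalRing.isWeaklyRegular_of_perm_of_subset_maximalIdeal hl (by
      show List.Perm (List.ofFn _) _
      rw [happ]
      exact List.perm_append_comm) hlm
  obtain ⟨h1, h2⟩ := (isWeaklyRegular_append_iff T _ _).1 hperm
  refine ⟨⟨r, F, h1, hF⟩, t, fun j => σ (G j), ?_, ?_⟩
  · have hJ : (Ideal.ofList (List.ofFn F) • ⊤ : Submodule T T) = RingHom.ker σ := by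
      rw [smul_eq_mul, Ideal.mul_top, show RingHom.ker σ = _ from hF.symm]
      exact congrArg Ideal.span (Set.ext fun x => List.mem_ofFn)
    let eS : (T ⧸ (Ideal.ofList (List.ofFn F) • ⊤ : Submodule T T)) ≃+ S :=
      (Submodule.quotEquivOfEq _ _ hJ).toAddEquiv.trans (RingHom.quotientKerEquivOfSurjective hσ).toAddEquiv
    refine (AddEquiv.isWeaklyRegular_congr (e := eS) (List.forall₂_iff_get.2 ⟨by simp, fun i h₁ h₂ x => ?_⟩)).1 h2
    obtain ⟨y, rfl⟩ := Submodule.Quotient.mk_surjective _ x
    simp only [List.get_eq_getElem, List.getElem_ofFn]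
    exact map_mul σ _ y
  · rw [← hAsp, span_appendSeq, Ideal.map_sup, hF, (Ideal.map_eq_bot_iff_le_ker σ).2 le_rfl, bot_sup_eq,
      Ideal.map_span, ← Set.range_comp]
    rfl

end Local

/-- Weakly regular generators at a prime give Koszul regularity. -/
theorem kReg_of_atPrime {R : Type u} [CommRing R] [IsNoetherianRing R] (I : Ideal R) (p : Ideal R) [p.IsPrime]
    (hIp : I ≤ p) {r : ℕ} (x : Fin r → Localization.AtPrime p)
    (hreg : IsWeaklyRegular (Localization.AtPrime p) (List.ofFn x))
    (hgen : Ideal.span (Set.range x) = I.map (algebraMap R (Localization.AtPrime p))) : KReg I p := by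
  obtain ⟨g, hg, l, hl, hlI⟩ := exists_away_isRegular_of_atPrime I p hIp x hreg hgen
  refine ⟨g, hg, (kRegOn_iff_exists_list _ _).2 ⟨l, Synt29.isKoszulRegularSeq_of_local l ?_, hlI.symm⟩⟩
  intro q hq _ _
  haveI : Module.Flat (Localization.Away g) (Localization.AtPrime q) :=
    IsLocalization.flat (Localization.AtPrime q) q.primeCompl
  exact hl.toIsWeaklyRegular.of_flat

/-- A Koszul regular ideal splits along a quotient over which it has finite projective dimension. -/
theorem kReg_split {E B' : Type u} [CommRing E] [CommRing B'] [IsNoetherianRing E] (τ : E →+* B')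
    (hτ : Function.Surjective τ) (K : Ideal E) (hle : RingHom.ker τ ≤ K) (Q : Ideal B') [Q.IsPrime]
    (hKQ : K.map τ ≤ Q) (hK : KReg K (Q.comap τ)) {D : ℕ}
    (hpd : RegLoc6.PdLE (Localization.AtPrime Q) D
      (Localization.AtPrime Q ⧸ (K.map τ).map (algebraMap B' (Localization.AtPrime Q)))) :
    KReg (RingHom.ker τ) (Q.comap τ) ∧ KReg (K.map τ) Q := by
  obtain ⟨g, hg, n, m, hm, hmK⟩ := hK
  let T := Localization.AtPrime (Q.comap τ)
  let σ : T →+* Localization.AtPrime Q := Localization.localRingHom (Q.comap τ) Q τ rfl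
  have hσ : Function.Surjective σ := RingHom.surjective_localRingHom_of_surjective τ hτ Q
  have hker : RingHom.ker σ = (RingHom.ker τ).map (algebraMap E T) := by
    refine IsLocalization.ker_map _ τ (le_antisymm ?_ ?_)
    · rintro _ ⟨z, hz, rfl⟩
      exact hz
    · intro z hz
      obtain ⟨w, rfl⟩ := hτ z
      exact ⟨w, hz, rfl⟩
  have hu : IsUnit (algebraMap E T g) := IsLocalization.map_units T (⟨g, hg⟩ : (Q.comap τ).primeCompl)
  letI : Algebra (Localization.Away g) T :=
    (IsLocalization.Away.lift (g := algebraMap E T) g hu : Localization.Away g →+* T).toAlgebra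
  haveI : IsScalarTower E (Localization.Away g) T :=
    IsScalarTower.of_algebraMap_eq (R := E) (S := Localization.Away g) (A := T) fun x =>
      (IsLocalization.Away.lift_eq (g := algebraMap E T) g hu x).symm
  haveI : Module.Flat E T := IsLocalization.flat T (Q.comap τ).primeCompl
  haveI : Module.Flat (Localization.Away g) T :=
    (Module.flat_iff_of_isLocalization (Localization.Away g) (Submonoid.powers g) T).2 inferInstance
  let f : Fin n → T := fun i => algebraMap (Localization.Away g) T (m i)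
  have hfK : Ideal.span (Set.range f) = K.map (algebraMap E T) := by
    rw [IsScalarTower.algebraMap_eq E (Localization.Away g) T, ← Ideal.map_map, hmK, Ideal.map_span, ← Set.range_comp]
    rfl
  have hcomm : σ.comp (algebraMap E T) = (algebraMap B' (Localization.AtPrime Q)).comp τ :=
    IsLocalization.map_comp _
  have hKσ : (Ideal.span (Set.range f)).map σ = (K.map τ).map (algebraMap B' (Localization.AtPrime Q)) := by
    rw [hfK, Ideal.map_map, Ideal.map_map, hcomm]
  have hKp : K ≤ Q.comap τ := Ideal.map_le_iff_le_comap.1 hKQ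
  have hfm : ∀ i, f i ∈ IsLocalRing.maximalIdeal T := fun i => by
    have h : f i ∈ (Q.comap τ).map (algebraMap E T) :=
      Ideal.map_mono hKp (hfK ▸ Ideal.subset_span ⟨i, rfl⟩)
    rwa [IsLocalization.AtPrime.map_eq_maximalIdeal] at h
  have hJeq : Ideal.span (Set.range fun i => σ (f i)) = (K.map τ).map (algebraMap B' (Localization.AtPrime Q)) := by
    rw [← hKσ, Ideal.map_span, ← Set.range_comp]
    rfl
  obtain ⟨⟨r, F, hF, hFs⟩, t, G, hG, hGs⟩ := exists_weaklyRegular_split σ hσ f hfm (isExact_map hm)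
    (by rw [hker, hfK]; exact Ideal.map_mono hle) (D := D) (by rw [hJeq]; exact hpd)
  haveI : IsNoetherianRing B' := isNoetherianRing_of_surjective E B' τ hτ
  exact ⟨kReg_of_atPrime _ _ (hle.trans hKp) F hF (hFs.trans hker), kReg_of_atPrime _ _ hKQ G hG (hGs.trans hKσ)⟩

open MvPolynomial in
/-- Permanence for presentations: if `A → C` is a local complete intersection and `B → C` has finite projective
dimension at a point, then `A → B` and `B → C` are Koszul regular there. -/
theorem kReg_of_isLCI_comp {A B C : Type u} [CommRing A] [CommRing B] [CommRing C] [IsNoetherianRing A]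
    [Algebra A B] [Algebra A C] [Algebra B C] [IsScalarTower A B C] (hAC : LCI.IsLCI A C) {n m : ℕ}
    (α : MvPolynomial (Fin n) A →ₐ[A] B) (hα : Function.Surjective α)
    (ψ : MvPolynomial (Fin m) B →ₐ[B] C) (hψ : Function.Surjective ψ) (𝔮 : Ideal C) [𝔮.IsPrime] {D : ℕ}
    (hpd : RegLoc6.PdLE (Localization.AtPrime (𝔮.comap ψ.toRingHom)) D
      (Localization.AtPrime (𝔮.comap ψ.toRingHom) ⧸ (RingHom.ker ψ.toRingHom).map
        (algebraMap (MvPolynomial (Fin m) B) (Localization.AtPrime (𝔮.comap ψ.toRingHom))))) :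
    KReg (RingHom.ker α.toRingHom) ((𝔮.comap (algebraMap B C)).comap α.toRingHom) ∧
      KReg (RingHom.ker ψ.toRingHom) (𝔮.comap ψ.toRingHom) := by
  let P := MvPolynomial (Fin n) A
  let E := MvPolynomial (Fin m) P
  let τ : E →+* MvPolynomial (Fin m) B := MvPolynomial.map α.toRingHom
  have hτ : Function.Surjective τ := MvPolynomial.map_surjective _ hα
  haveI : Algebra.Smooth A P := ⟨inferInstance, inferInstance⟩
  haveI : Algebra.Smooth P E := ⟨inferInstance, inferInstance⟩
  haveI : Algebra.Smooth A E := Algebra.Smooth.comp A P E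
  let β : E →ₐ[A] C := ⟨ψ.toRingHom.comp τ, fun x => by
    show ψ (MvPolynomial.map α.toRingHom (algebraMap A E x)) = _
    rw [IsScalarTower.algebraMap_apply A P E, MvPolynomial.algebraMap_eq, MvPolynomial.map_C]
    show ψ (MvPolynomial.C (α (algebraMap A P x))) = _
    rw [AlgHom.commutes, ← MvPolynomial.algebraMap_eq, AlgHom.commutes, ← IsScalarTower.algebraMap_apply]⟩
  have hK := kReg_of_isLCI hAC β (hψ.comp hτ) 𝔮
  let Q := 𝔮.comap ψ.toRingHom
  have hmap : (RingHom.ker β.toRingHom).map τ = RingHom.ker ψ.toRingHom :=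
    Ideal.map_comap_of_surjective τ hτ (RingHom.ker ψ.toRingHom)
  have hle : RingHom.ker τ ≤ RingHom.ker β.toRingHom := fun x hx => by
    show ψ (τ x) = 0
    rw [show τ x = 0 from hx, map_zero]
  obtain ⟨h1, h2⟩ := kReg_split τ hτ (RingHom.ker β.toRingHom) hle Q (by
    rw [hmap]
    intro x hx
    show ψ x ∈ 𝔮
    rw [show ψ x = 0 from hx]
    exact zero_mem _) hK (D := D) (by rw [hmap]; exact hpd)
  rw [hmap] at h2
  refine ⟨?_, h2⟩
  have hτker : RingHom.ker τ = (RingHom.ker α.toRingHom).map (algebraMap P E) := MvPolynomial.ker_map _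
  rw [hτker] at h1
  have hd := KReg.descend (RingHom.ker α.toRingHom) (Q.comap τ) (by
    rw [← hτker]
    intro x hx
    show τ x ∈ Q
    rw [show τ x = 0 from hx]
    exact zero_mem _) h1
  have hc : ψ.toRingHom.comp (τ.comp (algebraMap P E)) = (algebraMap B C).comp α.toRingHom := RingHom.ext fun x => by
    show ψ (MvPolynomial.map α.toRingHom (MvPolynomial.C x)) = algebraMap B C (α x)
    rw [MvPolynomial.map_C, ← MvPolynomial.algebraMap_eq]
    exact ψ.commutes (α x)
  rw [Ideal.comap_comap, Ideal.comap_comap, hc, ← Ideal.comap_comap] at hd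
  exact hd

end Groth.Agent.KRegLib
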