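import Mathlib
import Groth.Agent.KRegLib.Mor
import Groth.Agent.KRegLib.Perm
import Groth.Agent.KRegLib.Regular
import Groth.Prelude.Def_Mor2

/-!
# Koszul regular closed immersions into locally noetherian schemes are regular
-/

set_option autoImplicit false
set_option linter.style.haveILetI false
set_option backward.isDefEq.respectTransparency.types false

universe u

open AlgebraicGeometry CategoryTheory RingTheory.Sequence IsLocalRing
open Groth.Agent.WiebeLib

namespace Groth.Agent.KRegLib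

/-- In a noetherian local ring a Koszul regular sequence in the maximal ideal is weakly regular. -/
theorem isWeaklyRegular_of_isExact_local {T : Type u} [CommRing T] [IsLocalRing T] [IsNoetherianRing T] {n : ℕ}
    (f : Fin n → T) (hf : ∀ i, f i ∈ maximalIdeal T) (hex : IsExact f) : IsWeaklyRegular T (List.ofFn f) :=
  by
  have hl := KoszulFlatLib.isKoszulRegularSeq_of_isExact hex
  have hm : ∀ x ∈ List.ofFn f, x ∈ maximalIdeal T := fun x hx => by
    obtain ⟨i, rfl⟩ := List.mem_ofFn.1 hx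
    exact hf i
  rw [← List.ofFn_getElem (xs := List.ofFn f)]
  exact LC.weaklyRegular_of_rel _ _ (fun i => hm _ (List.getElem_mem _)) fun _ hu =>
    DefGlueLib.mem_trivR_of_isKoszulRegularSeq hl hu

/-- Over a noetherian ring, a Koszul regular ideal is locally generated by a regular sequence. -/
theorem exists_isRegular_of_kReg {R : Type u} [CommRing R] [IsNoetherianRing R] (I p : Ideal R) [p.IsPrime]
    (hIp : I ≤ p) (h : KReg I p) : ∃ g : R, g ∉ p ∧ ∃ rs : List (Localization.Away g),
      IsRegular (Localization.Away g) rs ∧ Ideal.ofList rs = I.map (algebraMap R (Localization.Away g)) := by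
  obtain ⟨g, hg, hon⟩ := h.exists_on
  let T := Localization.AtPrime p
  haveI : Module.Flat R T := IsLocalization.flat T p.primeCompl
  obtain ⟨n, f, hf, hI⟩ := hon T (IsLocalization.map_units T (⟨g, hg⟩ : p.primeCompl))
  refine exists_away_isRegular_of_atPrime I p hIp f (isWeaklyRegular_of_isExact_local f (fun i => ?_) hf) hI.symm
  rw [← IsLocalization.AtPrime.map_eq_maximalIdeal p T]
  exact Ideal.map_mono hIp (hI ▸ Ideal.subset_span ⟨i, rfl⟩)

/-- A closed immersion into a locally noetherian scheme which is a local complete intersection morphism is a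
regular closed immersion. -/
theorem regClosed_of_isLCI' {Z X : Scheme.{u}} (i : Z ⟶ X) [IsClosedImmersion i] [IsLocallyNoetherian X]
    (h : IsLCI' i) : Mor2.IsRegularClosedImmersion i := by
  refine ⟨inferInstance, fun z => ?_⟩
  rw [HasRingHomProperty.iff_appLE (P := IsLCI'.{u})] at h
  obtain ⟨D, hD, hzD, -⟩ := exists_isAffineOpen_mem_and_subset (U := ⊤) (x := i z) trivial
  have hU : IsAffineOpen (i ⁻¹ᵁ D) := hD.preimage i
  have hl := h ⟨D, hD⟩ ⟨_, hU⟩ le_rfl
  letI : Algebra Γ(X, D) Γ(Z, i ⁻¹ᵁ D) := (i.appLE D (i ⁻¹ᵁ D) le_rfl).hom.toAlgebra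
  have hl' : LCI.IsLCI Γ(X, D) Γ(Z, i ⁻¹ᵁ D) := hl
  haveI : Algebra.Smooth Γ(X, D) Γ(X, D) := ⟨inferInstance, inferInstance⟩
  let ψ := Algebra.ofId Γ(X, D) Γ(Z, i ⁻¹ᵁ D)
  have happ : ψ.toRingHom = (i.app D).hom := by rw [Scheme.Hom.app_eq_appLE]; rfl
  have hs : Function.Surjective ψ := by
    intro b
    obtain ⟨a, rfl⟩ := i.app_surjective D hD b
    exact ⟨a, RingHom.congr_fun happ a⟩
  let 𝔮 := (hU.primeIdealOf ⟨z, hzD⟩).asIdeal
  have hK := kReg_of_isLCI hl' ψ hs 𝔮
  haveI : IsNoetherianRing Γ(X, D) := IsLocallyNoetherian.component_noetherian ⟨D, hD⟩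
  obtain ⟨g, hg, rs, hrs, hrsI⟩ := exists_isRegular_of_kReg _ _ (fun x hx => by
    rw [Ideal.mem_comap, show ψ.toRingHom x = 0 from hx]
    exact zero_mem _) hK
  rw [happ] at hrsI
  have hp : 𝔮.comap ψ.toRingHom = (hD.primeIdealOf ⟨i z, hzD⟩).asIdeal :=
    congrArg PrimeSpectrum.asIdeal (IsAffineOpen.comap_primeIdealOf_appLE (f := i) D hD (i ⁻¹ᵁ D) hU le_rfl hzD)
  rw [hp] at hg
  letI : Algebra Γ(X, D) Γ(X, X.basicOpen g) := (X.presheaf.map (homOfLE (X.basicOpen_le g)).op).hom.toAlgebra
  haveI : IsLocalization.Away g Γ(X, X.basicOpen g) := hD.isLocalization_basicOpen g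
  let e : Localization.Away g ≃ₐ[Γ(X, D)] Γ(X, X.basicOpen g) :=
    IsLocalization.algEquiv (Submonoid.powers g) _ _
  have hzg : i z ∈ X.basicOpen g := by
    rw [← hD.fromSpec_image_basicOpen g]
    exact ⟨hD.primeIdealOf ⟨i z, hzD⟩, hg, hD.fromSpec_primeIdealOf _⟩
  refine ⟨X.basicOpen g, hD.basicOpen g, hzg, rs.map e, ?_, ?_⟩
  · refine (AddEquiv.isRegular_congr (e := e.toRingEquiv.toAddEquiv) (as := rs) (bs := rs.map e) ?_).1 hrs
    exact List.forall₂_map_right_iff.2 (List.forall₂_same.2 fun x _ y => map_mul e x y)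
  · obtain ⟨hD', hDs⟩ := Synt29.surjective_app_of_isClosedImmersion_restrict i D hD
    rw [Scheme.Hom.ker_apply]
    have h3 := (app_basicOpen_props i hD hD' hDs g).2.2
    refine Eq.trans h3 ?_
    have h4 : (Ideal.ofList rs).map e.toRingEquiv.toRingHom = Ideal.ofList (rs.map e) := Ideal.map_ofList _ _
    rw [← h4, hrsI, Ideal.map_map]
    congr 1
    exact (RingHom.ext fun x => (e.commutes x)).symm

/-- The same, from the pointwise Koszul condition. -/
theorem regClosed_of_isKoszulAt {Z X : Scheme.{u}} (i : Z ⟶ X) [IsClosedImmersion i] [IsLocallyNoetherian X]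
    (h : ∀ z, Synt.IsKoszulAt i z) : Mor2.IsRegularClosedImmersion i :=
  regClosed_of_isLCI' i ((forall_isKoszulAt_iff i).1 h)

end Groth.Agent.KRegLib
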