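import Mathlib
import Groth.Agent.KRegLib.Elem

/-!
# Weakly regular sequences are Koszul exact
-/

set_option autoImplicit false
set_option linter.style.haveILetI false
set_option backward.isDefEq.respectTransparency.types false

universe u

open Groth.Agent.WiebeLib RingTheory.Sequence

namespace Groth.Agent.KRegLib

/-- Exactness is invariant under permutations. -/
theorem isExact_comp_equiv {R : Type u} [CommRing R] {n : ℕ} {f : Fin n → R} (hf : IsExact f) (σ : Equiv.Perm (Fin n)) :
    IsExact fun i => f (σ i) := by
  classical
  refine isExact_of_isUnit_det hf (Matrix.of fun i j => if j = σ.symm i then 1 else 0) ?_ fun i => ?_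
  · refine Matrix.isUnit_det_of_right_inverse (B := Matrix.of fun i j => if j = σ i then 1 else 0) ?_
    ext i j
    simp only [Matrix.mul_apply, Matrix.of_apply, Matrix.one_apply, ite_mul, one_mul, zero_mul, Finset.sum_ite_eq', Finset.mem_univ, if_true]
    rw [show σ (σ.symm i) = i from σ.apply_symm_apply i]
    exact if_congr eq_comm rfl rfl
  · simp

theorem isExact_zero_elems {R : Type u} [CommRing R] (f : Fin 0 → R) : IsExact f := fun k x _ =>
  haveI := subsingleton_ko R (Nat.succ_pos k)
  ⟨0, Subsingleton.elim _ _⟩

/-- A nonzerodivisor is exact. -/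
theorem isExact_single {R : Type u} [CommRing R] {a : R} (ha : IsSMulRegular R a) :
    IsExact fun _ : Fin 1 => a := by
  intro k x hx
  rcases k with _ | k
  · refine ⟨0, funext fun i => ?_⟩
    rw [map_zero]
    rcases i with i | i
    · exact Empty.elim i
    · have h := congrFun hx i
      have h' : a * x (Sum.inr i) = 0 := by
        refine Eq.trans ?_ h
        exact (zero_add _).symm
      exact (ha (show a • x (Sum.inr i) = a • (0 : R) by rw [smul_eq_mul, h', smul_zero])).symm
  · haveI := subsingleton_ko R (show 1 < k + 1 + 1 by omega)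
    exact ⟨0, Subsingleton.elim _ _⟩

/-- A weakly regular sequence is exact. -/
theorem isExact_of_isWeaklyRegular : ∀ {n : ℕ} {R : Type u} [CommRing R] (f : Fin n → R),
    IsWeaklyRegular R (List.ofFn f) → IsExact f
  | 0, R, _, f, _ => isExact_zero_elems f
  | n + 1, R, _, f, h => by
    rw [List.ofFn_succ, isWeaklyRegular_cons_iff'] at h
    let I : Ideal R := Ideal.span (Set.range fun _ : Fin 1 => f 0)
    let q := Ideal.Quotient.mk I
    have hI : (Ideal.span {f 0} : Ideal R) = I := by simp [I]
    let e : QuotSMulTop (f 0) R ≃+ R ⧸ I := (Submodule.quotEquivOfEq _ _ (by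
      rw [← Submodule.ideal_span_singleton_smul, smul_eq_mul, Ideal.mul_top, hI])).toAddEquiv
    have h2 : IsWeaklyRegular (R ⧸ I) (List.ofFn fun i : Fin n => q (f i.succ)) := by
      refine (AddEquiv.isWeaklyRegular_congr (e := e) (List.forall₂_iff_get.2 ⟨by simp, fun i h₁ h₂ x => ?_⟩)).1 h.2
      obtain ⟨y, rfl⟩ := Submodule.Quotient.mk_surjective _ x
      simp only [List.get_eq_getElem, List.getElem_map, List.getElem_ofFn]
      exact map_mul q _ y
    have ha := isExact_appendSeq (f := fun _ : Fin 1 => f 0) (q := q) (isExact_single h.1) Ideal.Quotient.mk_surjective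
      Ideal.mk_ker (fun i : Fin n => f i.succ) (isExact_of_isWeaklyRegular _ h2)
    have key : ∀ (m : ℕ) (g : Fin m → R), ∃ σ : Fin (1 + m) ≃ Fin (m + 1),
        appendSeq (fun _ : Fin 1 => f 0) m g = fun i => (Fin.cons (f 0) g : Fin (m + 1) → R) (σ i) := by
      intro m
      induction m with
      | zero =>
        intro g
        exact ⟨Equiv.refl _, funext fun i => by
          obtain rfl : i = 0 := @Subsingleton.elim (Fin 1) _ _ _
          rfl⟩
      | succ m ih =>
        intro g
        obtain ⟨σ, hσ⟩ := ih fun i => g i.succ
        refine ⟨((finSuccEquiv (1 + m)).trans ((Equiv.optionCongr σ).trans (finSuccEquiv (m + 1)).symm)).trans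
          (Equiv.swap 0 1), funext fun i => ?_⟩
        show (Fin.cons (g 0) (appendSeq _ m fun i => g i.succ) : Fin (1 + m + 1) → R) i = _
        induction i using Fin.cases with
        | zero => simp [Equiv.swap_apply_left]
        | succ j =>
          rw [Fin.cons_succ, hσ]
          simp only [Equiv.trans_apply, finSuccEquiv_succ, Equiv.optionCongr_apply, Option.map_some, finSuccEquiv_symm_some]
          generalize σ j = k
          induction k using Fin.cases with
          | zero => simp [Fin.succ_zero_eq_one, Equiv.swap_apply_right]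
          | succ k =>
            rw [Equiv.swap_apply_of_ne_of_ne (Fin.succ_ne_zero _) (by
              rw [← Fin.succ_zero_eq_one]; exact fun h => Fin.succ_ne_zero _ (Fin.succ_injective _ h))]
            simp
    obtain ⟨σ, hσ⟩ := key n fun i => f i.succ
    rw [hσ] at ha
    have aux : ∀ (m : ℕ) (hm : m = n + 1) (τ : Fin m ≃ Fin (n + 1)), IsExact (fun i => f (τ i)) → IsExact f := by
      rintro m rfl τ hF
      have := isExact_comp_equiv hF τ.symm
      simpa using this
    refine aux (1 + n) (Nat.add_comm 1 n) σ ?_
    convert ha using 1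
    funext i
    exact congrFun (Fin.cons_self_tail f).symm (σ i)

end Groth.Agent.KRegLib
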