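import Mathlib
import Groth.Agent.KRegLib.Closed
import Groth.Agent.QRegBC.Lift
import Groth.Agent.S2103
import Groth.Agent.S5802
import Groth.Agent.S5803
import Groth.Agent.S15821

/-!
# The kinds of regular immersions agree over locally noetherian schemes
-/

set_option autoImplicit false
set_option linter.style.haveILetI false
set_option backward.isDefEq.respectTransparency.types false

universe u

open AlgebraicGeometry CategoryTheory RingTheory.Sequence IsLocalRing
open Groth.Agent.WiebeLib

namespace Groth.Agent.KRegLib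

theorem h1_of_koszul {R : Type u} [CommRing R] (rs : List R) (h : LCI.IsKoszulRegularSeq R rs) :
    CAlgX.IsH1Regular rs.get := by
  intro a ha
  have hu : DefGlueLib.dot (fun i : Fin rs.length => rs[i]) a = 0 := by
    rw [← ha]
    simp [DefGlueLib.dot, Fintype.linearCombination_apply]
  refine Submodule.span_le.2 ?_ (DefGlueLib.mem_trivR_of_isKoszulRegularSeq h hu)
  rintro _ ⟨⟨i, j⟩, rfl⟩
  refine Submodule.subset_span ⟨i, j, ?_⟩
  funext k
  simp [Pi.single_apply]

theorem seq_of_isRegular {R : Type u} [CommRing R] (k : RegImm.Kind) (rs : List R) (h : IsRegular R rs) :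
    k.Seq R rs := by
  have hK := (Groth.Agent.S15821.result R rs h.toIsWeaklyRegular).1
  cases k with
  | regular => exact h
  | koszul => exact hK
  | h1 => exact h1_of_koszul rs hK
  | quasi => exact Groth.Agent.S2103.result _ (h1_of_koszul rs hK)

theorem quasi_of_seq {R : Type u} [CommRing R] (k : RegImm.Kind) (rs : List R) (h : k.Seq R rs) :
    CAlgX.IsQuasiRegular rs.get := by
  cases k with
  | regular => exact Groth.Agent.S5802.result R _ rs.get (by rw [List.ofFn_get]; exact h.toIsWeaklyRegular)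
  | koszul => exact Groth.Agent.S2103.result _ (h1_of_koszul rs h)
  | h1 => exact Groth.Agent.S2103.result _ h
  | quasi => exact h

/-- In a noetherian ring a quasi-regular sequence is Koszul regular near each prime containing it. -/
theorem kReg_of_quasi {R : Type u} [CommRing R] [IsNoetherianRing R] (I p : Ideal R) [p.IsPrime] (hIp : I ≤ p)
    (rs : List R) (hq : CAlgX.IsQuasiRegular rs.get) (hI : I = Ideal.ofList rs) : KReg I p := by
  let T := Localization.AtPrime p
  let x : Fin rs.length → T := fun i => algebraMap R T (rs.get i)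
  have hr : Set.range rs.get = {y | y ∈ rs} := by
    ext y
    simp [List.mem_iff_get]
  have hgen : Ideal.span (Set.range x) = I.map (algebraMap R T) := by
    rw [hI, Ideal.ofList, ← hr, Ideal.map_span, ← Set.range_comp]
    rfl
  refine kReg_of_atPrime I p hIp x (Groth.Agent.S5803.result T _ x (fun i => ?_)
    (QRegBC.isQuasiRegular_localization (R := T) p.primeCompl rs.get hq)) hgen
  rw [IsLocalRing.ringJacobson_eq_maximalIdeal, ← IsLocalization.AtPrime.map_eq_maximalIdeal p T]
  exact Ideal.map_mono hIp (hgen ▸ Ideal.subset_span ⟨i, rfl⟩)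

theorem ker_app_le_primeIdealOf {Z P : Scheme.{u}} (i : Z ⟶ P) {D : P.Opens} (hD : IsAffineOpen D)
    (hD' : IsAffineOpen (i ⁻¹ᵁ D)) (z : Z) (hzD : i z ∈ D) :
    RingHom.ker (i.app D).hom ≤ (hD.primeIdealOf ⟨i z, hzD⟩).asIdeal := by
  intro x hx
  have hc := congrArg PrimeSpectrum.asIdeal
    (IsAffineOpen.comap_primeIdealOf_appLE (f := i) D hD (i ⁻¹ᵁ D) hD' le_rfl hzD)
  have he : (i.appLE D (i ⁻¹ᵁ D) le_rfl).hom = (i.app D).hom := by rw [Scheme.Hom.app_eq_appLE]
  rw [← hc, PrimeSpectrum.comap_asIdeal, Ideal.mem_comap, he, show (i.app D).hom x = 0 from hx]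
  exact zero_mem _

/-- A Koszul regular kernel gives a regular immersion at the point, of every kind. -/
theorem regImmAt_of_kReg {Z P : Scheme.{u}} [IsLocallyNoetherian P] (k : RegImm.Kind) (i : Z ⟶ P) (z : Z)
    {D : P.Opens} (hD : IsAffineOpen D) (hzD : i z ∈ D) [IsClosedImmersion (i ∣_ D)]
    (h : KReg (RingHom.ker (i.app D).hom) (hD.primeIdealOf ⟨i z, hzD⟩).asIdeal) :
    RegImm.IsRegularImmersionAt k i z := by
  haveI : IsNoetherianRing Γ(P, D) := IsLocallyNoetherian.component_noetherian ⟨D, hD⟩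
  obtain ⟨hD', hDs⟩ := Synt29.surjective_app_of_isClosedImmersion_restrict i D hD
  have hle := ker_app_le_primeIdealOf i hD hD' z hzD
  obtain ⟨g, hg, rs, hrs, hrsI⟩ := exists_isRegular_of_kReg _ _ hle h
  letI : Algebra Γ(P, D) Γ(P, P.basicOpen g) := (P.presheaf.map (homOfLE (P.basicOpen_le g)).op).hom.toAlgebra
  haveI : IsLocalization.Away g Γ(P, P.basicOpen g) := hD.isLocalization_basicOpen g
  let e : Localization.Away g ≃ₐ[Γ(P, D)] Γ(P, P.basicOpen g) :=
    IsLocalization.algEquiv (Submonoid.powers g) _ _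
  have hzg : i z ∈ P.basicOpen g := by
    rw [← hD.fromSpec_image_basicOpen g]
    exact ⟨hD.primeIdealOf ⟨i z, hzD⟩, hg, hD.fromSpec_primeIdealOf _⟩
  refine ⟨⟨P.basicOpen g, hD.basicOpen g⟩, hzg, isClosedImmersion_restrict_of_le i (P.basicOpen_le g),
    rs.map e, seq_of_isRegular k _ ?_, ?_⟩
  · refine (AddEquiv.isRegular_congr (e := e.toRingEquiv.toAddEquiv) (as := rs) (bs := rs.map e) ?_).1 hrs
    exact List.forall₂_map_right_iff.2 (List.forall₂_same.2 fun x _ y => map_mul e x y)
  · refine Eq.trans (app_basicOpen_props i hD hD' hDs g).2.2 ?_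
    have h4 : (Ideal.ofList rs).map e.toRingEquiv.toRingHom = Ideal.ofList (rs.map e) := Ideal.map_ofList _ _
    rw [← h4, hrsI, Ideal.map_map]
    congr 1
    exact (RingHom.ext fun x => (e.commutes x)).symm

/-- Over a locally noetherian scheme the kinds of regular immersion at a point agree. -/
theorem regImmAt_of_regImmAt {Z P : Scheme.{u}} [IsLocallyNoetherian P] (k k' : RegImm.Kind) (i : Z ⟶ P) (z : Z)
    (h : RegImm.IsRegularImmersionAt k i z) : RegImm.IsRegularImmersionAt k' i z := by
  obtain ⟨⟨W, hW⟩, hzW, hci, rs, hrs, hker⟩ := h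
  obtain ⟨hW', hWs⟩ := Synt29.surjective_app_of_isClosedImmersion_restrict i W hW
  haveI : IsNoetherianRing Γ(P, W) := IsLocallyNoetherian.component_noetherian ⟨W, hW⟩
  exact regImmAt_of_kReg k' i z hW hzW
    (kReg_of_quasi _ _ (ker_app_le_primeIdealOf i hW hW' z hzW) rs (quasi_of_seq k rs hrs) hker)

theorem regImm_of_regImm {Z P : Scheme.{u}} [IsLocallyNoetherian P] (k k' : RegImm.Kind) (i : Z ⟶ P)
    (h : RegImm.IsRegularImmersion k i) : RegImm.IsRegularImmersion k' i :=
  ⟨h.1, fun z => regImmAt_of_regImmAt k k' i z (h.2 z)⟩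

end Groth.Agent.KRegLib
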