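import Mathlib
import Groth.Agent.KRegLib.Mor

/-!
# Flat base change of local complete intersections
-/

set_option autoImplicit false
set_option linter.style.haveILetI false
set_option backward.isDefEq.respectTransparency.types false

universe u

open TensorProduct AlgebraicGeometry CategoryTheory

attribute [local instance] MvPolynomial.algebraMvPolynomial

namespace Groth.Agent.KRegLib

/-- The base change of a presentation. -/
theorem exists_baseChange_presentation {k L B B' : Type u} [CommRing k] [CommRing L] [Algebra k L] [CommRing B] [Algebra k B]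
    [CommRing B'] [Algebra L B'] [Algebra k B'] [Algebra B B'] [IsScalarTower k L B'] [IsScalarTower k B B']
    [Algebra.IsPushout k L B B'] {n : ℕ} (f : MvPolynomial (Fin n) k →ₐ[k] B) (hf : Function.Surjective f) :
    ∃ g : MvPolynomial (Fin n) L →ₐ[L] B', Function.Surjective g ∧
      (∀ x, g (MvPolynomial.map (algebraMap k L) x) = algebraMap B B' (f x)) ∧
      RingHom.ker g.toRingHom = (RingHom.ker f.toRingHom).map (MvPolynomial.map (algebraMap k L)) := by
  let e1 := MvPolynomial.algebraTensorAlgEquiv (σ := Fin n) k L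
  let m : L ⊗[k] MvPolynomial (Fin n) k →ₐ[L] L ⊗[k] B := Algebra.TensorProduct.map (AlgHom.id L L) f
  let e2 : L ⊗[k] B ≃ₐ[L] B' := Algebra.IsPushout.equiv k L B B'
  have hm : Function.Surjective m := fun z => by
    induction z using TensorProduct.induction_on with
    | zero => exact ⟨0, map_zero m⟩
    | tmul a b =>
      obtain ⟨x, rfl⟩ := hf b
      exact ⟨a ⊗ₜ[k] x, by show Algebra.TensorProduct.map (AlgHom.id L L) f (a ⊗ₜ[k] x) = _; rw [Algebra.TensorProduct.map_tmul]; rfl⟩
    | add a b ha hb =>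
      obtain ⟨x, rfl⟩ := ha
      obtain ⟨y, rfl⟩ := hb
      exact ⟨x + y, map_add m x y⟩
  let g : MvPolynomial (Fin n) L →ₐ[L] B' := e2.toAlgHom.comp (m.comp e1.symm.toAlgHom)
  have hgx : ∀ x, g (MvPolynomial.map (algebraMap k L) x) = algebraMap B B' (f x) := fun x => by
    show e2 (m (e1.symm (MvPolynomial.map (algebraMap k L) x))) = _
    rw [MvPolynomial.algebraTensorAlgEquiv_symm_map]
    show e2 ((1 : L) ⊗ₜ[k] f x) = _
    rw [Algebra.IsPushout.equiv_tmul]
    simp
  refine ⟨g, e2.surjective.comp (hm.comp e1.symm.surjective), hgx, le_antisymm ?_ ?_⟩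
  · intro y hy
    have h1 : e1.symm y ∈ RingHom.ker m.toRingHom := e2.injective (by rw [map_zero]; exact hy)
    have h2 : RingHom.ker m.toRingHom =
        (RingHom.ker f.toRingHom).map (Algebra.TensorProduct.includeRight : MvPolynomial (Fin n) k →ₐ[k] L ⊗[k] _).toRingHom :=
      Algebra.TensorProduct.lTensor_ker (A := L) f hf
    rw [h2] at h1
    have h3 := Ideal.mem_map_of_mem e1.toRingEquiv.toRingHom h1
    rw [Ideal.map_map] at h3
    have h4 : e1.toRingEquiv.toRingHom.comp
        (Algebra.TensorProduct.includeRight : MvPolynomial (Fin n) k →ₐ[k] L ⊗[k] _).toRingHom =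
        MvPolynomial.map (algebraMap k L) := RingHom.ext fun x => by
      show e1 ((1 : L) ⊗ₜ[k] x) = _
      rw [MvPolynomial.algebraTensorAlgEquiv_tmul, one_smul]
    rw [h4] at h3
    rwa [show e1.toRingEquiv.toRingHom (e1.symm y) = y from e1.apply_symm_apply y] at h3
  · rw [Ideal.map_le_iff_le_comap]
    intro x hx
    show g (MvPolynomial.map (algebraMap k L) x) = 0
    rw [hgx, show f x = 0 from hx, map_zero]

/-- Local complete intersections are stable under flat base change. -/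
theorem isLCI_of_isPushout_flat {A A' B B' : Type u} [CommRing A] [CommRing A'] [CommRing B] [CommRing B']
    [Algebra A A'] [Algebra A B] [Algebra A' B'] [Algebra A B'] [Algebra B B'] [IsScalarTower A A' B']
    [IsScalarTower A B B'] [Algebra.IsPushout A A' B B'] [Module.Flat A A'] (h : LCI.IsLCI A B) : LCI.IsLCI A' B' := by
  obtain ⟨-, n, f, hf, -⟩ := id h
  obtain ⟨g, hg, hgx, hgk⟩ := exists_baseChange_presentation (L := A') (B' := B') f hf
  haveI : Algebra.Smooth A (MvPolynomial (Fin n) A) := ⟨inferInstance, inferInstance⟩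
  haveI : Algebra.Smooth A' (MvPolynomial (Fin n) A') := ⟨inferInstance, inferInstance⟩
  haveI : Module.Flat (MvPolynomial (Fin n) A) (MvPolynomial (Fin n) A') :=
    Module.Flat.isBaseChange A (MvPolynomial (Fin n) A) A' (MvPolynomial (Fin n) A')
      (Algebra.IsPushout.out (R := A) (S := MvPolynomial (Fin n) A) (R' := A') (S' := MvPolynomial (Fin n) A'))
  refine isLCI_of_kReg g hg fun 𝔮 _ => ?_
  rw [hgk]
  refine KReg.map (P := MvPolynomial (Fin n) A) (P' := MvPolynomial (Fin n) A') ?_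
  have hc : (𝔮.comap g.toRingHom).comap (algebraMap (MvPolynomial (Fin n) A) (MvPolynomial (Fin n) A')) =
      (𝔮.comap (algebraMap B B')).comap f.toRingHom := by
    ext x
    show g (MvPolynomial.map (algebraMap A A') x) ∈ 𝔮 ↔ algebraMap B B' (f x) ∈ 𝔮
    rw [hgx]
  rw [hc]
  exact kReg_of_isLCI h f hf _

/-- Flat base change of morphisms that are Koszul at every point. -/
theorem isLCI'_of_isPullback {X Y X' Y' : Scheme.{u}} {f : X ⟶ Y} {g : Y' ⟶ Y} [Flat g] {f' : X' ⟶ Y'} {g' : X' ⟶ X}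
    (hsq : IsPullback g' f' f g) (h : IsLCI' f) : IsLCI' f' := by
  rw [HasRingHomProperty.iff_appLE (P := IsLCI'.{u})] at h
  refine (forall_isKoszulAt_iff f').1 fun x' => ?_
  obtain ⟨V, hV, hxV, -⟩ := exists_isAffineOpen_mem_and_subset (U := ⊤) (x := f (g' x')) trivial
  obtain ⟨U, hU, hxU, hUV⟩ := exists_isAffineOpen_mem_and_subset (U := f ⁻¹ᵁ V) (x := g' x') hxV
  have hfg : g (f' x') = f (g' x') := by
    rw [← Scheme.Hom.comp_apply, ← Scheme.Hom.comp_apply, hsq.w]
  obtain ⟨V', hV', hxV', hV'V⟩ := exists_isAffineOpen_mem_and_subset (U := g ⁻¹ᵁ V) (x := f' x')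
    (show g (f' x') ∈ V from hfg ▸ hxV)
  let U' : X'.Opens := g' ⁻¹ᵁ U ⊓ f' ⁻¹ᵁ V'
  have hiso := isIso_pushoutSection_of_isAffineOpen hsq hV'V hUV (UY := U') rfl hV hV' hU
  have hpo := (isIso_pushoutSection_iff hsq (US := V) (UT := V') (UX := U) hV'V hUV (UY := U') rfl).1 hiso
  have hU' : IsAffineOpen U' := by
    haveI : IsAffine _ := hV
    haveI : IsAffine _ := hV'
    haveI : IsAffine _ := hU
    exact .of_isIso (Scheme.Hom.isPullback_resLE hsq hV'V hUV (UY := U') rfl).isoPullback.hom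
  letI : Algebra Γ(Y, V) Γ(Y', V') := (g.appLE V V' hV'V).hom.toAlgebra
  haveI : Module.Flat Γ(Y, V) Γ(Y', V') := HasRingHomProperty.appLE (P := @Flat) g inferInstance ⟨V, hV⟩ ⟨V', hV'⟩ hV'V
  letI : Algebra Γ(Y, V) Γ(X, U) := (f.appLE V U hUV).hom.toAlgebra
  letI : Algebra Γ(Y', V') Γ(X', U') := (f'.appLE V' U' inf_le_right).hom.toAlgebra
  letI : Algebra Γ(X, U) Γ(X', U') := (g'.appLE U U' inf_le_left).hom.toAlgebra
  letI : Algebra Γ(Y, V) Γ(X', U') := ((f'.appLE V' U' inf_le_right).hom.comp (g.appLE V V' hV'V).hom).toAlgebra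
  haveI : IsScalarTower Γ(Y, V) Γ(Y', V') Γ(X', U') := IsScalarTower.of_algebraMap_eq fun _ => rfl
  haveI : IsScalarTower Γ(Y, V) Γ(X, U) Γ(X', U') := IsScalarTower.of_algebraMap_eq fun a =>
    (RingHom.congr_fun (congrArg CommRingCat.Hom.hom hpo.w) a).symm
  haveI : Algebra.IsPushout Γ(Y, V) Γ(Y', V') Γ(X, U) Γ(X', U') := CommRingCat.isPushout_iff_isPushout.1 hpo.flip
  refine isKoszulAt_of_chart f' x' U' hU' V' hV' inf_le_right ⟨hxU, hxV'⟩ ?_
  exact isLCI_of_isPushout_flat (A := Γ(Y, V)) (A' := Γ(Y', V')) (B := Γ(X, U)) (B' := Γ(X', U'))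
    (h ⟨V, hV⟩ ⟨U, hU⟩ hUV)

end Groth.Agent.KRegLib
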