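import Mathlib
import Groth.Agent.KRegLib.Mor
import Groth.Agent.Synt29.LocalRelGCI
import Groth.Agent.Synt29.SyntomicAt
import Groth.Agent.Synt29.FlatLCI
import Groth.Agent.S9254
import Groth.Agent.S5938

/-!
# Descent of local complete intersections along syntomic surjections
-/

set_option autoImplicit false
set_option linter.style.haveILetI false
set_option backward.isDefEq.respectTransparency false
set_option backward.isDefEq.respectTransparency.types false

universe u

open AlgebraicGeometry CategoryTheory TensorProduct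
open Groth.Agent.Synt29 (mapPoly IsStd)

namespace Groth.Agent.KRegLib

/-- Equations which generate a Koszul regular ideal and are independent modulo the prime form a Koszul regular
sequence nearby. -/
theorem exists_isExact_nhd {E : Type u} [CommRing E] (𝔭 : Ideal E) [𝔭.IsPrime] {r : ℕ} (f : Fin r → E)
    (hf : ∀ i, f i ∈ 𝔭) (hK : KReg (Ideal.span (Set.range f)) 𝔭)
    (hind : ∀ u : Fin r → E, ∑ i, u i * f i = 0 → ∀ i, u i ∈ 𝔭) :
    ∃ G : E, G ∉ 𝔭 ∧ ∀ (T : Type u) [CommRing T] [Algebra E T] [IsLocalization.Away G T],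
      WiebeLib.IsExact fun i => algebraMap E T (f i) := by
  classical
  obtain ⟨g, hg, n, m, hm, hmK⟩ := hK
  let T := Localization.Away g
  obtain ⟨h𝔓, -⟩ := exists_prime_of_away T 𝔭 hg
  let 𝔓 := 𝔭.map (algebraMap E T)
  have hm𝔓 : ∀ i, m i ∈ 𝔓 := fun i =>
    Ideal.map_mono (Ideal.span_le.2 (Set.range_subset_iff.2 hf)) (hmK ▸ Ideal.subset_span ⟨i, rfl⟩)
  let F : Fin r → T := fun i => algebraMap E T (f i)
  let a : PEmpty.{u+1} → T := fun x => x.elim
  have hspan : Ideal.span (Set.range F ∪ Set.range a) = Ideal.span (Set.range m) := by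
    rw [Set.range_eq_empty a, Set.union_empty, ← hmK, Ideal.map_span, ← Set.range_comp]
    rfl
  have hind' : ∀ c : Fin r → T, ∑ i, c i * F i ∈ 𝔓 * Ideal.span (Set.range m) → ∀ i, c i ∈ 𝔓 := by
    intro c hc
    rw [← hspan, Set.range_eq_empty a, Set.union_empty, ← smul_eq_mul, Ideal.span,
      Submodule.mem_ideal_smul_span_iff_exists_sum 𝔓 F] at hc
    obtain ⟨b, hb, hby⟩ := hc
    have h0 : ∑ i, (c i - b i) * F i = 0 := by
      simp only [sub_mul, Finset.sum_sub_distrib]
      rw [← hby, Finsupp.sum_fintype _ _ (by simp)]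
      simp
    obtain ⟨s, hs⟩ := IsLocalization.exist_integer_multiples_of_finite (Submonoid.powers g) fun i => c i - b i
    choose u hu using hs
    have h1 : algebraMap E T (∑ i, u i * f i) = 0 := by
      rw [map_sum, ← mul_zero (algebraMap E T s), ← h0, Finset.mul_sum]
      exact Finset.sum_congr rfl fun i _ => by rw [map_mul, hu, Algebra.smul_def, mul_assoc]
    obtain ⟨⟨s', hs'⟩, hs0⟩ := (IsLocalization.map_eq_zero_iff (Submonoid.powers g) T _).1 h1
    have hu𝔭 := hind (fun i => s' * u i) (by simpa only [Finset.mul_sum, mul_assoc] using hs0)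
    intro i
    have hnot : s' ∉ 𝔭 := by
      obtain ⟨k, rfl⟩ := hs'
      exact fun hk => hg (Ideal.IsPrime.mem_of_pow_mem inferInstance k hk)
    have h2 : algebraMap E T (u i) ∈ 𝔓 :=
      Ideal.mem_map_of_mem _ ((Ideal.IsPrime.mem_or_mem inferInstance (hu𝔭 i)).resolve_left hnot)
    rw [hu, Algebra.smul_def, Ideal.unit_mul_mem_iff_mem _ (IsLocalization.map_units T s)] at h2
    rw [← sub_add_cancel (c i) (b i)]
    exact add_mem h2 (hb i)
  obtain ⟨d, hd, t, e, hex⟩ := exists_exchange 𝔓 m hm hm𝔓 F a hspan hind'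
  obtain rfl : t = 0 := by
    by_contra ht
    exact (e ⟨0, Nat.pos_of_ne_zero ht⟩).elim
  let T' := Localization.Away d
  obtain ⟨G, hG, hGT⟩ := exists_away_away T 𝔭 hg d hd T'
  haveI := hGT
  haveI : Module.Flat T T' := IsLocalization.flat T' (Submonoid.powers d)
  have h := (hex T' (IsLocalization.Away.algebraMap_isUnit d)).1
  have h' : WiebeLib.IsExact fun i => algebraMap E T' (f i) := by
    have he : (fun i => algebraMap E T' (f i)) = fun i => algebraMap T T' (F i) :=
      funext fun i => IsScalarTower.algebraMap_apply E T T' (f i)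
    rw [he]
    exact h
  refine ⟨G, hG, fun T₂ _ _ _ => ?_⟩
  let eq : T' ≃ₐ[E] T₂ := IsLocalization.algEquiv (Submonoid.powers G) _ _
  have := isExact_ringEquiv eq.toRingEquiv h'
  convert this using 1
  funext i
  exact (eq.commutes (f i)).symm

/-- Exactness on a basic open propagates to flat algebras in which its function is invertible. -/
theorem isExact_of_away_flat {E : Type u} [CommRing E] {r : ℕ} (f : Fin r → E) (G : E)
    (h : ∀ (T : Type u) [CommRing T] [Algebra E T] [IsLocalization.Away G T],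
      WiebeLib.IsExact fun i => algebraMap E T (f i))
    (P' : Type u) [CommRing P'] [Algebra E P'] [Module.Flat E P'] (hu : IsUnit (algebraMap E P' G)) :
    WiebeLib.IsExact fun i => algebraMap E P' (f i) := by
  letI : Algebra (Localization.Away G) P' := (IsLocalization.Away.lift (g := algebraMap E P') G hu).toAlgebra
  haveI : IsScalarTower E (Localization.Away G) P' := IsScalarTower.of_algebraMap_eq fun x =>
    (IsLocalization.Away.lift_eq G hu x).symm
  haveI : Module.Flat (Localization.Away G) P' :=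
    (Module.flat_iff_of_isLocalization (Localization.Away G) (Submonoid.powers G) P').2 inferInstance
  have := WiebeLib.isExact_map (S := P') (h (Localization.Away G))
  have he : (fun i => algebraMap E P' (f i)) =
      fun i => algebraMap (Localization.Away G) P' (algebraMap E (Localization.Away G) (f i)) :=
    funext fun i => IsScalarTower.algebraMap_apply E (Localization.Away G) P' (f i)
  rw [he]
  exact this

/-- Lifted equations have only trivial relations in the fibre. -/
theorem relGCI_fibre {P : Type u} [CommRing P] {N M : ℕ} (F : Fin M → MvPolynomial (Fin N) P)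
    (Q : Ideal (MvPolynomial (Fin N) P)) [Q.IsPrime] (hF : ∀ i, F i ∈ Q)
    (hgci : Synt.IsRelGCI (Q.comap (algebraMap P (MvPolynomial (Fin N) P))).ResidueField N M
      (mapPoly P F (Q.comap (algebraMap P (MvPolynomial (Fin N) P))).ResidueField))
    (u : Fin M → MvPolynomial (Fin N) P)
    (hu : ∑ i, u i * F i ∈ (Q.comap (algebraMap P (MvPolynomial (Fin N) P))).map (algebraMap P (MvPolynomial (Fin N) P)))
    (i : Fin M) : u i ∈ Q := by
  let p := Q.comap (algebraMap P (MvPolynomial (Fin N) P))
  let k := p.ResidueField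
  let π : MvPolynomial (Fin N) P →+* MvPolynomial (Fin N) k := MvPolynomial.map (algebraMap P k)
  have hex := WiebeLib.isExact_of_isKoszulRegularSeq _ (Groth.Agent.S9254.result k N M (mapPoly P F k) hgci)
  have hsum : ∑ j, π (u j) * mapPoly P F k j = 0 := by
    have : π (∑ j, u j * F j) = 0 := by
      refine (show p.map (algebraMap P (MvPolynomial (Fin N) P)) ≤ RingHom.ker π from
        Ideal.map_le_iff_le_comap.2 fun x hx => ?_) hu
      show π (MvPolynomial.C x) = 0
      rw [MvPolynomial.map_C, Ideal.algebraMap_residueField_eq_zero.2 hx, map_zero]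
    rw [map_sum] at this
    simpa only [map_mul] using this
  have hmem := mem_span_of_sum_eq_zero hex (fun j => π (u j)) hsum i
  let L := Q.ResidueField
  let χ : MvPolynomial (Fin N) k →+* L := MvPolynomial.eval₂Hom
    (Ideal.ResidueField.map p Q (algebraMap P (MvPolynomial (Fin N) P)) rfl)
    fun j => algebraMap (MvPolynomial (Fin N) P) L (MvPolynomial.X j)
  have hχ : χ.comp π = algebraMap (MvPolynomial (Fin N) P) L := by
    refine MvPolynomial.ringHom_ext (fun a => ?_) (fun j => ?_)
    · show χ (MvPolynomial.map (algebraMap P k) (MvPolynomial.C a)) = _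
      rw [MvPolynomial.map_C, MvPolynomial.eval₂Hom_C, Ideal.ResidueField.map_algebraMap]
      rfl
    · show χ (MvPolynomial.map (algebraMap P k) (MvPolynomial.X j)) = _
      rw [MvPolynomial.map_X, MvPolynomial.eval₂Hom_X']
  rw [← Ideal.algebraMap_residueField_eq_zero, ← hχ]
  refine (show Ideal.span (Set.range (mapPoly P F k)) ≤ RingHom.ker χ from Ideal.span_le.2 ?_) hmem
  rintro _ ⟨j, rfl⟩
  show χ (π (F j)) = 0
  rw [← RingHom.comp_apply, hχ, Ideal.algebraMap_residueField_eq_zero]
  exact hF j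

set_option maxHeartbeats 1000000 in
/-- Koszul regularity of a presentation descends along a syntomic map. -/
theorem kReg_ker_of_syntomic {A P B C : Type u} [CommRing A] [CommRing P] [CommRing B] [CommRing C]
    [Algebra A P] [Algebra.Smooth A P] [Algebra A B] [Algebra A C] [Algebra B C] [IsScalarTower A B C]
    (hBC : Synt.IsSyntomic B C) (hAC : LCI.IsLCI A C) (α : P →ₐ[A] B) (hα : Function.Surjective α)
    (𝔮 : Ideal C) [𝔮.IsPrime] :
    KReg (RingHom.ker α.toRingHom) ((𝔮.comap (algebraMap B C)).comap α.toRingHom) := by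
  classical
  haveI := hBC.1; haveI := hBC.2.1
  let 𝔮B := 𝔮.comap (algebraMap B C)
  let q := 𝔮B.comap α.toRingHom
  obtain ⟨g, hg, N, M, F, hF, ⟨e⟩⟩ :=
    Synt29.exists_isStd_away (⟨𝔮, inferInstance⟩ : PrimeSpectrum C) ⟨𝔮B, inferInstance⟩ rfl (hBC.2.2 _)
  obtain ⟨h𝔮', h𝔮'c⟩ := exists_prime_of_away (Localization.Away g) 𝔮 hg
  let 𝔮' := 𝔮.map (algebraMap C (Localization.Away g))
  choose Fl hFl using fun i => MvPolynomial.map_surjective α.toRingHom hα (F i)
  let E := MvPolynomial (Fin N) P
  let β : E →+* Localization.Away g :=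
    e.toRingEquiv.toRingHom.comp ((Ideal.Quotient.mk (Ideal.span (Set.range F))).comp (MvPolynomial.map α.toRingHom))
  have hβ : Function.Surjective β :=
    e.surjective.comp (Ideal.Quotient.mk_surjective.comp (MvPolynomial.map_surjective _ hα))
  have hβker : RingHom.ker β = (RingHom.ker α.toRingHom).map (algebraMap P E) ⊔ Ideal.span (Set.range Fl) := by
    show RingHom.ker (e.toRingEquiv.toRingHom.comp _) = _
    rw [RingHom.ker_comp_of_injective _ e.injective, ← RingHom.comap_ker, Ideal.mk_ker,
      show Ideal.span (Set.range F) = (Ideal.span (Set.range Fl)).map (MvPolynomial.map α.toRingHom) by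
        rw [Ideal.map_span, ← Set.range_comp]
        exact congrArg (fun z => Ideal.span (Set.range z)) (funext hFl).symm,
      Ideal.comap_map_of_surjective _ (MvPolynomial.map_surjective _ hα), ← RingHom.ker_eq_comap_bot,
      MvPolynomial.ker_map, sup_comm]
    rfl
  let Q := 𝔮'.comap β
  haveI : Q.IsPrime := Ideal.comap_isPrime _ _
  have hβP : β.comp (algebraMap P E) = (algebraMap B (Localization.Away g)).comp α.toRingHom := RingHom.ext fun x => by
    show e (Ideal.Quotient.mk _ (MvPolynomial.map α.toRingHom (MvPolynomial.C x))) = algebraMap B _ (α x)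
    rw [MvPolynomial.map_C, ← MvPolynomial.algebraMap_eq]
    exact e.commutes (α x)
  have hQq : Q.comap (algebraMap P E) = q := by
    show (𝔮'.comap β).comap (algebraMap P E) = q
    rw [Ideal.comap_comap, hβP, ← Ideal.comap_comap, IsScalarTower.algebraMap_eq B C (Localization.Away g),
      ← Ideal.comap_comap, h𝔮'c]
  have hFlQ : ∀ i, Fl i ∈ Q := fun i => by
    show β (Fl i) ∈ 𝔮'
    rw [show β (Fl i) = 0 from (hβker.ge (Ideal.mem_sup_right (Ideal.subset_span ⟨i, rfl⟩)) : Fl i ∈ RingHom.ker β)]
    exact zero_mem _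
  -- the fibre
  let k := q.ResidueField
  let kB := 𝔮B.ResidueField
  let σ : k ≃+* kB := RingEquiv.ofBijective (Ideal.ResidueField.map q 𝔮B α.toRingHom rfl)
    ((RingHom.surjectiveOnStalks_of_surjective hα).residueFieldMap_bijective q 𝔮B rfl)
  obtain ⟨QB, -⟩ := FlatLoc6.exists_fiber_prime 𝔮B (𝔮'.comap e.toRingEquiv.toRingHom) (by
    show (𝔮'.comap e.toRingEquiv.toRingHom).comap (algebraMap B (Synt.RelGCIRing B N M F)) = 𝔮B
    rw [Ideal.comap_comap, show e.toRingEquiv.toRingHom.comp (algebraMap B (Synt.RelGCIRing B N M F)) =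
      algebraMap B (Localization.Away g) from e.toAlgHom.comp_algebraMap,
      IsScalarTower.algebraMap_eq B C (Localization.Away g), ← Ideal.comap_comap, h𝔮'c])
  haveI : Nontrivial (𝔮B.Fiber (Synt.RelGCIRing B N M F)) := PrimeSpectrum.nonempty_iff_nontrivial.1 ⟨QB⟩
  obtain ⟨hMN, hdim⟩ := hF ⟨𝔮B, inferInstance⟩ this
  let D := Synt.RelGCIRing P N M Fl
  have heq : Ideal.span (Set.range (mapPoly B F kB)) =
      (Ideal.span (Set.range (mapPoly P Fl k))).map (MvPolynomial.mapEquiv (Fin N) σ).toRingHom := by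
    rw [Ideal.map_span, ← Set.range_comp]
    refine congrArg (fun z => Ideal.span (Set.range z)) (funext fun i => ?_)
    show MvPolynomial.map (algebraMap B kB) (F i) =
      MvPolynomial.map σ.toRingHom (MvPolynomial.map (algebraMap P k) (Fl i))
    rw [← hFl i, MvPolynomial.map_map, MvPolynomial.map_map]
    congr 2
    exact RingHom.ext fun x => (Ideal.ResidueField.map_algebraMap q 𝔮B α.toRingHom rfl x).symm
  let ek : Synt.RelGCIRing k N M (mapPoly P Fl k) ≃+* Synt.RelGCIRing kB N M (mapPoly B F kB) :=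
    Ideal.quotientEquiv _ _ (MvPolynomial.mapEquiv (Fin N) σ) heq
  have hdimk : ringKrullDim (Synt.RelGCIRing k N M (mapPoly P Fl k)) = ((N - M : ℕ) : WithBot ℕ∞) := by
    rw [ringKrullDim_eq_of_ringEquiv ek,
      ← ringKrullDim_eq_of_ringEquiv (R := 𝔮B.Fiber (Synt.RelGCIRing B N M F)) (Synt29.baseChangeEquiv B F kB).toRingEquiv]
    exact hdim
  have hgci : Synt.IsRelGCI k N M (mapPoly P Fl k) := Synt29.isRelGCI_of_field _ hMN hdimk.le
  have hfib : ∀ u : Fin M → E, ∑ i, u i * Fl i ∈ q.map (algebraMap P E) → ∀ i, u i ∈ Q := by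
    have gen : ∀ (p : Ideal P) [p.IsPrime], Q.comap (algebraMap P E) = p →
        Synt.IsRelGCI p.ResidueField N M (mapPoly P Fl p.ResidueField) →
        ∀ u : Fin M → E, ∑ i, u i * Fl i ∈ p.map (algebraMap P E) → ∀ i, u i ∈ Q := by
      rintro p _ rfl hp u hu i
      exact relGCI_fibre Fl Q hFlQ hp u hu i
    exact gen q hQq hgci
  -- a flat neighbourhood of the lifted presentation
  have hFQ : Ideal.span (Set.range Fl) ≤ Q := Ideal.span_le.2 (Set.range_subset_iff.2 hFlQ)
  let mkD : E →ₐ[P] D := Ideal.Quotient.mkₐ P _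
  haveI hQD : (Q.map mkD.toRingHom).IsPrime :=
    Ideal.map_isPrime_of_surjective (f := mkD.toRingHom) Ideal.Quotient.mk_surjective (Ideal.mk_ker.trans_le hFQ)
  have hQDc : (Q.map mkD.toRingHom).comap mkD.toRingHom = Q := by
    rw [Ideal.comap_map_of_surjective mkD.toRingHom Ideal.Quotient.mk_surjective, ← RingHom.ker_eq_comap_bot]
    exact sup_eq_left.2 (Ideal.mk_ker.trans_le hFQ)
  have hQDq : (Q.map mkD.toRingHom).comap (algebraMap P D) = q := by
    rw [← hQq, show algebraMap P D = mkD.toRingHom.comp (algebraMap P E) from mkD.comp_algebraMap.symm,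
      ← Ideal.comap_comap, hQDc]
  obtain ⟨g₁, hg₁, hstd⟩ := Synt29.exists_isStd_nhd Fl hMN ⟨Q.map mkD.toRingHom, hQD⟩ (by
    show ringKrullDim (((Q.map mkD.toRingHom).comap (algebraMap P D)).Fiber D) ≤ _
    have key : ∀ (p : Ideal P) [p.IsPrime], p = q → ringKrullDim (p.Fiber D) ≤ ((N - M : ℕ) : WithBot ℕ∞) := by
      rintro p _ rfl
      rw [ringKrullDim_eq_of_ringEquiv (R := q.Fiber D) (Synt29.baseChangeEquiv P Fl k).toRingEquiv]
      exact hdimk.le
    exact key _ hQDq)
  obtain ⟨gl, hgl⟩ := Ideal.Quotient.mk_surjective g₁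
  have hglQ : gl ∉ Q := fun h => hg₁ (by
    show g₁ ∈ Q.map mkD.toRingHom
    rw [← hgl]
    exact Ideal.mem_map_of_mem mkD.toRingHom h)
  -- exactness of the lifted equations
  have hKF : KReg (Ideal.span (Set.range Fl)) Q := by
    refine KReg.of_away hglQ (Localization.Away gl) ?_
    haveI : IsLocalization.Away (mkD.toRingHom gl) (Localization.Away g₁) := by
      rw [show mkD.toRingHom gl = g₁ from hgl]; infer_instance
    haveI : IsLocalization.Away (Ideal.Quotient.mk (Ideal.span (Set.range Fl)) gl) (Localization.Away g₁) := by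
      rw [hgl]; infer_instance
    haveI : IsLocalization.Away (g₁ * 1) (Localization.Away g₁) := by rw [mul_one]; infer_instance
    have hD1 : IsStd P (Localization.Away g₁) := hstd 1 (Localization.Away g₁)
    obtain ⟨N', M', F', hF', ⟨e'⟩⟩ := hD1
    have hlci : LCI.IsLCI P (Localization.Away g₁) :=
      Synt29.isLCI_of_isSyntomic (Synt29.isSyntomic_of_algEquiv e' (Synt29.isSyntomic_relGCIRing hF'))
    haveI : Algebra.Smooth P E := ⟨inferInstance, inferInstance⟩
    haveI : Algebra.Smooth E (Localization.Away gl) := Algebra.Smooth.of_isLocalization_Away gl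
    haveI : Algebra.Smooth P (Localization.Away gl) := Algebra.Smooth.comp P E _
    let ψ₀ : Localization.Away gl →+* Localization.Away g₁ := IsLocalization.Away.map _ _ mkD.toRingHom gl
    have hψ₀ : ∀ x, ψ₀ (algebraMap E _ x) = algebraMap D _ (mkD x) := fun x => by
      show IsLocalization.Away.map _ _ mkD.toRingHom gl (algebraMap E _ x) = _
      rw [IsLocalization.Away.map, IsLocalization.map_eq]
      rfl
    let ψ : Localization.Away gl →ₐ[P] Localization.Away g₁ := ⟨ψ₀, fun x => by
      show ψ₀ (algebraMap P (Localization.Away gl) x) = _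
      rw [IsScalarTower.algebraMap_apply P E (Localization.Away gl), hψ₀, AlgHom.commutes,
        ← IsScalarTower.algebraMap_apply]⟩
    obtain ⟨hQ1, hQ1c⟩ := exists_prime_of_away (Localization.Away g₁) (Q.map mkD.toRingHom) hg₁
    have h := kReg_of_isLCI hlci ψ (away_map_surjective Ideal.Quotient.mk_surjective gl)
      ((Q.map mkD.toRingHom).map (algebraMap D (Localization.Away g₁)))
    have hk : RingHom.ker ψ.toRingHom = (Ideal.span (Set.range Fl)).map (algebraMap E (Localization.Away gl)) := by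
      refine (IsLocalization.ker_map _ mkD.toRingHom (Submonoid.map_powers mkD.toRingHom gl)).trans ?_
      rw [show RingHom.ker mkD.toRingHom = Ideal.span (Set.range Fl) from Ideal.mk_ker]
    rw [hk] at h
    suffices hp : ((Q.map mkD.toRingHom).map (algebraMap D (Localization.Away g₁))).comap ψ.toRingHom =
        Q.map (algebraMap E (Localization.Away gl)) by rwa [hp] at h
    rw [← IsLocalization.map_under (Submonoid.powers gl) (Localization.Away gl)
      (((Q.map mkD.toRingHom).map (algebraMap D (Localization.Away g₁))).comap ψ.toRingHom)]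
    congr 1
    show (((Q.map mkD.toRingHom).map (algebraMap D (Localization.Away g₁))).comap ψ.toRingHom).comap (algebraMap E _) = Q
    rw [Ideal.comap_comap, show ψ.toRingHom.comp (algebraMap E _) = (algebraMap D _).comp mkD.toRingHom from
      RingHom.ext hψ₀, ← Ideal.comap_comap, hQ1c, hQDc]
  obtain ⟨G₂, hG₂, hexF⟩ := exists_isExact_nhd Q Fl hFlQ hKF fun u hu => hfib u (by rw [hu]; exact zero_mem _)
  -- the neighbourhood
  let G := gl * G₂
  have hG : G ∉ Q := fun h => ((inferInstance : Q.IsPrime).mem_or_mem h).elim hglQ hG₂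
  let P' := Localization.Away G
  obtain ⟨hQ', hQ'c⟩ := exists_prime_of_away P' Q hG
  let Q' := Q.map (algebraMap E P')
  let N₀ := Localization.Away (mkD.toRingHom G)
  haveI : IsLocalization.Away (g₁ * mkD.toRingHom G₂) N₀ := by
    rw [← show mkD.toRingHom gl = g₁ from hgl, ← map_mul]; infer_instance
  obtain ⟨N', M', F', hF', ⟨e'⟩⟩ := hstd (mkD.toRingHom G₂) N₀
  have hN₀ := Synt29.isSyntomic_of_algEquiv e' (Synt29.isSyntomic_relGCIRing hF')
  haveI := hN₀.1; haveI := hN₀.2.1
  let fF : Fin M → P' := fun i => algebraMap E P' (Fl i)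
  have hfF : WiebeLib.IsExact fF := by
    haveI : Module.Flat E P' := IsLocalization.flat P' (Submonoid.powers G)
    exact isExact_of_away_flat Fl G₂ hexF P' (isUnit_of_mul_isUnit_right
      (show IsUnit (algebraMap E P' gl * algebraMap E P' G₂) by
        rw [← map_mul]; exact IsLocalization.Away.algebraMap_isUnit G))
  haveI : IsLocalization.Away (Ideal.Quotient.mk (Ideal.span (Set.range Fl)) G) N₀ :=
    inferInstanceAs (IsLocalization.Away (mkD.toRingHom G) N₀)
  let q' : P' →+* N₀ := IsLocalization.Away.map P' N₀ mkD.toRingHom G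
  have hq'c : ∀ x, q' (algebraMap E P' x) = algebraMap D N₀ (mkD x) := fun x => by
    show IsLocalization.Away.map P' N₀ mkD.toRingHom G (algebraMap E P' x) = _
    rw [IsLocalization.Away.map, IsLocalization.map_eq]
    rfl
  have hq' : Function.Surjective q' := away_map_surjective Ideal.Quotient.mk_surjective G
  have hq'k : RingHom.ker q' = Ideal.span (Set.range fF) := by
    refine (IsLocalization.ker_map _ mkD.toRingHom (Submonoid.map_powers mkD.toRingHom G)).trans ?_
    rw [show RingHom.ker mkD.toRingHom = Ideal.span (Set.range Fl) from Ideal.mk_ker, Ideal.map_span, ← Set.range_comp]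
    rfl
  have hq'P : q'.comp (algebraMap P P') = algebraMap P N₀ := RingHom.ext fun x => by
    rw [RingHom.comp_apply, IsScalarTower.algebraMap_apply P E P', hq'c, AlgHom.commutes,
      ← IsScalarTower.algebraMap_apply]
  have hkQ' : RingHom.ker q' ≤ Q' := by
    rw [hq'k]
    exact Ideal.span_le.2 (Set.range_subset_iff.2 fun i => Ideal.mem_map_of_mem _ (hFlQ i))
  let 𝔑 := Q'.map q'
  haveI h𝔑 : 𝔑.IsPrime := Ideal.map_isPrime_of_surjective (f := q') hq' hkQ'
  have h𝔑c : 𝔑.comap q' = Q' := by
    rw [Ideal.comap_map_of_surjective q' hq', ← RingHom.ker_eq_comap_bot]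
    exact sup_eq_left.2 hkQ'
  have hQ'q : Q'.comap (algebraMap P P') = q := by
    rw [IsScalarTower.algebraMap_eq P E P', ← Ideal.comap_comap, hQ'c, hQq]
  let I := RingHom.ker α.toRingHom
  have hIq : I ≤ q := fun x hx => by
    show α.toRingHom x ∈ 𝔮B
    rw [show α.toRingHom x = 0 from hx]
    exact zero_mem _
  have hIN : I.map (algebraMap P N₀) ≤ 𝔑 := by
    rw [Ideal.map_le_iff_le_comap, ← hq'P, ← Ideal.comap_comap, h𝔑c, hQ'q]
    exact hIq
  have hfib' : ∀ u : Fin M → P', ∑ i, u i * fF i ∈ (Q'.comap (algebraMap P P')).map (algebraMap P P') → ∀ i, u i ∈ Q' := by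
    intro u hu
    rw [hQ'q, IsScalarTower.algebraMap_eq P E P', ← Ideal.map_map] at hu
    obtain ⟨s, hs⟩ := IsLocalization.exist_integer_multiples_of_finite (Submonoid.powers G) u
    choose v hv using hs
    have hsum : algebraMap E P' (∑ i, v i * Fl i) = algebraMap E P' s * ∑ i, u i * fF i := by
      rw [map_sum, Finset.mul_sum]
      exact Finset.sum_congr rfl fun i _ => by rw [map_mul, hv, Algebra.smul_def, mul_assoc]
    have h1 : algebraMap E P' (∑ i, v i * Fl i) ∈ (q.map (algebraMap P E)).map (algebraMap E P') := by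
      rw [hsum]
      exact Ideal.mul_mem_left _ _ hu
    obtain ⟨s', hs', hmem⟩ := (IsLocalization.algebraMap_mem_map_algebraMap_iff (Submonoid.powers G) P' _ _).1 h1
    intro i
    have h2 := hfib (fun i => s' * v i) (by simpa only [Finset.mul_sum, mul_assoc] using hmem) i
    have hnot : s' ∉ Q := by
      obtain ⟨j, rfl⟩ := hs'
      exact fun hj => hG ((inferInstance : Q.IsPrime).mem_of_pow_mem j hj)
    have h3 : algebraMap E P' (v i) ∈ Q' :=
      Ideal.mem_map_of_mem _ (((inferInstance : Q.IsPrime).mem_or_mem h2).resolve_left hnot)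
    rwa [hv, Algebra.smul_def, Ideal.unit_mul_mem_iff_mem _ (IsLocalization.map_units P' s)] at h3
  -- the composite is Koszul regular
  have hK : KReg (I.map (algebraMap P P') ⊔ Ideal.span (Set.range fF)) Q' := by
    haveI : Algebra.Smooth P E := ⟨inferInstance, inferInstance⟩
    haveI : Algebra.Smooth A E := Algebra.Smooth.comp A P E
    let βA : E →ₐ[A] Localization.Away g := ⟨β, fun x => by
      show β (algebraMap A E x) = _
      rw [IsScalarTower.algebraMap_apply A P E, ← RingHom.comp_apply, hβP, RingHom.comp_apply]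
      show algebraMap B _ (α (algebraMap A P x)) = _
      rw [AlgHom.commutes, ← IsScalarTower.algebraMap_apply]⟩
    have hl := isLCI_away_target hAC g (Localization.Away g)
    have h := kReg_of_isLCI hl βA hβ 𝔮'
    rw [show RingHom.ker βA.toRingHom = _ from hβker] at h
    haveI : Module.Flat E P' := IsLocalization.flat P' (Submonoid.powers G)
    have h₀ : KReg (I.map (algebraMap P E) ⊔ Ideal.span (Set.range Fl)) (Q'.comap (algebraMap E P')) := by
      rw [hQ'c]; exact h
    have h' := KReg.map (P := E) (P' := P') h₀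
    rw [Ideal.map_sup, Ideal.map_map, ← IsScalarTower.algebraMap_eq, Ideal.map_span, ← Set.range_comp] at h'
    exact h'
  have hcan := KReg.cancel (P := P) q' hq' fF hfF hq'k I 𝔑 (by rw [hq'P]; exact hIN)
    (fun u hu i => h𝔑c ▸ hfib' u (h𝔑c ▸ hu) i) (by rw [h𝔑c]; exact hK)
  rw [hq'P] at hcan
  have hfin := KReg.descend I 𝔑 hIN hcan
  rwa [← hq'P, ← Ideal.comap_comap, h𝔑c, hQ'q] at hfin

/-- Being Koszul at every point descends along syntomic surjections. -/
theorem isKoszulAt_of_syntomic_precomp {X' X Y : Scheme.{u}} (g : X' ⟶ X) (hg : Synt.IsSyntomicMor g) [Surjective g]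
    (f : X ⟶ Y) (h : ∀ x' : X', Synt.IsKoszulAt (g ≫ f) x') (x : X) : Synt.IsKoszulAt f x := by
  have hL := (forall_isKoszulAt_iff (g ≫ f)).1 h
  rw [HasRingHomProperty.iff_appLE (P := IsLCI'.{u})] at hL
  haveI : Flat g := Synt29.flat_of_isSyntomicMor g hg
  haveI : LocallyOfFinitePresentation g := by
    rw [HasRingHomProperty.iff_appLE (P := @LocallyOfFinitePresentation)]
    intro V U e
    exact ((Synt29.isSyntomicMor_iff_appLE g).1 hg U V e).2.1
  haveI : LocallyOfFiniteType (g ≫ f) := by
    rw [HasRingHomProperty.iff_appLE (P := @LocallyOfFiniteType)]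
    intro V U e
    exact (hL V U e).1
  haveI : LocallyOfFiniteType f := Groth.Agent.S5938.result g f
  obtain ⟨x', rfl⟩ := g.surjective x
  obtain ⟨V, hV, hxV, -⟩ := exists_isAffineOpen_mem_and_subset (U := ⊤) (x := f (g x')) trivial
  obtain ⟨U, hU, hxU, hUV⟩ := exists_isAffineOpen_mem_and_subset (U := f ⁻¹ᵁ V) (x := g x') hxV
  obtain ⟨W, hW, hxW, hWU⟩ := exists_isAffineOpen_mem_and_subset (U := g ⁻¹ᵁ U) (x := x') hxU
  letI : Algebra Γ(Y, V) Γ(X, U) := (f.appLE V U hUV).hom.toAlgebra
  haveI : Algebra.FiniteType Γ(Y, V) Γ(X, U) := f.finiteType_appLE hV hU hUV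
  letI : Algebra Γ(X, U) Γ(X', W) := (g.appLE U W hWU).hom.toAlgebra
  have e : W ≤ (g ≫ f) ⁻¹ᵁ V := fun y hy => hUV (hWU hy)
  letI : Algebra Γ(Y, V) Γ(X', W) := ((g ≫ f).appLE V W e).hom.toAlgebra
  haveI : IsScalarTower Γ(Y, V) Γ(X, U) Γ(X', W) := IsScalarTower.of_algebraMap_eq' (by
    show ((g ≫ f).appLE V W e).hom = (g.appLE U W hWU).hom.comp (f.appLE V U hUV).hom
    rw [← CommRingCat.hom_comp, Scheme.Hom.appLE_comp_appLE])
  obtain ⟨n, φ, hφ⟩ := Algebra.FiniteType.iff_quotient_mvPolynomial''.1 (inferInstance : Algebra.FiniteType Γ(Y, V) Γ(X, U))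
  haveI : Algebra.Smooth Γ(Y, V) (MvPolynomial (Fin n) Γ(Y, V)) := ⟨inferInstance, inferInstance⟩
  refine isKoszulAt_of_kReg f hU hV hUV (g x') hxU φ.toRingHom φ.comp_algebraMap hφ ?_
  have hc := congrArg PrimeSpectrum.asIdeal (IsAffineOpen.comap_primeIdealOf_appLE (f := g) U hU W hW hWU hxW)
  rw [← hc]
  exact kReg_ker_of_syntomic (A := Γ(Y, V)) ((Synt29.isSyntomicMor_iff_appLE g).1 hg ⟨W, hW⟩ ⟨U, hU⟩ hWU)
    (hL ⟨V, hV⟩ ⟨W, hW⟩ e) φ hφ (hW.primeIdealOf ⟨x', hxW⟩).asIdeal

/-- Composing with a syntomic morphism preserves being Koszul at every point. -/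
theorem isKoszulAt_syntomic_comp {X' X Y : Scheme.{u}} (g : X' ⟶ X) (hg : Synt.IsSyntomicMor g) (f : X ⟶ Y)
    (h : ∀ x : X, Synt.IsKoszulAt f x) (x' : X') : Synt.IsKoszulAt (g ≫ f) x' := by
  refine (forall_isKoszulAt_iff (g ≫ f)).2 (MorphismProperty.comp_mem _ g f ?_ ((forall_isKoszulAt_iff f).1 h)) x'
  exact (forall_isKoszulAt_iff g).1 (Synt29.isKoszulAt_of_isSyntomicMor g hg)

end Groth.Agent.KRegLib
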