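import Mathlib
import Groth.Agent.KRegLib.Descend
import Groth.Agent.KRegLib.BaseChange

/-!
# Koszul regular ideals descend along faithfully flat maps
-/

set_option autoImplicit false
set_option linter.style.haveILetI false
set_option backward.isDefEq.respectTransparency.types false

universe u

open Groth.Agent.WiebeLib TensorProduct

namespace Groth.Agent.KRegLib

/-- A sequence generating the unit ideal is exact. -/
theorem isExact_of_span_eq_top {R : Type u} [CommRing R] {n : ℕ} {f : Fin n → R}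
    (h : Ideal.span (Set.range f) = ⊤) : IsExact f := by
  obtain ⟨v, hv⟩ := Ideal.mem_span_range_iff_exists_fun.1 (h ▸ Submodule.mem_top : (1 : R) ∈ Ideal.span (Set.range f))
  intro k x hx
  refine ⟨eta n v (k + 1) x, ?_⟩
  have := d_eta n f v k x
  rw [hx, map_zero, hv, one_smul] at this
  simpa using this

/-- Koszul exactness is local. -/
theorem isExact_of_forall_away {R : Type u} [CommRing R] {n : ℕ} (f : Fin n → R)
    (h : ∀ (Q : Ideal R) [Q.IsPrime], ∃ G : R, G ∉ Q ∧
      IsExact fun i => algebraMap R (Localization.Away G) (f i)) : IsExact f := by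
  classical
  intro k x hx
  let I : Ideal R := (LinearMap.range (d n f (k + 1))).comap (LinearMap.toSpanSingleton R _ x)
  suffices hI : I = ⊤ by
    obtain ⟨y, hy⟩ := (hI ▸ Submodule.mem_top : (1 : R) ∈ I)
    exact ⟨y, hy.trans (one_smul R x)⟩
  by_contra hne
  obtain ⟨Q, hQ, hle⟩ := Ideal.exists_le_maximal I hne
  haveI := hQ.isPrime
  obtain ⟨G, hG, hex⟩ := h Q
  let T := Localization.Away G
  let al := algebraMap R T
  obtain ⟨y, hy⟩ := hex k (fun i => al (x i)) (by
    refine (d_map al n f k x).trans ?_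
    funext i
    rw [hx]
    exact map_zero al)
  haveI : Fintype (Idx n (k + 1 + 1)) := Fintype.ofFinite _
  obtain ⟨s, hs⟩ := IsLocalization.exist_integer_multiples_of_finite (Submonoid.powers G) y
  choose z hz using hs
  have hzy : (fun i => al (z i)) = al s • y := funext fun i => (hz i).trans (Algebra.smul_def _ _)
  have heq : ∀ i, al (d n f (k + 1) z i) = al (s * x i) := fun i => by
    rw [← congrFun (d_map al n f (k + 1) z) i, hzy, map_smul, hy, map_mul]
    rfl
  choose t ht using fun i => (IsLocalization.eq_iff_exists (Submonoid.powers G) T).1 (heq i)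
  haveI : Fintype (Idx n (k + 1)) := Fintype.ofFinite _
  let t₀ : Submonoid.powers G := ∏ i, t i
  have hmem : (t₀ : R) * s ∈ I := by
    refine ⟨(t₀ : R) • z, ?_⟩
    rw [map_smul]
    funext i
    show (t₀ : R) * d n f (k + 1) z i = (t₀ : R) * s * x i
    obtain ⟨c, hc⟩ : (t i : R) ∣ (t₀ : R) :=
      (Finset.dvd_prod_of_mem (fun i => (t i : R)) (Finset.mem_univ i)).trans
        (by rw [Submonoid.coe_finsetProd])
    rw [hc, mul_comm (t i : R) c, mul_assoc, ht i]
    ring
  obtain ⟨a, ha⟩ := t₀.2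
  obtain ⟨b, hb⟩ := s.2
  rw [← show G ^ a = (t₀ : R) from ha, ← show G ^ b = (s : R) from hb, ← pow_add] at hmem
  exact hG (hQ.isPrime.mem_of_pow_mem _ (hle hmem))

/-- The core of faithfully flat descent. -/
theorem exists_isExact_of_ff {A B : Type u} [CommRing A] [CommRing B] [Algebra A B] [Module.FaithfullyFlat A B]
    {r : ℕ} (x : Fin r → A) (p : Ideal A) [p.IsPrime]
    (hind : ∀ u : Fin r → A, ∑ i, u i * x i = 0 → ∀ i, u i ∈ p) (hxp : ∀ i, x i ∈ p)
    (hK : ∀ Q : Ideal B, Q.IsPrime → (∀ i, algebraMap A B (x i) ∈ Q) →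
      KReg (Ideal.span (Set.range fun i => algebraMap A B (x i))) Q) :
    ∃ g : A, g ∉ p ∧ IsExact fun i => algebraMap A (Localization.Away g) (x i) := by
  classical
  let al := algebraMap A B
  let y : Fin r → B := fun i => al (x i)
  let Good : PrimeSpectrum B → Prop := fun Q =>
    ∃ G : B, G ∉ Q.asIdeal ∧ IsExact fun i => algebraMap B (Localization.Away G) (y i)
  -- the coefficients of relations
  let C : Ideal A := Ideal.span {c | ∃ u : Fin r → A, ∑ i, u i * x i = 0 ∧ ∃ i, u i = c}
  have hCp : C ≤ p := Ideal.span_le.2 fun c ⟨u, hu, i, hi⟩ => hi ▸ hind u hu i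
  let φ : (Fin r → A) →ₗ[A] A := Fintype.linearCombination A x
  have hrel : ∀ u : Fin r → B, ∑ i, u i * y i = 0 → ∀ i, u i ∈ C.map al := by
    intro u hu
    let ι := (LinearMap.ker φ).subtype
    have hex : Function.Exact (ι.lTensor B) (φ.lTensor B) :=
      Module.Flat.lTensor_exact B (LinearMap.exact_subtype_ker_map φ)
    let e := TensorProduct.piScalarRight A B B (Fin r)
    have he : ∀ z : B ⊗[A] (Fin r → A),
        Algebra.TensorProduct.rid A B B (φ.lTensor B z) = ∑ i, e z i * y i := by
      intro z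
      induction z using TensorProduct.induction_on with
      | zero => simp
      | tmul b v =>
        rw [LinearMap.lTensor_tmul, Algebra.TensorProduct.rid_tmul]
        simp only [φ, Fintype.linearCombination_apply, smul_eq_mul, e, TensorProduct.piScalarRight_apply,
          TensorProduct.piScalarRightHom_tmul, Algebra.smul_def, map_sum, Finset.sum_mul, map_mul, y, al]
        exact Finset.sum_congr rfl fun i _ => by ring
      | add a b ha hb => simp only [map_add, ha, hb, Pi.add_apply, add_mul, Finset.sum_add_distrib]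
    obtain ⟨w, hw⟩ := (hex (e.symm u)).1 ((Algebra.TensorProduct.rid A B B).injective (by
      rw [he, LinearEquiv.apply_symm_apply, hu, map_zero]))
    intro i
    rw [← e.apply_symm_apply u, ← hw]
    clear hw
    induction w using TensorProduct.induction_on with
    | zero => simp
    | tmul b v =>
      rw [LinearMap.lTensor_tmul]
      simp only [e, TensorProduct.piScalarRight_apply, TensorProduct.piScalarRightHom_tmul, Algebra.smul_def]
      refine Ideal.mul_mem_right _ _ (Ideal.mem_map_of_mem _ (Ideal.subset_span ⟨v.1, ?_, i, rfl⟩))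
      have hv : φ v.1 = 0 := v.2
      simpa only [φ, Fintype.linearCombination_apply, smul_eq_mul] using hv
    | add a b ha hb => rw [map_add, map_add]; exact add_mem ha hb
  have hy : ∀ {Q : PrimeSpectrum B}, (∀ i, y i ∈ Q.asIdeal) → (Good Q ↔ C.map al ≤ Q.asIdeal) := by
    intro Q hQ
    refine ⟨fun ⟨G, hG, hex⟩ => ?_, fun hC => ?_⟩
    · rw [Ideal.map_le_iff_le_comap]
      refine Ideal.span_le.2 fun c ⟨u, hu, i, hi⟩ => ?_
      subst hi
      have h1 := mem_span_of_sum_eq_zero hex (fun i => algebraMap B (Localization.Away G) (al (u i))) (by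
        simp only [y, ← map_mul, ← map_sum, hu, map_zero]) i
      obtain ⟨hQ', hQc⟩ := exists_prime_of_away (Localization.Away G) Q.asIdeal hG
      show al (u i) ∈ Q.asIdeal
      rw [← hQc]
      exact Ideal.span_le.2 (Set.range_subset_iff.2 fun j =>
        Ideal.mem_map_of_mem (algebraMap B (Localization.Away G)) (hQ j)) h1
    · obtain ⟨G, hG, hex⟩ := exists_isExact_nhd Q.asIdeal y hQ (hK Q.asIdeal Q.2 hQ)
        fun u hu i => hC (hrel u hu i)
      exact ⟨G, hG, hex (Localization.Away G)⟩
  let bad : Set (PrimeSpectrum B) := {Q | (∀ i, y i ∈ Q.asIdeal) ∧ ¬ Good Q}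
  have hbad : IsClosed bad := by
    rw [← isOpen_compl_iff]
    refine isOpen_iff_forall_mem_open.2 fun Q hQ => ?_
    by_cases hy' : ∀ i, y i ∈ Q.asIdeal
    · obtain ⟨G, hG, hex⟩ := not_not.1 fun h => hQ ⟨hy', h⟩
      exact ⟨PrimeSpectrum.basicOpen G, fun Q' hQ' h' => h'.2 ⟨G, hQ', hex⟩, PrimeSpectrum.isOpen_basicOpen, hG⟩
    · push_neg at hy'
      obtain ⟨i, hi⟩ := hy'
      exact ⟨PrimeSpectrum.basicOpen (y i), fun Q' hQ' h' => hQ' (h'.1 i), PrimeSpectrum.isOpen_basicOpen, hi⟩
  have hst : StableUnderSpecialization (PrimeSpectrum.comap al '' bad) := by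
    rintro a b hab ⟨Qa, hQa, rfl⟩
    rw [← PrimeSpectrum.le_iff_specializes] at hab
    obtain ⟨Qb, rfl⟩ := PrimeSpectrum.comap_surjective_of_faithfullyFlat (A := A) (B := B) b
    haveI := Qb.2
    haveI : Qb.asIdeal.LiesOver (Qb.asIdeal.comap al) := ⟨rfl⟩
    obtain ⟨Q', hle, hQ', hover⟩ := Ideal.exists_ideal_le_liesOver_of_le Qb.asIdeal
      (p := (PrimeSpectrum.comap al Qa).asIdeal) (q := Qb.asIdeal.comap al) hab
    haveI := hQ'
    have hc : Q'.comap al = Qa.asIdeal.comap al := hover.over.symm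
    have hyQ' : ∀ i, y i ∈ Q' := fun i => by
      show x i ∈ Q'.comap al
      rw [hc]
      exact hQa.1 i
    refine ⟨Qb, ⟨fun i => hle (hyQ' i), fun hgood => hQa.2 ?_⟩, rfl⟩
    have hQ'good : Good ⟨Q', hQ'⟩ := by
      obtain ⟨G, hG, hex⟩ := hgood
      exact ⟨G, fun h => hG (hle h), hex⟩
    rw [hy hyQ', Ideal.map_le_iff_le_comap] at hQ'good
    rw [hy hQa.1, Ideal.map_le_iff_le_comap, ← hc]
    exact hQ'good
  have hcl := PrimeSpectrum.isClosed_image_of_stableUnderSpecialization al bad hbad hst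
  have hp : (⟨p, inferInstance⟩ : PrimeSpectrum A) ∉ PrimeSpectrum.comap al '' bad := by
    rintro ⟨Q, hQ, hQp⟩
    have hQp' : Q.asIdeal.comap al = p := congrArg PrimeSpectrum.asIdeal hQp
    refine hQ.2 ((hy hQ.1).2 ?_)
    rw [Ideal.map_le_iff_le_comap, hQp']
    exact hCp
  obtain ⟨_, ⟨_, ⟨g, rfl⟩, rfl⟩, hgp, hg⟩ :=
    PrimeSpectrum.isBasis_basic_opens.exists_subset_of_mem_open hp hcl.isOpen_compl
  refine ⟨g, hgp, ?_⟩
  let T := Localization.Away g
  let B' := T ⊗[A] B
  letI : Algebra B B' := Algebra.TensorProduct.rightAlgebra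
  haveI : Module.Flat B B' := Module.Flat.isBaseChange A B T B' (Algebra.IsPushout.out (R := A) (S := B) (R' := T) (S' := B'))
  refine isExact_of_faithfullyFlat (S := B') (isExact_of_forall_away _ fun Q' _ => ?_)
  have hcm : ∀ a : A, algebraMap T B' (algebraMap A T a) = algebraMap B B' (al a) := fun a => by
    rw [← IsScalarTower.algebraMap_apply A T B', ← IsScalarTower.algebraMap_apply A B B']
  let Q : PrimeSpectrum B := ⟨Q'.comap (algebraMap B B'), inferInstance⟩
  by_cases hyQ : ∀ i, y i ∈ Q.asIdeal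
  · have hgQ : al g ∉ Q.asIdeal := fun h => by
      have : IsUnit (algebraMap T B' (algebraMap A T g)) := (IsLocalization.Away.algebraMap_isUnit g).map _
      rw [hcm] at this
      exact (inferInstance : Q'.IsPrime).ne_top (Ideal.eq_top_of_isUnit_mem _ h this)
    have hnb : Q ∉ bad := fun hb => hg (show PrimeSpectrum.comap al Q ∈ _ from hgQ) ⟨Q, hb, rfl⟩
    obtain ⟨G, hG, hex⟩ := not_not.1 fun h => hnb ⟨hyQ, h⟩
    let G' := algebraMap B B' G
    let T' := Localization.Away G'
    haveI : Module.Flat B T' := Module.Flat.trans B B' T'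
    have hex' := isExact_of_away_flat y G (fun T₀ _ _ _ => by
      have := isExact_ringEquiv (IsLocalization.algEquiv (Submonoid.powers G) (Localization.Away G) T₀).toRingEquiv hex
      simpa using this) T' (by
      rw [IsScalarTower.algebraMap_apply B B' T']
      exact IsLocalization.Away.algebraMap_isUnit G')
    refine ⟨G', hG, ?_⟩
    have he : (fun i => algebraMap B' T' (algebraMap T B' (algebraMap A T (x i)))) = fun i => algebraMap B T' (y i) :=
      funext fun i => by rw [hcm, ← IsScalarTower.algebraMap_apply B B' T']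
    rw [he]
    exact hex'
  · push_neg at hyQ
    obtain ⟨i, hi⟩ := hyQ
    let G' := algebraMap B B' (y i)
    refine ⟨G', hi, isExact_of_span_eq_top (Ideal.eq_top_of_isUnit_mem _ (Ideal.subset_span ⟨i, rfl⟩) ?_)⟩
    show IsUnit (algebraMap B' (Localization.Away G') (algebraMap T B' (algebraMap A T (x i))))
    rw [show algebraMap T B' (algebraMap A T (x i)) = G' from hcm (x i)]
    exact IsLocalization.Away.algebraMap_isUnit G'

/-- An ideal whose extension to a faithfully flat algebra is Koszul regular is Koszul regular. -/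
theorem isKoszulRegularIdeal_of_faithfullyFlat {A B : Type u} [CommRing A] [CommRing B] [Algebra A B]
    [Module.FaithfullyFlat A B] (I : Ideal A) (hK : LCI.IsKoszulRegularIdeal (I.map (algebraMap A B))) :
    LCI.IsKoszulRegularIdeal I := by
  classical
  have hfg : I.FG := Ideal.FG.of_FG_map_of_faithfullyFlat (S := B) (Synt29.fg_ker_of_isKoszulRegularIdeal _ hK)
  rw [isKoszulRegularIdeal_iff] at hK ⊢
  intro p hp hIp
  haveI := hp
  let A' := Localization.AtPrime p
  obtain ⟨n₀, z, hz⟩ := Submodule.fg_iff_exists_fin_generating_family.1 hfg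
  have hexgen : ∃ r, ∃ x : Fin r → A, (∀ i, x i ∈ I) ∧
      ∃ g : A, g ∉ p ∧ ∀ a ∈ I, g * a ∈ Ideal.span (Set.range x) :=
    ⟨n₀, z, fun i => hz ▸ Submodule.subset_span ⟨i, rfl⟩, 1, p.one_notMem,
      fun a ha => by rw [one_mul]; exact hz.ge ha⟩
  obtain ⟨r, ⟨x, hxI, g, hg, hgx⟩, hmin⟩ : ∃ r, (∃ x : Fin r → A, (∀ i, x i ∈ I) ∧
      ∃ g : A, g ∉ p ∧ ∀ a ∈ I, g * a ∈ Ideal.span (Set.range x)) ∧ ∀ r' < r, ¬ ∃ x : Fin r' → A, (∀ i, x i ∈ I) ∧
      ∃ g : A, g ∉ p ∧ ∀ a ∈ I, g * a ∈ Ideal.span (Set.range x) :=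
    ⟨Nat.find hexgen, Nat.find_spec hexgen, fun r' h => Nat.find_min hexgen h⟩
  have hind : ∀ u : Fin r → A, ∑ i, u i * x i = 0 → ∀ i, u i ∈ p := by
    intro u hu i
    by_contra hi
    obtain ⟨r', rfl⟩ : ∃ r', r = r' + 1 := ⟨r - 1, by have := i.2; omega⟩
    refine hmin r' (by omega) ⟨fun j => x (i.succAbove j), fun j => hxI _, u i * g,
      fun h => (hp.mem_or_mem h).elim hi hg, fun a ha => ?_⟩
    obtain ⟨v, hv⟩ := Ideal.mem_span_range_iff_exists_fun.1 (hgx a ha)
    rw [mul_assoc, ← hv, Finset.mul_sum]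
    refine Ideal.sum_mem _ fun j _ => ?_
    by_cases hj : j = i
    · subst hj
      rw [← Finset.add_sum_erase _ _ (Finset.mem_univ j)] at hu
      rw [mul_left_comm, eq_neg_of_add_eq_zero_left hu]
      refine Ideal.mul_mem_left _ _ (neg_mem (Ideal.sum_mem _ fun k hk => ?_))
      obtain ⟨m, rfl⟩ := Fin.exists_succAbove_eq (Finset.ne_of_mem_erase hk)
      exact Ideal.mul_mem_left _ _ (Ideal.subset_span ⟨m, rfl⟩)
    · obtain ⟨m, rfl⟩ := Fin.exists_succAbove_eq hj
      exact Ideal.mul_mem_left _ _ (Ideal.mul_mem_left _ _ (Ideal.subset_span ⟨m, rfl⟩))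
  let T := Localization.Away g
  let B' := T ⊗[A] B
  letI : Algebra B B' := Algebra.TensorProduct.rightAlgebra
  haveI : Module.Flat B B' := Module.Flat.isBaseChange A B T B' (Algebra.IsPushout.out (R := A) (S := B) (R' := T) (S' := B'))
  let xT : Fin r → T := fun i => algebraMap A T (x i)
  have hspan : Ideal.span (Set.range xT) = I.map (algebraMap A T) := by
    refine le_antisymm (Ideal.span_le.2 (Set.range_subset_iff.2 fun i => Ideal.mem_map_of_mem _ (hxI i)))
      (Ideal.map_le_iff_le_comap.2 fun a ha => ?_)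
    rw [Ideal.mem_comap, ← Ideal.unit_mul_mem_iff_mem _ (IsLocalization.Away.algebraMap_isUnit (S := T) g), ← map_mul]
    have := Ideal.mem_map_of_mem (algebraMap A T) (hgx a ha)
    rwa [Ideal.map_span, ← Set.range_comp] at this
  have hB' : Ideal.span (Set.range fun i => algebraMap T B' (xT i)) =
      (I.map (algebraMap A B)).map (algebraMap B B') := by
    have h1 : Ideal.span (Set.range fun i => algebraMap T B' (xT i)) =
        (Ideal.span (Set.range xT)).map (algebraMap T B') := by
      rw [Ideal.map_span, ← Set.range_comp]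
      rfl
    rw [h1, hspan, Ideal.map_map, Ideal.map_map, ← IsScalarTower.algebraMap_eq A T B',
      ← IsScalarTower.algebraMap_eq A B B']
  obtain ⟨hpT, hpc⟩ := exists_prime_of_away T p hg
  let pT := p.map (algebraMap A T)
  obtain ⟨h, hh, hex⟩ := exists_isExact_of_ff (A := T) (B := B') xT pT (fun u hu i => by
      obtain ⟨s, hs⟩ := IsLocalization.exist_integer_multiples_of_finite (Submonoid.powers g) u
      choose v hv using hs
      have h1 : algebraMap A T (∑ j, v j * x j) = 0 := by
        rw [map_sum, ← mul_zero (algebraMap A T s), ← hu, Finset.mul_sum]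
        exact Finset.sum_congr rfl fun j _ => by rw [map_mul, hv, Algebra.smul_def, mul_assoc]
      obtain ⟨⟨s', hs'⟩, hs0⟩ := (IsLocalization.map_eq_zero_iff (Submonoid.powers g) T _).1 h1
      have hv' := hind (fun j => s' * v j) (by simpa only [Finset.mul_sum, mul_assoc] using hs0) i
      have hnot : s' ∉ p := by
        obtain ⟨k, rfl⟩ := hs'
        exact fun hk => hg (hp.mem_of_pow_mem k hk)
      have h2 : algebraMap A T (v i) ∈ pT := Ideal.mem_map_of_mem _ ((hp.mem_or_mem hv').resolve_left hnot)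
      rwa [hv, Algebra.smul_def, Ideal.unit_mul_mem_iff_mem _ (IsLocalization.map_units T s)] at h2)
    (fun i => Ideal.mem_map_of_mem _ (hIp (hxI i))) (fun Q hQ hxQ => by
      haveI := hQ
      rw [hB']
      refine KReg.map (P := B) (P' := B') (hK _ (Ideal.comap_isPrime _ _) ?_)
      rw [← Ideal.map_le_iff_le_comap, ← hB']
      exact Ideal.span_le.2 (Set.range_subset_iff.2 hxQ))
  let T' := Localization.Away h
  obtain ⟨G, hG, hGT⟩ := exists_away_away T p hg h hh T'
  haveI := hGT
  refine KReg.of_on G hG T' ⟨r, fun i => algebraMap T T' (xT i), hex, ?_⟩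
  rw [IsScalarTower.algebraMap_eq A T T', ← Ideal.map_map, ← hspan, Ideal.map_span, ← Set.range_comp]
  rfl

end Groth.Agent.KRegLib
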