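import Mathlib
import Groth.Agent.KRegLib.Closed
import Groth.Agent.KRegLib.FFDescent
import Groth.Agent.KRegLib.WeakReg
import Groth.Agent.Synt29.FlatLCI
import Groth.Agent.Synt29.ArtinLift
import Groth.Agent.Triage.SliceFlat

/-!
# The fibrewise criterion for Koszul regular ideals

In a flat finitely presented algebra an ideal with flat quotient is Koszul regular at a prime if and only if
it is so in the local ring of the fibre.
-/

set_option autoImplicit false
set_option linter.style.haveILetI false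
set_option backward.isDefEq.respectTransparency.types false
set_option synthInstance.maxHeartbeats 100000

universe u

open TensorProduct RingTheory.Sequence IsLocalRing
open Groth.Agent.WiebeLib

namespace Groth.Agent.KRegLib

variable {O : Type u} [CommRing O] {A : Type u} [CommRing A] [Algebra O A] (p : Ideal O) [p.IsPrime]

/-- The point of the algebra under a point of the fibre. -/
noncomputable def fibBase (q : Ideal (p.Fiber A)) : Ideal A :=
  q.comap (Algebra.TensorProduct.includeRight (R := O) (A := p.ResidueField) (B := A)).toRingHom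

/-- The map to the local ring of a point of the fibre. -/
noncomputable def toFib (q : Ideal (p.Fiber A)) [q.IsPrime] : A →+* Localization.AtPrime q :=
  (algebraMap (p.Fiber A) (Localization.AtPrime q)).comp
    (Algebra.TensorProduct.includeRight (R := O) (A := p.ResidueField) (B := A)).toRingHom

/-- The image of an ideal in the local ring of the fibre is generated by a Koszul regular sequence. -/
def FibKReg (I : Ideal A) (q : Ideal (p.Fiber A)) [q.IsPrime] : Prop :=
  ∃ (n : ℕ) (f : Fin n → Localization.AtPrime q), IsExact f ∧ I.map (toFib p q) = Ideal.span (Set.range f)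

instance (q : Ideal (p.Fiber A)) [q.IsPrime] : (fibBase p q).IsPrime :=
  Ideal.comap_isPrime _ _

instance (q : Ideal (p.Fiber A)) [q.IsPrime] : (fibBase p q).LiesOver p := ⟨by
  ext o
  rw [Ideal.mem_comap, fibBase, Ideal.mem_comap,
    show (Algebra.TensorProduct.includeRight (R := O) (A := p.ResidueField) (B := A)).toRingHom (algebraMap O A o) =
      algebraMap p.ResidueField (p.Fiber A) (algebraMap O p.ResidueField o) by
        show Algebra.TensorProduct.includeRight (algebraMap O A o) = _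
        rw [AlgHom.commutes, IsScalarTower.algebraMap_apply O p.ResidueField (p.Fiber A)]]
  refine ⟨fun ho => by
    rw [Ideal.algebraMap_residueField_eq_zero.2 ho, map_zero]
    exact zero_mem _, fun ho => ?_⟩
  by_contra hop
  exact (inferInstance : q.IsPrime).ne_top (Ideal.eq_top_of_isUnit_mem _ ho
    ((isUnit_iff_ne_zero.2 fun h0 => hop (Ideal.algebraMap_residueField_eq_zero.1 h0)).map _))⟩

/-- What dies in the fibre lies, up to a unit at the prime, in the extended prime. -/
theorem exists_smul_mem_of_one_tmul_eq_zero (x : A) (hx : (1 : p.ResidueField) ⊗ₜ[O] x = 0) :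
    ∃ r : O, r ∉ p ∧ r • x ∈ p.map (algebraMap O A) := by
  let J := p.map (algebraMap O A)
  let π := Ideal.Quotient.mk J
  let M := p.primeCompl.map (π.comp (algebraMap O A))
  let L := Localization M
  let ι : A →+* L := (algebraMap (A ⧸ J) L).comp π
  let κ : p.ResidueField →+* L := Ideal.ResidueField.lift p (ι.comp (algebraMap O A))
    (fun o ho => by
      show algebraMap (A ⧸ J) L (π (algebraMap O A o)) = 0
      rw [show π (algebraMap O A o) = 0 from Ideal.Quotient.eq_zero_iff_mem.2 (Ideal.mem_map_of_mem _ ho), map_zero])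
    (fun o ho => IsLocalization.map_units L (⟨_, o, ho, rfl⟩ : M))
  have hO : ∀ o, algebraMap O L o = ι (algebraMap O A o) := fun o =>
    IsScalarTower.algebraMap_apply O (A ⧸ J) L o
  let κ' : p.ResidueField →ₐ[O] L := ⟨κ, fun o => (Ideal.ResidueField.lift_algebraMap _ _ _ _ o).trans (hO o).symm⟩
  let ι' : A →ₐ[O] L := ⟨ι, fun o => (hO o).symm⟩
  have h0 := congrArg (Algebra.TensorProduct.lift κ' ι' fun _ _ => Commute.all _ _) hx
  rw [Algebra.TensorProduct.lift_tmul, map_one, one_mul, map_zero] at h0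
  obtain ⟨⟨_, r, hr, rfl⟩, hm⟩ := (IsLocalization.map_eq_zero_iff M L _).1 (show algebraMap (A ⧸ J) L (π x) = 0 from h0)
  refine ⟨r, hr, ?_⟩
  rw [← Ideal.Quotient.eq_zero_iff_mem, Algebra.smul_def, map_mul]
  exact hm

/-- Elements of an extended ideal of the fibre are, up to units, images of elements of the ideal. -/
theorem exists_smul_eq_of_mem_map_fiber (J : Ideal A) (z : p.Fiber A)
    (hz : z ∈ J.map (Algebra.TensorProduct.includeRight (R := O) (A := p.ResidueField) (B := A)).toRingHom) :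
    ∃ r : O, r ∉ p ∧ ∃ a ∈ J, r • z = (1 : p.ResidueField) ⊗ₜ[O] a := by
  induction hz using Submodule.span_induction with
  | mem y hy =>
    obtain ⟨a, ha, rfl⟩ := hy
    exact ⟨1, p.one_notMem, a, ha, by rw [one_smul]; rfl⟩
  | zero => exact ⟨1, p.one_notMem, 0, zero_mem _, by simp⟩
  | add y y' _ _ hy hy' =>
    obtain ⟨r, hr, a, ha, h⟩ := hy
    obtain ⟨r', hr', a', ha', h'⟩ := hy'
    refine ⟨r * r', fun hm => ((inferInstance : p.IsPrime).mem_or_mem hm).elim hr hr', r' • a + r • a',
      add_mem (J.smul_of_tower_mem r' ha) (J.smul_of_tower_mem r ha'), ?_⟩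
    rw [smul_add, TensorProduct.tmul_add, TensorProduct.tmul_smul, TensorProduct.tmul_smul, ← h, ← h', smul_smul,
      smul_smul, mul_comm r' r]
  | smul c y _ hy =>
    obtain ⟨r, hr, a, ha, h⟩ := hy
    obtain ⟨r', hr', b, hb⟩ := Ideal.Fiber.exists_smul_eq_one_tmul _ c
    refine ⟨r' * r, fun hm => ((inferInstance : p.IsPrime).mem_or_mem hm).elim hr' hr, b * a, J.mul_mem_left _ ha, ?_⟩
    rw [smul_eq_mul, ← smul_mul_smul_comm, hb, h, Algebra.TensorProduct.tmul_mul_tmul, one_mul]

/-- Membership in the local ring of the fibre is the saturated membership. -/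
theorem mem_sat_of_toFib_mem (J : Ideal A) (q : Ideal (p.Fiber A)) [q.IsPrime] (t : A)
    (ht : toFib p q t ∈ J.map (toFib p q)) : t ∈ FlatModel.sat p J (fibBase p q).primeCompl := by
  rw [toFib, ← Ideal.map_map, IsLocalization.mem_map_algebraMap_iff q.primeCompl] at ht
  obtain ⟨⟨⟨y, hy⟩, s⟩, hys⟩ := ht
  rw [RingHom.comp_apply, ← map_mul] at hys
  obtain ⟨s', hs'⟩ := (IsLocalization.eq_iff_exists q.primeCompl _).1 hys
  obtain ⟨r, hr, b, hb⟩ := Ideal.Fiber.exists_smul_eq_one_tmul _ (s'.1 * s.1)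
  have hbq : b ∉ fibBase p q := by
    intro hbm
    have h1 : r • (s'.1 * s.1) ∈ q := hb ▸ hbm
    rw [Algebra.smul_def, IsScalarTower.algebraMap_apply O p.ResidueField (p.Fiber A)] at h1
    rw [Ideal.unit_mul_mem_iff_mem _
      ((isUnit_iff_ne_zero.2 fun h0 => hr (Ideal.algebraMap_residueField_eq_zero.1 h0)).map _)] at h1
    exact ((inferInstance : q.IsPrime).mem_or_mem h1).elim s'.2 s.2
  have hmem : (1 : p.ResidueField) ⊗ₜ[O] (b * t) ∈
      J.map (Algebra.TensorProduct.includeRight (R := O) (A := p.ResidueField) (B := A)).toRingHom := by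
    have h2 : s'.1 * (((1 : p.ResidueField) ⊗ₜ[O] t) * s.1) = s'.1 * y := hs'
    rw [show (1 : p.ResidueField) ⊗ₜ[O] (b * t) = ((1 : p.ResidueField) ⊗ₜ[O] b) * (1 ⊗ₜ t) by
        rw [Algebra.TensorProduct.tmul_mul_tmul, one_mul],
      ← hb, smul_mul_assoc, show s'.1 * s.1 * ((1 : p.ResidueField) ⊗ₜ[O] t) = s'.1 * y by rw [← h2]; ring]
    exact Submodule.smul_of_tower_mem _ r (Ideal.mul_mem_left _ _ hy)
  obtain ⟨r', hr', a, ha, hra⟩ := exists_smul_eq_of_mem_map_fiber p J _ hmem
  rw [← TensorProduct.tmul_smul, ← sub_eq_zero, ← TensorProduct.tmul_sub] at hra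
  obtain ⟨r'', hr'', hmemp⟩ := exists_smul_mem_of_one_tmul_eq_zero p _ hra
  have hnot : ∀ o : O, o ∉ p → algebraMap O A o ∉ fibBase p q := fun o ho hm =>
    ho ((Ideal.mem_of_liesOver (fibBase p q) p o).2 hm)
  refine ⟨algebraMap O A r'' * algebraMap O A r' * b, fun hm => ?_, ?_⟩
  · rcases (inferInstance : (fibBase p q).IsPrime).mem_or_mem hm with hm | hm
    · exact ((inferInstance : (fibBase p q).IsPrime).mem_or_mem hm).elim (hnot _ hr'') (hnot _ hr')
    · exact hbq hm
  · rw [show algebraMap O A r'' * algebraMap O A r' * b * t = algebraMap O A r'' * a + r'' • (r' • (b * t) - a) by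
      simp only [Algebra.smul_def]; ring]
    exact Submodule.add_mem_sup (J.mul_mem_left _ ha) hmemp

/-- The prime of the base vanishes in the local ring of the fibre. -/
theorem map_toFib_eq_bot (q : Ideal (p.Fiber A)) [q.IsPrime] :
    (p.map (algebraMap O A)).map (toFib p q) = ⊥ := by
  rw [eq_bot_iff, Ideal.map_map, Ideal.map_le_iff_le_comap]
  intro o ho
  show algebraMap (p.Fiber A) (Localization.AtPrime q) ((1 : p.ResidueField) ⊗ₜ[O] algebraMap O A o) = 0
  rw [Algebra.algebraMap_eq_smul_one o, TensorProduct.tmul_smul, ← Algebra.TensorProduct.one_def, Algebra.smul_def,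
    mul_one, IsScalarTower.algebraMap_apply O p.ResidueField (p.Fiber A), Ideal.algebraMap_residueField_eq_zero.2 ho,
    map_zero, map_zero]

theorem isUnit_toFib (q : Ideal (p.Fiber A)) [q.IsPrime] (x : A) (hx : x ∉ fibBase p q) : IsUnit (toFib p q x) :=
  IsLocalization.map_units (Localization.AtPrime q)
    (⟨_, (hx : (Algebra.TensorProduct.includeRight (R := O) (A := p.ResidueField) (B := A)).toRingHom x ∉ q)⟩ : q.primeCompl)

theorem map_toFib_le_maximalIdeal (I : Ideal A) (q : Ideal (p.Fiber A)) [q.IsPrime] (hI : I ≤ fibBase p q) :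
    I.map (toFib p q) ≤ maximalIdeal (Localization.AtPrime q) :=
  Ideal.map_le_iff_le_comap.2 fun x hx =>
    (IsLocalization.AtPrime.to_map_mem_maximal_iff (Localization.AtPrime q) q _).2 (hI hx)

/-- A Koszul regular ideal with flat quotient is Koszul regular in the fibre. -/
theorem fibKReg_of_kReg [Algebra.FiniteType O A] (I : Ideal A) [Module.Flat O (A ⧸ I)] (q : Ideal (p.Fiber A)) [q.IsPrime]
    (hI : I ≤ fibBase p q) (h : KReg I (fibBase p q)) : FibKReg p I q := by
  let Q := fibBase p q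
  let T := Localization.AtPrime Q
  let K := p.ResidueField
  let F := Localization.AtPrime q
  haveI : IsNoetherianRing (p.Fiber A) := Algebra.FiniteType.isNoetherianRing p.ResidueField _
  haveI : IsNoetherianRing F := IsLocalization.isNoetherianRing q.primeCompl F ‹IsNoetherianRing (p.Fiber A)›
  obtain ⟨g, hg, hon⟩ := h.exists_on
  haveI : Module.Flat A T := IsLocalization.flat T Q.primeCompl
  obtain ⟨l, hl, hIl⟩ := (kRegOn_iff_exists_list I T).1 (hon T (IsLocalization.map_units T (⟨g, hg⟩ : Q.primeCompl)))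
  let n := l.length
  let f : Fin n → T := fun i => l[i]
  have hIf : I.map (algebraMap A T) = Ideal.span (Set.range f) :=
    hIl.trans (LC.range_list_get l).symm
  haveI : Module.Flat O (T ⧸ Ideal.span (Set.range f)) := by
    rw [← hIf]
    exact Synt29.flat_quotient_localization O I
  let j := (Algebra.TensorProduct.includeRight (R := O) (A := K) (B := A)).toRingHom
  letI : Algebra (K ⊗[O] A) (K ⊗[O] T) :=
    (Algebra.TensorProduct.map (AlgHom.id O K) (IsScalarTower.toAlgHom O A T)).toRingHom.toAlgebra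
  haveI : IsScalarTower K (K ⊗[O] A) (K ⊗[O] T) :=
    IsScalarTower.of_algebraMap_eq (R := K) (S := K ⊗[O] A) (A := K ⊗[O] T) fun c => by
      show c ⊗ₜ[O] (1 : T) = c ⊗ₜ[O] (algebraMap A T 1)
      rw [map_one]
  haveI hloc : IsLocalization (Q.primeCompl.map (Algebra.TensorProduct.includeRight (R := O) (A := K) (B := A))) (K ⊗[O] T) :=
    IsLocalization.tensorProduct_tensorProduct_right O K Q.primeCompl T rfl
  have hle : Q.primeCompl.map (Algebra.TensorProduct.includeRight (R := O) (A := K) (B := A)) ≤ q.primeCompl := by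
    rintro _ ⟨x, hx, rfl⟩
    exact hx
  have hunit : ∀ y : Q.primeCompl.map (Algebra.TensorProduct.includeRight (R := O) (A := K) (B := A)),
      IsUnit (algebraMap (K ⊗[O] A) F y) := fun y => IsLocalization.map_units F (⟨y.1, hle y.2⟩ : q.primeCompl)
  letI : Algebra (K ⊗[O] T) F := (IsLocalization.lift (S := K ⊗[O] T) hunit).toAlgebra
  haveI : IsScalarTower (K ⊗[O] A) (K ⊗[O] T) F := IsScalarTower.of_algebraMap_eq fun z => by
    rw [RingHom.algebraMap_toAlgebra, IsLocalization.lift_eq]
  haveI : IsLocalization (q.primeCompl.map (algebraMap (K ⊗[O] A) (K ⊗[O] T))) F :=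
    IsLocalization.isLocalization_of_submonoid_le (K ⊗[O] T) F _ q.primeCompl hle
  let f₁ : Fin n → K ⊗[O] T := fun i => (1 : K) ⊗ₜ[O] f i
  let f₂ : Fin n → F := fun i => algebraMap (K ⊗[O] T) F (f₁ i)
  have hspan : I.map (toFib p q) = Ideal.span (Set.range f₂) := by
    have h1 : (algebraMap (K ⊗[O] A) (K ⊗[O] T)).comp j =
        (Algebra.TensorProduct.includeRight (R := O) (A := K) (B := T)).toRingHom.comp (algebraMap A T) :=
      RingHom.ext fun x => by
        show Algebra.TensorProduct.map (AlgHom.id O K) (IsScalarTower.toAlgHom O A T) ((1 : K) ⊗ₜ[O] x) = _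
        rw [Algebra.TensorProduct.map_tmul]
        rfl
    rw [toFib, IsScalarTower.algebraMap_eq (K ⊗[O] A) (K ⊗[O] T) F, RingHom.comp_assoc, h1, ← RingHom.comp_assoc,
      ← Ideal.map_map, hIf, Ideal.map_span, ← Set.range_comp]
    rfl
  have hmem : ∀ i, f₂ i ∈ maximalIdeal F := fun i =>
    map_toFib_le_maximalIdeal p I q hI (hspan ▸ Ideal.subset_span ⟨i, rfl⟩)
  refine ⟨n, f₂, isExact_of_isWeaklyRegular f₂ (LC.weaklyRegular_of_rel n f₂ hmem fun u hu => ?_), hspan⟩
  exact LC.rel_localize (q.primeCompl.map (algebraMap (K ⊗[O] A) (K ⊗[O] T))) f₁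
    (LC.rel_baseChange K f fun u hu => DefGlueLib.mem_trivR_of_isKoszulRegularSeq hl hu) u hu

/-- An ideal with flat quotient which is Koszul regular in the fibre is Koszul regular. -/
theorem kReg_of_fibKReg [Algebra.FinitePresentation O A] [Module.Flat O A] (I : Ideal A) (hfg : I.FG)
    [Module.Flat O (A ⧸ I)] (q : Ideal (p.Fiber A)) [q.IsPrime] (hI : I ≤ fibBase p q) (h : FibKReg p I q) :
    KReg I (fibBase p q) := by
  classical
  let Q := fibBase p q
  let F := Localization.AtPrime q
  let φ := toFib p q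
  haveI : IsNoetherianRing (p.Fiber A) := Algebra.FiniteType.isNoetherianRing p.ResidueField _
  haveI : IsNoetherianRing F := IsLocalization.isNoetherianRing q.primeCompl F ‹IsNoetherianRing (p.Fiber A)›
  obtain ⟨n, f, hf, hIf⟩ := h
  have hrep : ∀ i, ∃ a ∈ I, ∃ u : F, IsUnit u ∧ φ a = u * f i := fun i => by
    have hm : f i ∈ I.map φ := hIf ▸ Ideal.subset_span ⟨i, rfl⟩
    simp only [φ, toFib] at hm
    rw [← Ideal.map_map, IsLocalization.mem_map_algebraMap_iff q.primeCompl] at hm
    obtain ⟨⟨⟨y, hy⟩, s⟩, hys⟩ := hm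
    obtain ⟨r, hr, a, ha, hra⟩ := exists_smul_eq_of_mem_map_fiber p I y hy
    refine ⟨a, ha, algebraMap O F r * algebraMap (p.Fiber A) F s.1, IsUnit.mul ?_ (IsLocalization.map_units F s), ?_⟩
    · rw [IsScalarTower.algebraMap_apply O p.ResidueField F]
      exact (isUnit_iff_ne_zero.2 fun h0 => hr (Ideal.algebraMap_residueField_eq_zero.1 h0)).map _
    · show algebraMap (p.Fiber A) F ((1 : p.ResidueField) ⊗ₜ[O] a) = _
      rw [← hra, Algebra.smul_def, map_mul, mul_assoc, mul_comm (algebraMap (p.Fiber A) F s.1), hys,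
        ← IsScalarTower.algebraMap_apply O (p.Fiber A) F]
  choose a haI u hu hau using hrep
  let fs := List.ofFn a
  have hspan : (Ideal.ofList fs).map φ = I.map φ := by
    refine le_antisymm (Ideal.map_mono (Ideal.span_le.2 fun x hx => ?_)) ?_
    · obtain ⟨i, rfl⟩ := List.mem_ofFn.1 hx
      exact haI i
    rw [hIf, Ideal.span_le]
    rintro _ ⟨i, rfl⟩
    rw [SetLike.mem_coe, ← Ideal.unit_mul_mem_iff_mem _ (hu i), ← hau i]
    exact Ideal.mem_map_of_mem φ (Ideal.subset_span (List.mem_ofFn.2 ⟨i, rfl⟩))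
  have hmem : ∀ i, f i ∈ maximalIdeal F := fun i =>
    map_toFib_le_maximalIdeal p I q hI (hIf ▸ Ideal.subset_span ⟨i, rfl⟩)
  have hwr : IsWeaklyRegular F (fs.map φ) := by
    rw [show fs.map φ = List.ofFn fun i => φ (a i) from List.map_ofFn ..]
    refine isWeaklyRegular_of_isExact_local _ (fun i => hau i ▸ Ideal.mul_mem_left _ _ (hmem i)) ?_
    refine isExact_of_isUnit_det hf (Matrix.diagonal fun i => ↑(hu i).unit⁻¹) ?_ fun i => ?_
    · rw [Matrix.det_diagonal]
      exact IsUnit.prod_iff.2 fun i _ => Units.isUnit _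
    · simp [Matrix.diagonal_apply, hau, ← mul_assoc]
  have hfsQ : ∀ x ∈ fs, x ∈ Q := fun x hx => by
    obtain ⟨i, rfl⟩ := List.mem_ofFn.1 hx
    exact hI (haI i)
  obtain ⟨g, hg, hgood⟩ := Triage.SliceFlat.exists_slice (O := O) p Q fs hfsQ fun i hi t ht => by
    refine mem_sat_of_toFib_mem p _ q t ?_
    obtain ⟨w, hw, hwt⟩ := ht
    have h1 := Ideal.mem_map_of_mem φ hwt
    rw [Ideal.map_sup, map_toFib_eq_bot, sup_bot_eq, map_mul,
      Ideal.unit_mul_mem_iff_mem _ (isUnit_toFib p q w hw), map_mul] at h1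
    have hI' : (Ideal.ofList ((fs.map φ).take i) • ⊤ : Submodule F F) = (Ideal.ofList (fs.take i)).map φ := by
      rw [← List.map_take, ← Ideal.map_ofList, Ideal.smul_eq_mul, Ideal.mul_top]
    have h2 := hwr.regular_mod_prev i (by simpa using hi)
    have h3 : Submodule.Quotient.mk (p := (Ideal.ofList ((fs.map φ).take i) • ⊤ : Submodule F F)) (φ t) = 0 := by
      refine h2.right_eq_zero_of_smul ?_
      rw [← Submodule.Quotient.mk_smul, Submodule.Quotient.mk_eq_zero, hI', smul_eq_mul, List.getElem_map]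
      exact h1
    rwa [Submodule.Quotient.mk_eq_zero, hI'] at h3
  -- the sequence generates near the point
  let T := Localization.AtPrime Q
  let IT := I.map (algebraMap A T)
  let JT := (Ideal.ofList fs).map (algebraMap A T)
  have hJI : Ideal.ofList fs ≤ I := Ideal.span_le.2 fun x hx => by
    obtain ⟨i, rfl⟩ := List.mem_ofFn.1 hx
    exact haI i
  have hnak : IT ≤ JT := by
    refine Submodule.le_of_le_smul_of_le_jacobson_bot (hfg.map _) (IsLocalRing.maximalIdeal_le_jacobson ⊥)
      (Ideal.map_le_iff_le_comap.2 fun x hx => ?_)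
    have hxF : toFib p q x ∈ (Ideal.ofList fs).map (toFib p q) := hspan.ge (Ideal.mem_map_of_mem _ hx)
    obtain ⟨w, hw, hwx⟩ := mem_sat_of_toFib_mem p _ q x hxF
    obtain ⟨b, hb, c, hc, hbc⟩ := Submodule.mem_sup.1 hwx
    have hcI : c ∈ I := by
      rw [eq_sub_of_add_eq' hbc]
      exact sub_mem (Ideal.mul_mem_left _ _ hx) (hJI hb)
    have hcpI := Synt29.ArtinLift.inf_le_mul p I ⟨hc, hcI⟩
    rw [Ideal.mem_comap, ← Ideal.unit_mul_mem_iff_mem _ (IsLocalization.map_units T (⟨w, hw⟩ : Q.primeCompl)),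
      ← map_mul, ← hbc, map_add]
    refine Submodule.add_mem_sup (Ideal.mem_map_of_mem _ hb) ?_
    have h4 := Ideal.mem_map_of_mem (algebraMap A T) hcpI
    rw [Ideal.map_mul, ← smul_eq_mul] at h4
    refine Submodule.smul_mono ?_ le_rfl h4
    rw [← IsLocalization.AtPrime.map_eq_maximalIdeal Q T]
    exact Ideal.map_mono (Ideal.map_le_iff_le_comap.2 fun o ho => (Ideal.mem_of_liesOver Q p o).1 ho)
  obtain ⟨gs, hgs⟩ := hfg
  have hden : ∀ x ∈ gs, ∃ w : Q.primeCompl, (w : A) * x ∈ Ideal.ofList fs := fun x hx => by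
    have h5 := hnak (Ideal.mem_map_of_mem _ (hgs ▸ Ideal.subset_span hx))
    rw [IsLocalization.algebraMap_mem_map_algebraMap_iff Q.primeCompl] at h5
    obtain ⟨w, hw, hwx⟩ := h5
    exact ⟨⟨w, hw⟩, hwx⟩
  choose w hw using hden
  let W : Q.primeCompl := ∏ x ∈ gs.attach, w x.1 x.2
  refine KReg.of_on (g * W.1) (fun hm => ((inferInstance : Q.IsPrime).mem_or_mem hm).elim hg W.2)
    (Localization.Away (g * W.1)) ?_
  let T' := Localization.Away (g * W.1)
  haveI : Module.Flat A T' := IsLocalization.flat T' (Submonoid.powers (g * W.1))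
  have hu2 : IsUnit (algebraMap A T' g) ∧ IsUnit (algebraMap A T' W.1) := by
    rw [← IsUnit.mul_iff, ← map_mul]
    exact IsLocalization.Away.algebraMap_isUnit _
  obtain ⟨hwr', -⟩ := hgood T' hu2.1
  refine ⟨n, fun i => algebraMap A T' (a i), isExact_of_isWeaklyRegular _ ?_, ?_⟩
  · rw [show (List.ofFn fun i => algebraMap A T' (a i)) = fs.map (algebraMap A T') from (List.map_ofFn ..).symm]
    exact hwr'
  · refine le_antisymm ?_ (Ideal.span_le.2 (Set.range_subset_iff.2 fun i => Ideal.mem_map_of_mem _ (haI i)))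
    rw [← hgs, Ideal.map_span, Ideal.span_le]
    rintro _ ⟨x, hx, rfl⟩
    rw [SetLike.mem_coe, ← Ideal.unit_mul_mem_iff_mem _ hu2.2, ← map_mul]
    have h6 : (W : A) * x ∈ Ideal.ofList fs := by
      show (↑(∏ x ∈ gs.attach, w x.1 x.2) : A) * x ∈ _
      rw [← Finset.mul_prod_erase _ _ (Finset.mem_attach gs ⟨x, hx⟩), Submonoid.coe_mul, mul_comm (w x hx : A),
        mul_assoc]
      exact Ideal.mul_mem_left _ _ (hw x hx)
    have h7 := Ideal.mem_map_of_mem (algebraMap A T') h6
    rw [Ideal.map_ofList, Ideal.ofList] at h7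
    refine Ideal.span_mono ?_ h7
    intro y hy
    obtain ⟨z, hz, rfl⟩ := List.mem_map.1 hy
    obtain ⟨i, rfl⟩ := List.mem_ofFn.1 hz
    exact ⟨i, rfl⟩

end Groth.Agent.KRegLib
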