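import Mathlib
import Groth.Agent.Synt29.Mor
import Groth.Agent.Synt29.CIBaseChange
import Groth.Agent.Synt29.CIPoints

/-!
# Base change of syntomic maps
-/

set_option autoImplicit false
set_option linter.style.haveILetI false
set_option backward.isDefEq.respectTransparency.types false

universe u

open TensorProduct AlgebraicGeometry CategoryTheory

namespace Groth.Agent.KRegLib

theorem isPushout_fiber {A A' B B' k L : Type u} [CommRing A] [CommRing A'] [CommRing B] [CommRing B']
    [Field k] [Field L] [Algebra A A'] [Algebra A B] [Algebra A' B'] [Algebra B B'] [Algebra A B']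
    [IsScalarTower A A' B'] [IsScalarTower A B B'] [Algebra.IsPushout A A' B B']
    [Algebra A k] [Algebra A' L] [Algebra A L] [IsScalarTower A A' L] [Algebra k L] [IsScalarTower A k L]
    {F F' : Type u} [CommRing F] [CommRing F'] [Algebra k F] [Algebra B F] [Algebra A F] [IsScalarTower A k F]
    [IsScalarTower A B F] [Algebra.IsPushout A k B F] [Algebra L F'] [Algebra B' F'] [Algebra A' F']
    [IsScalarTower A' L F'] [IsScalarTower A' B' F'] [Algebra.IsPushout A' L B' F']
    [Algebra k F'] [IsScalarTower k L F'] [Algebra F F'] [IsScalarTower k F F']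
    [Algebra B F'] [IsScalarTower B B' F'] [IsScalarTower B F F'] [Algebra A F'] [IsScalarTower A A' F']
    [IsScalarTower A L F'] [IsScalarTower A B F'] :
    Algebra.IsPushout k L F F' := by
  haveI : IsScalarTower A B' F' := IsScalarTower.of_algebraMap_eq fun x => by
    rw [IsScalarTower.algebraMap_apply A B F', IsScalarTower.algebraMap_apply B B' F',
      ← IsScalarTower.algebraMap_apply A B B']
  haveI : IsScalarTower A k F' := IsScalarTower.of_algebraMap_eq fun x => by
    rw [IsScalarTower.algebraMap_apply k L F', ← IsScalarTower.algebraMap_apply A k L, ← IsScalarTower.algebraMap_apply A L F']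
  haveI : IsScalarTower A F F' := IsScalarTower.of_algebraMap_eq fun x => by
    rw [IsScalarTower.algebraMap_apply A B F', IsScalarTower.algebraMap_apply B F F', ← IsScalarTower.algebraMap_apply A B F]
  have h1 : Algebra.IsPushout A L B F' := (Algebra.IsPushout.comp_iff (R := A) (S := A') (R' := B) (S' := B') (T := L) (T' := F')).2 inferInstance
  exact (Algebra.IsPushout.comp_iff (R := A) (S := k) (R' := B) (S' := F) (T := L) (T' := F')).1 h1

/-- A tensor product with the base changed factor on the left is a pushout. -/
theorem isLCIOver_of_isPushout {k L B B' : Type u} [Field k] [Field L] [Algebra k L] [CommRing B] [Algebra k B]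
    [CommRing B'] [Algebra L B'] [Algebra k B'] [Algebra B B'] [IsScalarTower k L B'] [IsScalarTower k B B']
    [Algebra.IsPushout k L B B'] (h : Synt.IsLCIOver k B) : Synt.IsLCIOver L B' := by
  haveI := h.1
  haveI : Algebra.FiniteType L B' :=
    Algebra.FiniteType.equiv (Algebra.FiniteType.baseChange L) (Algebra.IsPushout.equiv k L B B')
  refine Synt29.isLCIOver_iff_forall_maximal.2 fun m => ?_
  exact (Synt29.isCIOver_atPrime_iff_of_isPushout m.asIdeal (m.asIdeal.comap (algebraMap B B')) rfl).2
    (Synt29.isCIOver_atPrime_of_isLCIOver h _)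

/-- Syntomic algebras are stable under base change. -/
theorem isSyntomic_tensor {A A' B : Type u} [CommRing A] [CommRing A'] [CommRing B] [Algebra A A'] [Algebra A B]
    (h : Synt.IsSyntomic A B) : Synt.IsSyntomic A' (A' ⊗[A] B) := by
  haveI := h.1
  haveI := h.2.1
  refine ⟨inferInstance, inferInstance, fun p => ?_⟩
  let p₀ : PrimeSpectrum A := ⟨p.asIdeal.comap (algebraMap A A'), inferInstance⟩
  let k := p₀.asIdeal.ResidueField
  let L := p.asIdeal.ResidueField
  let B' := A' ⊗[A] B
  let F := p₀.asIdeal.Fiber B
  let F' := p.asIdeal.Fiber B'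
  letI : Algebra k L := (Ideal.ResidueField.map p₀.asIdeal p.asIdeal (algebraMap A A') rfl).toAlgebra
  haveI : IsScalarTower A k L := IsScalarTower.of_algebraMap_eq fun x => by
    show algebraMap A L x = Ideal.ResidueField.map p₀.asIdeal p.asIdeal (algebraMap A A') rfl (algebraMap A k x)
    rw [Ideal.ResidueField.map_algebraMap, ← IsScalarTower.algebraMap_apply]
  letI : Algebra B B' := Algebra.TensorProduct.rightAlgebra
  letI : Algebra B F := Algebra.TensorProduct.rightAlgebra
  letI : Algebra B' F' := Algebra.TensorProduct.rightAlgebra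
  haveI : IsScalarTower k L F' := inferInstance
  letI : Algebra B F' := ((algebraMap B' F').comp (algebraMap B B')).toAlgebra
  haveI : IsScalarTower B B' F' := IsScalarTower.of_algebraMap_eq fun _ => rfl
  haveI : IsScalarTower A L F' := inferInstance
  haveI : IsScalarTower A A' F' := inferInstance
  haveI : IsScalarTower A B F' := IsScalarTower.of_algebraMap_eq fun x => by
    show _ = algebraMap B' F' (algebraMap B B' (algebraMap A B x))
    rw [← IsScalarTower.algebraMap_apply A B B', IsScalarTower.algebraMap_apply A A' B',
      ← IsScalarTower.algebraMap_apply A' B' F', ← IsScalarTower.algebraMap_apply A A' F']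
  haveI : IsScalarTower A k F' := inferInstance
  let φ : F →ₐ[A] F' := Algebra.TensorProduct.lift (IsScalarTower.toAlgHom A k F') (IsScalarTower.toAlgHom A B F')
    (fun _ _ => Commute.all _ _)
  letI : Algebra F F' := φ.toRingHom.toAlgebra
  haveI : IsScalarTower k F F' := IsScalarTower.of_algebraMap_eq fun x => by
    show algebraMap k F' x = φ (x ⊗ₜ[A] (1 : B))
    rw [Algebra.TensorProduct.lift_tmul, map_one, mul_one]
    rfl
  haveI : IsScalarTower B F F' := IsScalarTower.of_algebraMap_eq fun x => by
    show algebraMap B F' x = φ ((1 : k) ⊗ₜ[A] x)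
    rw [Algebra.TensorProduct.lift_tmul, map_one, one_mul]
    rfl
  haveI : Algebra.IsPushout k L F F' := isPushout_fiber (A := A) (A' := A') (B := B) (B' := B')
  exact isLCIOver_of_isPushout (k := k) (L := L) (B := F) (B' := F') (h.2.2 p₀)

theorem syntomic_respectsIso : RingHom.RespectsIso Synt29.RingHomIsSyntomic :=
  Synt29.syntomic_propertyIsLocal.respectsIso

theorem syntomic_stableUnderBaseChange : RingHom.IsStableUnderBaseChange Synt29.RingHomIsSyntomic := by
  refine RingHom.IsStableUnderBaseChange.mk syntomic_respectsIso fun R S T _ _ _ _ _ h => ?_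
  exact Synt29.ringHomIsSyntomic_algebraMap.2 (isSyntomic_tensor (Synt29.ringHomIsSyntomic_algebraMap.1 h))

/-- Syntomic morphisms are stable under base change. -/
theorem isSyntomicMor_of_isPullback {X Y X' Y' : Scheme.{u}} {f : X ⟶ Y} {g : Y' ⟶ Y} {f' : X' ⟶ Y'} {g' : X' ⟶ X}
    (hsq : IsPullback g' f' f g) (h : Synt.IsSyntomicMor f) : Synt.IsSyntomicMor f' := by
  have := Synt29.hasRingHomProperty_isSyntomicMor.{u}
  let P : MorphismProperty Scheme.{u} := fun {X Y : Scheme.{u}} (f : X ⟶ Y) => Synt.IsSyntomicMor f
  haveI : P.IsStableUnderBaseChange := HasRingHomProperty.isStableUnderBaseChange syntomic_stableUnderBaseChange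
  exact MorphismProperty.of_isPullback (P := P) hsq h

end Groth.Agent.KRegLib
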