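import Mathlib
import Groth.Agent.KRegLib.FibreCrit
import Groth.Agent.KRegLib.SyntBC

/-!
# Koszul regular ideals with flat quotient and base change
-/

set_option autoImplicit false
set_option linter.style.haveILetI false
set_option backward.isDefEq.respectTransparency.types false
set_option synthInstance.maxHeartbeats 100000

universe u

open TensorProduct IsLocalRing
open Groth.Agent.WiebeLib

namespace Groth.Agent.KRegLib

/-- Every prime over `p` is a point of the fibre. -/
theorem exists_fib_point {O A : Type u} [CommRing O] [CommRing A] [Algebra O A] (p : Ideal O) [p.IsPrime]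
    (Q : Ideal A) [Q.IsPrime] (hQ : Q.comap (algebraMap O A) = p) :
    ∃ (q : Ideal (p.Fiber A)) (_ : q.IsPrime), fibBase p q = Q := by
  let κQ := Q.ResidueField
  let i : p.ResidueField →+* κQ := Ideal.ResidueField.map p Q (algebraMap O A) hQ.symm
  let i' : p.ResidueField →ₐ[O] κQ := ⟨i, fun o => by
    show i (algebraMap O p.ResidueField o) = _
    rw [Ideal.ResidueField.map_algebraMap, ← IsScalarTower.algebraMap_apply]⟩
  let φ := Algebra.TensorProduct.lift i' (IsScalarTower.toAlgHom O A κQ) fun _ _ => Commute.all _ _
  refine ⟨RingHom.ker φ.toRingHom, RingHom.ker_isPrime _, ?_⟩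
  ext x
  show φ ((1 : p.ResidueField) ⊗ₜ[O] x) = 0 ↔ x ∈ Q
  rw [Algebra.TensorProduct.lift_tmul, map_one, one_mul]
  exact Ideal.algebraMap_residueField_eq_zero

/-- Generation by a Koszul regular sequence descends along a faithfully flat algebra over a local ring. -/
theorem exists_gen_of_ff {T T' : Type u} [CommRing T] [IsLocalRing T] [CommRing T'] [Algebra T T']
    [Module.FaithfullyFlat T T'] (J : Ideal T) (hJ : J ≤ maximalIdeal T) (n : ℕ) (f : Fin n → T')
    (hf : IsExact f) (hJf : J.map (algebraMap T T') = Ideal.span (Set.range f)) :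
    ∃ (n : ℕ) (f : Fin n → T), IsExact f ∧ J = Ideal.span (Set.range f) := by
  have hK : LCI.IsKoszulRegularIdeal (J.map (algebraMap T T')) := by
    rw [isKoszulRegularIdeal_iff]
    intro 𝔭 h𝔭 _
    haveI : IsLocalization.Away (1 : T') T' :=
      IsLocalization.away_of_isUnit_of_bijective T' isUnit_one Function.bijective_id
    exact KReg.of_on 1 (fun h1 => h𝔭.ne_top ((Ideal.eq_top_iff_one _).2 h1)) T' ⟨n, f, hf, (Ideal.map_id _).trans hJf⟩
  have hmax := isKoszulRegularIdeal_of_faithfullyFlat J hK
  rw [isKoszulRegularIdeal_iff] at hmax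
  obtain ⟨g, hg, hon⟩ := (hmax _ (maximalIdeal.isMaximal T).isPrime hJ).exists_on
  obtain ⟨n', f', hf', hI'⟩ := hon T (by rw [Algebra.algebraMap_self_apply]; exact notMem_maximalIdeal.1 hg)
  exact ⟨n', f', hf', (Ideal.map_id J).symm.trans hI'⟩

variable {O O' A A' : Type u} [CommRing O] [CommRing O'] [CommRing A] [CommRing A'] [Algebra O O'] [Algebra O A]
  [Algebra O' A'] [Algebra A A'] [Algebra O A'] [IsScalarTower O O' A'] [IsScalarTower O A A']
  [Algebra.IsPushout O O' A A']

set_option maxHeartbeats 800000 in
/-- An ideal with flat quotient is Koszul regular at a point of the base change if and only if it is at the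
image. -/
theorem kReg_baseChange_iff [Algebra.FinitePresentation O A] [Module.Flat O A] (I : Ideal A) (hfg : I.FG)
    [Module.Flat O (A ⧸ I)] [Module.Flat O' (A' ⧸ I.map (algebraMap A A'))] (Q' : Ideal A') [Q'.IsPrime]
    (hI : I.map (algebraMap A A') ≤ Q') :
    KReg (I.map (algebraMap A A')) Q' ↔ KReg I (Q'.comap (algebraMap A A')) := by
  classical
  haveI : Algebra.FinitePresentation O' A' :=
    Algebra.FinitePresentation.equiv (Algebra.IsPushout.equiv O O' A A')
  haveI : Module.Flat O' A' := Module.Flat.of_linearEquiv (Algebra.IsPushout.equiv O O' A A').symm.toLinearEquiv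
  let p' := Q'.comap (algebraMap O' A')
  let p := p'.comap (algebraMap O O')
  obtain ⟨q', hq', hQ'⟩ := exists_fib_point p' Q' rfl
  let k := p.ResidueField
  let L := p'.ResidueField
  let F := p.Fiber A
  let F' := p'.Fiber A'
  letI : Algebra k L := (Ideal.ResidueField.map p p' (algebraMap O O') rfl).toAlgebra
  haveI : IsScalarTower O k L := IsScalarTower.of_algebraMap_eq fun x => by
    show algebraMap O L x = Ideal.ResidueField.map p p' (algebraMap O O') rfl (algebraMap O k x)
    rw [Ideal.ResidueField.map_algebraMap, ← IsScalarTower.algebraMap_apply]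
  letI : Algebra A F := Algebra.TensorProduct.rightAlgebra
  letI : Algebra A' F' := Algebra.TensorProduct.rightAlgebra
  haveI : IsScalarTower k L F' := inferInstance
  letI : Algebra A F' := ((algebraMap A' F').comp (algebraMap A A')).toAlgebra
  haveI : IsScalarTower A A' F' := IsScalarTower.of_algebraMap_eq fun _ => rfl
  haveI : IsScalarTower O L F' := inferInstance
  haveI : IsScalarTower O O' F' := inferInstance
  haveI : IsScalarTower O A F' := IsScalarTower.of_algebraMap_eq fun x => by
    show _ = algebraMap A' F' (algebraMap A A' (algebraMap O A x))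
    rw [← IsScalarTower.algebraMap_apply O A A', IsScalarTower.algebraMap_apply O O' A',
      ← IsScalarTower.algebraMap_apply O' A' F', ← IsScalarTower.algebraMap_apply O O' F']
  haveI : IsScalarTower O k F' := inferInstance
  let φ : F →ₐ[O] F' := Algebra.TensorProduct.lift (IsScalarTower.toAlgHom O k F') (IsScalarTower.toAlgHom O A F')
    (fun _ _ => Commute.all _ _)
  letI : Algebra F F' := φ.toRingHom.toAlgebra
  haveI : IsScalarTower k F F' := IsScalarTower.of_algebraMap_eq fun x => by
    show algebraMap k F' x = φ (x ⊗ₜ[O] (1 : A))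
    rw [Algebra.TensorProduct.lift_tmul, map_one, mul_one]
    rfl
  haveI : IsScalarTower A F F' := IsScalarTower.of_algebraMap_eq fun x => by
    show algebraMap A F' x = φ ((1 : k) ⊗ₜ[O] x)
    rw [Algebra.TensorProduct.lift_tmul, map_one, one_mul]
    rfl
  haveI : Algebra.IsPushout k L F F' := isPushout_fiber (A := O) (A' := O') (B := A) (B' := A')
  haveI : Algebra.IsPushout k F L F' := Algebra.IsPushout.symm inferInstance
  haveI : Module.Flat F F' := Module.Flat.isBaseChange k F L F' (Algebra.IsPushout.out (R := k) (S := F) (R' := L) (S' := F'))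
  let q := q'.comap (algebraMap F F')
  have hsq : (algebraMap F F').comp (Algebra.TensorProduct.includeRight (R := O) (A := k) (B := A)).toRingHom =
      (Algebra.TensorProduct.includeRight (R := O') (A := L) (B := A')).toRingHom.comp (algebraMap A A') :=
    RingHom.ext fun x => by
      show φ ((1 : k) ⊗ₜ[O] x) = _
      rw [Algebra.TensorProduct.lift_tmul, map_one, one_mul]
      rfl
  have hQ : fibBase p q = Q'.comap (algebraMap A A') := by
    refine Eq.trans ?_ (congrArg (Ideal.comap (algebraMap A A')) hQ')
    show (q'.comap (algebraMap F F')).comap _ = (q'.comap _).comap _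
    rw [Ideal.comap_comap, Ideal.comap_comap]
    exact congrArg (fun g => Ideal.comap g q') hsq
  let T := Localization.AtPrime q
  let T' := Localization.AtPrime q'
  let θ : T →+* T' := Localization.localRingHom q q' (algebraMap F F') rfl
  letI : Algebra T T' := θ.toAlgebra
  haveI : IsScalarTower F T T' := IsScalarTower.of_algebraMap_eq fun x => by
    show _ = θ (algebraMap F T x)
    rw [Localization.localRingHom_to_map]
    exact IsScalarTower.algebraMap_apply F F' T' x
  haveI : Module.Flat F' T' := IsLocalization.flat T' q'.primeCompl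
  haveI : Module.Flat F T' := Module.Flat.trans F F' T'
  haveI : Module.Flat T T' := (Module.flat_iff_of_isLocalization T q.primeCompl T').2 inferInstance
  haveI : IsLocalHom (algebraMap T T') := Localization.isLocalHom_localRingHom q q' (algebraMap F F') rfl
  haveI : Module.FaithfullyFlat T T' := @Module.FaithfullyFlat.of_flat_of_isLocalHom T T' _ _ _ _ _ _ _
  have hcomp : (toFib p' q').comp (algebraMap A A') = (algebraMap T T').comp (toFib p q) := by
    simp only [toFib, RingHom.comp_assoc, ← hsq]
    simp only [← RingHom.comp_assoc]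
    congr 1
    exact RingHom.ext fun x => (Localization.localRingHom_to_map q q' (algebraMap F F') rfl x).symm
  have hmap : (I.map (algebraMap A A')).map (toFib p' q') = (I.map (toFib p q)).map (algebraMap T T') := by
    rw [Ideal.map_map, Ideal.map_map, hcomp]
  have hI0 : I ≤ fibBase p q := hQ ▸ Ideal.map_le_iff_le_comap.1 hI
  have hI1 : I.map (algebraMap A A') ≤ fibBase p' q' := hQ'.symm ▸ hI
  refine Iff.trans (iff_of_eq (congrArg (KReg _) hQ'.symm)) (Iff.trans ?_ (iff_of_eq (congrArg (KReg I) hQ)))
  refine ⟨fun h => kReg_of_fibKReg p I hfg q hI0 ?_, fun h => kReg_of_fibKReg p' _ (hfg.map _) q' hI1 ?_⟩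
  · obtain ⟨n, f, hf, hfI⟩ := fibKReg_of_kReg p' _ q' hI1 h
    rw [hmap] at hfI
    exact exists_gen_of_ff (T := T) (T' := T') _ (map_toFib_le_maximalIdeal p I q hI0) n f hf hfI
  · obtain ⟨n, f, hf, hfI⟩ := fibKReg_of_kReg p I q hI0 h
    refine ⟨n, fun i => algebraMap T T' (f i), isExact_map hf, ?_⟩
    rw [hmap, hfI, Ideal.map_span, ← Set.range_comp]
    rfl

end Groth.Agent.KRegLib
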