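import Mathlib
import Groth.Agent.KRegLib.FibreBC
import Groth.Agent.KRegLib.BaseChange
import Groth.Agent.AlgSpPts.Sep

/-!
# Koszul morphisms between schemes flat over a base, and base change
-/

set_option autoImplicit false
set_option linter.style.haveILetI false
set_option backward.isDefEq.respectTransparency.types false

universe u

open TensorProduct AlgebraicGeometry CategoryTheory Limits

attribute [local instance] MvPolynomial.algebraMvPolynomial

namespace Groth.Agent.KRegLib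

/-- In any chart a morphism Koszul at a point has Koszul regular kernel there. -/
theorem kReg_of_isKoszulAt {X S : Scheme.{u}} (f : X ⟶ S) {U : X.Opens} (hU : IsAffineOpen U) {V : S.Opens}
    (hV : IsAffineOpen V) (e : U ≤ f ⁻¹ᵁ V) (x : X) (hxU : x ∈ U) {C : Type u} [CommRing C] [Algebra Γ(S, V) C]
    [Algebra.Smooth Γ(S, V) C] (φ : C →+* Γ(X, U)) (hφc : φ.comp (algebraMap Γ(S, V) C) = (f.appLE V U e).hom)
    (hφ : Function.Surjective φ) (hK : Synt.IsKoszulAt f x) :
    KReg (RingHom.ker φ) ((hU.primeIdealOf ⟨x, hxU⟩).asIdeal.comap φ) := by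
  let B := Γ(S, V)
  obtain ⟨⟨V₁, hV₁⟩, ⟨U₁, hU₁⟩, hx₁, e₁, h₁⟩ := exists_chart_of_isKoszulAt f x hK
  obtain ⟨r, s, hxs, es, hs⟩ := exists_basicOpen_le_appLE_of_appLE_of_isAffine (f := f) lci_targetAway
    lci_localizationAwayPreserves x ⟨V, hV⟩ ⟨V₁, hV₁⟩ ⟨U, hU⟩ ⟨U₁, hU₁⟩ hxU hx₁ e₁ h₁ (e hxU)
  let U' := X.basicOpen s
  have e' : U' ≤ f ⁻¹ᵁ V := (X.basicOpen_le s).trans e
  haveI := hV.isLocalization_basicOpen r
  have hlci : RingHomIsLCI (f.appLE V U' e').hom := by
    have h := lci_sourceAway Γ(S, S.basicOpen r) r _ hs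
    rwa [show (f.appLE V U' e') = S.presheaf.map (homOfLE (S.basicOpen_le r)).op ≫ f.appLE (S.basicOpen r) U' es from
      (Scheme.Hom.map_appLE _ _ _).symm, CommRingCat.hom_comp]
  obtain ⟨g, rfl⟩ := hφ s
  let R := Localization.Away g
  haveI := hU.isLocalization_basicOpen (φ g)
  let φ' : R →+* Γ(X, U') := IsLocalization.Away.map R Γ(X, U') φ g
  letI : Algebra B Γ(X, U') := (f.appLE V U' e').hom.toAlgebra
  haveI : Algebra.Smooth C R := Algebra.Smooth.of_isLocalization_Away g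
  haveI : Algebra.Smooth B R := Algebra.Smooth.comp B C R
  have h1 : φ'.comp (algebraMap B R) = (f.appLE V U' e').hom := by
    rw [IsScalarTower.algebraMap_eq B C R, ← RingHom.comp_assoc,
      show φ'.comp (algebraMap C R) = (algebraMap Γ(X, U) Γ(X, U')).comp φ from IsLocalization.map_comp _,
      RingHom.comp_assoc, hφc, RingHom.algebraMap_toAlgebra, ← CommRingCat.hom_comp]
    exact congrArg CommRingCat.Hom.hom (f.appLE_map e (homOfLE (X.basicOpen_le (φ g))).op)
  let ψ : R →ₐ[B] Γ(X, U') := ⟨φ', fun b => RingHom.congr_fun h1 b⟩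
  let hU' := hU.basicOpen (φ g)
  let 𝔮 := (hU'.primeIdealOf ⟨x, hxs⟩).asIdeal
  have h2 := kReg_of_isLCI (A := B) hlci ψ (away_map_surjective hφ g) 𝔮
  have hker : RingHom.ker φ' = (RingHom.ker φ).map (algebraMap C R) :=
    IsLocalization.ker_map (Γ(X, U')) φ (Submonoid.map_powers φ g)
  have h3 : KReg ((RingHom.ker φ).map (algebraMap C R)) (𝔮.comap φ') := hker ▸ h2
  haveI : Module.Flat C R := IsLocalization.flat R (Submonoid.powers g)
  haveI : Algebra.FinitePresentation C R := IsLocalization.Away.finitePresentation g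
  have hc : (𝔮.comap φ').comap (algebraMap C R) = (hU.primeIdealOf ⟨x, hxU⟩).asIdeal.comap φ := by
    rw [Ideal.comap_comap, show φ'.comp (algebraMap C R) = (algebraMap Γ(X, U) Γ(X, U')).comp φ from IsLocalization.map_comp _,
      ← Ideal.comap_comap]
    congr 1
    exact congrArg PrimeSpectrum.asIdeal
      (IsAffineOpen.comap_primeIdealOf_appLE (f := 𝟙 X) U hU U' hU' (X.basicOpen_le (φ g)) hxs)
  rw [← hc]
  refine KReg.descend (P := C) (N := R) _ _ (hker ▸ fun z hz => ?_) h3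
  rw [Ideal.mem_comap, show φ' z = 0 from hz]
  exact zero_mem _

set_option maxHeartbeats 1600000 in
/-- Between schemes flat and locally of finite presentation over a base, being Koszul at a point is compatible
with any base change. -/
theorem isKoszulAt_baseChange_iff {X Y S X' Y' S' : Scheme.{u}} (f : X ⟶ Y) (g : Y ⟶ S)
    [Flat (f ≫ g)] [LocallyOfFinitePresentation (f ≫ g)] [Flat g] [LocallyOfFinitePresentation g] {h : S' ⟶ S}
    {gY : Y' ⟶ Y} {g' : Y' ⟶ S'} (hY : IsPullback gY g' g h) {gX : X' ⟶ X} {f' : X' ⟶ Y'}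
    (hX : IsPullback gX f' f gY) (x' : X') :
    Synt.IsKoszulAt f' x' ↔ Synt.IsKoszulAt f (gX x') := by
  haveI : LocallyOfFinitePresentation f := AlgSpPts.locallyOfFinitePresentation_of_comp f g
  haveI : Flat (f' ≫ g') := MorphismProperty.of_isPullback (P := @Flat) (hX.paste_vert hY) ‹Flat (f ≫ g)›
  let x := gX x'
  let y' := f' x'
  have hxy : gY y' = f x := by
    show gY (f' x') = f (gX x')
    rw [← Scheme.Hom.comp_apply, ← Scheme.Hom.comp_apply, hX.w]
  have hys : h (g' y') = g (f x) := by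
    rw [← hxy]
    exact (congrArg (fun φ : Y' ⟶ S => φ y') hY.w).symm
  obtain ⟨S₀, hS₀, hsS₀, -⟩ := exists_isAffineOpen_mem_and_subset (U := ⊤) (x := g (f x)) trivial
  obtain ⟨V, hV, hyV, hVS'⟩ := exists_isAffineOpen_mem_and_subset (U := g ⁻¹ᵁ S₀) (x := f x) hsS₀
  obtain ⟨U, hU, hxU, hUV'⟩ := exists_isAffineOpen_mem_and_subset (U := f ⁻¹ᵁ V) (x := x) hyV
  obtain ⟨S₁, hS₁, hsS₁, hS₁₀'⟩ := exists_isAffineOpen_mem_and_subset (U := h ⁻¹ᵁ S₀) (x := g' y')
    (show h (g' y') ∈ S₀ from hys ▸ hsS₀)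
  have hVS : V ≤ g ⁻¹ᵁ S₀ := hVS'
  have hUV : U ≤ f ⁻¹ᵁ V := hUV'
  have hS₁₀ : S₁ ≤ h ⁻¹ᵁ S₀ := hS₁₀'
  let V' : Y'.Opens := gY ⁻¹ᵁ V ⊓ g' ⁻¹ᵁ S₁
  let U' : X'.Opens := gX ⁻¹ᵁ U ⊓ f' ⁻¹ᵁ V'
  have hV' : IsAffineOpen V' := by
    haveI : IsAffine _ := hS₀
    haveI : IsAffine _ := hS₁
    haveI : IsAffine _ := hV
    exact .of_isIso (Scheme.Hom.isPullback_resLE hY hS₁₀ hVS (UY := V') rfl).isoPullback.hom
  have hU' : IsAffineOpen U' := by
    haveI : IsAffine _ := hV
    haveI : IsAffine _ := hV'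
    haveI : IsAffine _ := hU
    exact .of_isIso (Scheme.Hom.isPullback_resLE hX inf_le_left hUV (UY := U') rfl).isoPullback.hom
  have hy'V' : y' ∈ V' := ⟨show gY y' ∈ V from hxy ▸ hyV, hsS₁⟩
  have hx'U' : x' ∈ U' := ⟨hxU, hy'V'⟩
  have hpo₁ := (isIso_pushoutSection_iff hY (US := S₀) (UT := S₁) (UX := V) hS₁₀ hVS (UY := V') rfl).1
    (isIso_pushoutSection_of_isAffineOpen hY hS₁₀ hVS (UY := V') rfl hS₀ hS₁ hV)
  have hpo₂ := (isIso_pushoutSection_iff hX (US := V) (UT := V') (UX := U) inf_le_left hUV (UY := U') rfl).1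
    (isIso_pushoutSection_of_isAffineOpen hX inf_le_left hUV (UY := U') rfl hV hV' hU)
  let O := Γ(S, S₀)
  let O' := Γ(S', S₁)
  let B := Γ(Y, V)
  let B' := Γ(Y', V')
  let C := Γ(X, U)
  let C' := Γ(X', U')
  letI : Algebra O O' := (h.appLE S₀ S₁ hS₁₀).hom.toAlgebra
  letI : Algebra O B := (g.appLE S₀ V hVS).hom.toAlgebra
  letI : Algebra O' B' := (g'.appLE S₁ V' inf_le_right).hom.toAlgebra
  letI : Algebra B B' := (gY.appLE V V' inf_le_left).hom.toAlgebra
  letI : Algebra O B' := ((g'.appLE S₁ V' inf_le_right).hom.comp (h.appLE S₀ S₁ hS₁₀).hom).toAlgebra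
  haveI : IsScalarTower O O' B' := IsScalarTower.of_algebraMap_eq fun _ => rfl
  haveI : IsScalarTower O B B' := IsScalarTower.of_algebraMap_eq fun a =>
    (RingHom.congr_fun (congrArg CommRingCat.Hom.hom hpo₁.w) a).symm
  haveI hP₁ : Algebra.IsPushout O O' B B' := CommRingCat.isPushout_iff_isPushout.1 hpo₁.flip
  letI : Algebra B C := (f.appLE V U hUV).hom.toAlgebra
  letI : Algebra B' C' := (f'.appLE V' U' inf_le_right).hom.toAlgebra
  letI : Algebra C C' := (gX.appLE U U' inf_le_left).hom.toAlgebra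
  letI : Algebra B C' := ((f'.appLE V' U' inf_le_right).hom.comp (gY.appLE V V' inf_le_left).hom).toAlgebra
  haveI : IsScalarTower B B' C' := IsScalarTower.of_algebraMap_eq fun _ => rfl
  haveI : IsScalarTower B C C' := IsScalarTower.of_algebraMap_eq fun a =>
    (RingHom.congr_fun (congrArg CommRingCat.Hom.hom hpo₂.w) a).symm
  haveI : Algebra.IsPushout B B' C C' := CommRingCat.isPushout_iff_isPushout.1 hpo₂.flip
  letI : Algebra O C := ((f.appLE V U hUV).hom.comp (g.appLE S₀ V hVS).hom).toAlgebra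
  haveI : IsScalarTower O B C := IsScalarTower.of_algebraMap_eq fun _ => rfl
  letI : Algebra O' C' := ((f'.appLE V' U' inf_le_right).hom.comp (g'.appLE S₁ V' inf_le_right).hom).toAlgebra
  haveI : IsScalarTower O' B' C' := IsScalarTower.of_algebraMap_eq fun _ => rfl
  haveI : Algebra.FinitePresentation O B := HasRingHomProperty.appLE @LocallyOfFinitePresentation g ‹_› ⟨S₀, hS₀⟩ ⟨V, hV⟩ hVS
  haveI : Module.Flat O B := HasRingHomProperty.appLE @Flat g ‹_› ⟨S₀, hS₀⟩ ⟨V, hV⟩ hVS
  haveI : Algebra.FinitePresentation B C := HasRingHomProperty.appLE @LocallyOfFinitePresentation f ‹_› ⟨V, hV⟩ ⟨U, hU⟩ hUV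
  have hCflat : Module.Flat O C := by
    have h1 : ((f ≫ g).appLE S₀ U (hUV.trans (fun z hz => hVS hz))).hom.Flat :=
      HasRingHomProperty.appLE @Flat (f ≫ g) ‹_› ⟨S₀, hS₀⟩ ⟨U, hU⟩ _
    rw [← Scheme.Hom.appLE_comp_appLE f g S₀ V U hVS hUV, CommRingCat.hom_comp] at h1
    exact h1
  have hC'flat : Module.Flat O' C' := by
    have h1 : ((f' ≫ g').appLE S₁ U' (fun z hz => hz.2.2)).hom.Flat :=
      HasRingHomProperty.appLE @Flat (f' ≫ g') ‹_› ⟨S₁, hS₁⟩ ⟨U', hU'⟩ _
    rw [← Scheme.Hom.appLE_comp_appLE f' g' S₁ V' U' inf_le_right inf_le_right, CommRingCat.hom_comp] at h1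
    exact h1
  obtain ⟨n, φ, hφ, hfg⟩ := Algebra.FinitePresentation.out (R := B) (A := C)
  obtain ⟨φ', hφ', hφx, hker⟩ := exists_baseChange_presentation (k := B) (L := B') (B' := C') φ hφ
  let A := MvPolynomial (Fin n) B
  let A' := MvPolynomial (Fin n) B'
  haveI : Algebra.Smooth B A := ⟨inferInstance, inferInstance⟩
  haveI : Algebra.Smooth B' A' := ⟨inferInstance, inferInstance⟩
  haveI : IsScalarTower O A A' := IsScalarTower.of_algebraMap_eq fun a => by
    show MvPolynomial.C (algebraMap O B' a) = MvPolynomial.map (algebraMap B B') (MvPolynomial.C (algebraMap O B a))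
    rw [MvPolynomial.map_C, ← IsScalarTower.algebraMap_apply]
  haveI : Algebra.IsPushout O B O' B' := Algebra.IsPushout.symm hP₁
  haveI : Algebra.IsPushout B A B' A' := Algebra.IsPushout.symm inferInstance
  haveI : Algebra.IsPushout O A O' A' :=
    (Algebra.IsPushout.comp_iff (R := O) (S := B) (R' := O') (S' := B') (T := A) (T' := A')).2 inferInstance
  haveI : Algebra.IsPushout O O' A A' := Algebra.IsPushout.symm inferInstance
  haveI : Algebra.FinitePresentation O A := Algebra.FinitePresentation.trans O B A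
  haveI : Module.Flat O A := Module.Flat.trans O B A
  let I := RingHom.ker φ.toRingHom
  haveI : Module.Flat O (A ⧸ I) :=
    Module.Flat.of_linearEquiv ((Ideal.quotientKerAlgEquivOfSurjective (R₁ := B) hφ).restrictScalars O).toLinearEquiv
  haveI : Module.Flat O' (A' ⧸ I.map (algebraMap A A')) := by
    rw [show I.map (algebraMap A A') = RingHom.ker φ'.toRingHom from hker.symm]
    exact Module.Flat.of_linearEquiv
      ((Ideal.quotientKerAlgEquivOfSurjective (R₁ := B') hφ').restrictScalars O').toLinearEquiv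
  let Q := (hU.primeIdealOf ⟨x, hxU⟩).asIdeal
  let Q' := (hU'.primeIdealOf ⟨x', hx'U'⟩).asIdeal
  have hQ : Q'.comap (algebraMap C C') = Q :=
    congrArg PrimeSpectrum.asIdeal (IsAffineOpen.comap_primeIdealOf_appLE (f := gX) U hU U' hU' inf_le_left hx'U')
  have hc : (Q'.comap φ'.toRingHom).comap (algebraMap A A') = Q.comap φ.toRingHom := by
    rw [← hQ, Ideal.comap_comap, Ideal.comap_comap]
    congr 1
    exact RingHom.ext hφx
  have key := kReg_baseChange_iff (O := O) (O' := O') (A := A) (A' := A') I hfg (Q'.comap φ'.toRingHom)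
    (by rw [show I.map (algebraMap A A') = RingHom.ker φ'.toRingHom from hker.symm]
        intro z hz
        rw [Ideal.mem_comap, show φ'.toRingHom z = 0 from hz]
        exact zero_mem _)
  rw [show I.map (algebraMap A A') = RingHom.ker φ'.toRingHom from hker.symm, hc] at key
  constructor
  · exact fun hk => isKoszulAt_of_kReg f hU hV hUV x hxU φ.toRingHom φ.comp_algebraMap hφ
      (key.1 (kReg_of_isKoszulAt f' hU' hV' inf_le_right x' hx'U' φ'.toRingHom φ'.comp_algebraMap hφ' hk))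
  · exact fun hk => isKoszulAt_of_kReg f' hU' hV' inf_le_right x' hx'U' φ'.toRingHom φ'.comp_algebraMap hφ'
      (key.2 (kReg_of_isKoszulAt f hU hV hUV x hxU φ.toRingHom φ.comp_algebraMap hφ hk))

end Groth.Agent.KRegLib
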