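import Mathlib
import Groth.Agent.KRegLib.FFDescent
import Groth.Agent.KRegLib.BaseChange

/-!
# Local complete intersection morphisms descend along fpqc morphisms
-/

set_option autoImplicit false
set_option linter.style.haveILetI false
set_option backward.isDefEq.respectTransparency.types false

universe u

open TensorProduct CategoryTheory Limits AlgebraicGeometry

attribute [local instance] MvPolynomial.algebraMvPolynomial

namespace Groth.Agent.KRegLib

theorem isLCI_of_tensor {A A' B : Type u} [CommRing A] [CommRing A'] [CommRing B] [Algebra A A'] [Algebra A B]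
    [Module.FaithfullyFlat A A'] (h : LCI.IsLCI A' (A' ⊗[A] B)) : LCI.IsLCI A B := by
  haveI : Algebra.FiniteType A' (A' ⊗[A] B) := h.1
  haveI hB : Algebra.FiniteType A B := Algebra.FiniteType.of_finiteType_tensorProduct_of_faithfullyFlat A'
  obtain ⟨n, f, hf⟩ := Algebra.FiniteType.iff_quotient_mvPolynomial''.1 hB
  letI : Algebra B (A' ⊗[A] B) := Algebra.TensorProduct.rightAlgebra
  obtain ⟨g, hg, -, hgk⟩ := exists_baseChange_presentation (L := A') (B' := A' ⊗[A] B) f hf
  let P := MvPolynomial (Fin n) A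
  haveI : Module.FaithfullyFlat P (MvPolynomial (Fin n) A') := by
    haveI : Algebra.IsPushout A A' P (MvPolynomial (Fin n) A') := Algebra.IsPushout.symm inferInstance
    exact (RingHom.faithfullyFlat_algebraMap_iff).1 (RingHom.FaithfullyFlat.isStableUnderBaseChange A A' P
      (MvPolynomial (Fin n) A') ((RingHom.faithfullyFlat_algebraMap_iff).2 inferInstance))
  refine ⟨hB, n, f, hf, isKoszulRegularIdeal_of_faithfullyFlat (B := MvPolynomial (Fin n) A') _ ?_⟩
  obtain ⟨-, m, φ, hφ, hK⟩ := id h
  have := isKoszulRegularIdeal_ker_transfer φ hφ g hg hK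
  rw [hgk] at this
  exact this

theorem lci_codescendsAlong : RingHom.CodescendsAlong RingHomIsLCI RingHom.FaithfullyFlat := by
  refine .mk _ lci_propertyIsLocal.respectsIso fun R S T _ _ _ _ _ h h' => ?_
  rw [RingHom.faithfullyFlat_algebraMap_iff] at h
  exact ringHomIsLCI_algebraMap.2 (isLCI_of_tensor (A' := S) (ringHomIsLCI_algebraMap.1 h'))

/-- Local complete intersection morphisms descend along fpqc morphisms. -/
theorem isLCI'_descendsAlong :
    (IsLCI'.{u}).DescendsAlong ((@Surjective ⊓ @Flat) ⊓ @QuasiCompact) := by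
  apply IsZariskiLocalAtTarget.descendsAlong
  intro R X Y f g hf h
  wlog hX : ∃ T, X = Spec T generalizing X with H
  · have _ : CompactSpace X := by simpa [← quasiCompact_iff_compactSpace f] using hf.2
    obtain ⟨T, p, hsurj, hp, hT⟩ := X.exists_hom_isAffine_of_isZariskiLocalAtSource @IsLocalIso
    haveI := hsurj
    haveI := hp
    haveI : Surjective f := hf.1.1
    haveI : Flat f := hf.1.2
    haveI : Flat p := IsLocalIso.le_of_isZariskiLocalAtSource @Flat _ _ p hp
    haveI : Flat (T.isoSpec.inv ≫ p) := inferInstance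
    refine H ((T.isoSpec.inv ≫ p) ≫ f) ?_ ?_ ⟨_, rfl⟩
    · exact ⟨⟨inferInstance, inferInstance⟩, inferInstance⟩
    · rw [← pullbackRightPullbackFstIso_inv_fst f g _, (IsLCI'.{u}).cancel_left_of_respectsIso]
      exact isLCI'_of_isPullback (IsPullback.of_hasPullback (T.isoSpec.inv ≫ p) (pullback.fst f g)).flip h
  obtain ⟨T, rfl⟩ := hX
  obtain ⟨φ, rfl⟩ := Spec.map_surjective f
  wlog hY : ∃ S, Y = Spec S generalizing Y
  · rw [IsZariskiLocalAtSource.iff_of_openCover (P := IsLCI'.{u}) Y.affineCover]
    intro i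
    have heq : pullback.fst (Spec.map φ) (Y.affineCover.f i ≫ g) =
        pullback.map _ _ _ _ (𝟙 _) (Y.affineCover.f i) (𝟙 _) (by simp) (by simp) ≫
          pullback.fst (Spec.map φ) g := (pullback.lift_fst _ _ _).symm
    exact this _ (heq ▸ IsZariskiLocalAtSource.comp h _) ⟨_, rfl⟩
  obtain ⟨S, rfl⟩ := hY
  refine of_pullback_fst_Spec_of_codescendsAlong (IsLCI'.{u}) ((@Surjective ⊓ @Flat) ⊓ @QuasiCompact)
    lci_codescendsAlong (fun {R S f} hf => ?_) (fun {R S f} => HasRingHomProperty.Spec_iff (P := IsLCI'.{u})) hf h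
  haveI : Surjective (Spec.map f) := hf.1.1
  haveI : Flat (Spec.map f) := hf.1.2
  exact (flat_and_surjective_SpecMap_iff f).1 ⟨inferInstance, inferInstance⟩

/-- Descent in terms of pullback squares. -/
theorem isLCI'_of_fpqc {X S X' S' : Scheme.{u}} {f : X ⟶ S} {f' : X' ⟶ S'} {g' : X' ⟶ X} {g : S' ⟶ S}
    [Flat g] [Surjective g] [QuasiCompact g] (hc : IsPullback g' f' f g) (h : IsLCI' f') : IsLCI' f := by
  haveI := isLCI'_descendsAlong.{u}
  exact MorphismProperty.of_isPullback_of_descendsAlong (Q := (@Surjective ⊓ @Flat) ⊓ @QuasiCompact) hc.flip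
    ⟨⟨inferInstance, inferInstance⟩, inferInstance⟩ h

end Groth.Agent.KRegLib
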