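import Mathlib
import Groth.Agent.Synt29.KoszulLocal
import Groth.Agent.Synt29.FlatLCI
import Groth.Agent.H9Misc.DRingPerfect
import Groth.Agent.H9Misc.DRingPC
import Groth.Agent.S6960
import Groth.Prelude.Def_MoreMor

/-!
# Koszul regular quotients are perfect, and local complete intersections are perfect
-/

set_option autoImplicit false
set_option linter.style.haveILetI false

universe u

open CategoryTheory CategoryTheory.Limits
open Groth.Agent.H9Misc

attribute [local instance] HasDerivedCategory.standard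

namespace Groth.Agent.KRegLib

theorem isPerfect_of_iso {R : Type u} [CommRing R] {K L : Dual.D R} (e : K ≅ L) (h : DRing.IsPerfect R K) :
    DRing.IsPerfect R L :=
  let ⟨E, a, b, hz, hE, ⟨e'⟩⟩ := h
  ⟨E, a, b, hz, hE, ⟨e' ≪≫ e⟩⟩

theorem isPerfectModule_congr {R : Type u} [CommRing R] {M N : Type u} [AddCommGroup M] [Module R M]
    [AddCommGroup N] [Module R N] (e : M ≃ₗ[R] N) (h : DRing.IsPerfectModule R M) : DRing.IsPerfectModule R N :=
  isPerfect_of_iso ((DerivedCategory.singleFunctor (ModuleCat.{u} R) 0).mapIso e.toModuleIso) h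

theorem koszulCx_finiteFree {A : Type u} [CommRing A] : ∀ (fs : List A) (n : ℤ),
    Module.Finite A ((CohIII.koszulCx (ModuleCat.of A A) fs).X n) ∧
      Module.Free A ((CohIII.koszulCx (ModuleCat.of A A) fs).X n) := by
  intro fs
  induction fs with
  | nil =>
    intro n
    rcases eq_or_ne n 0 with rfl | hn
    · let e := (HomologicalComplex.singleObjXSelf (ComplexShape.up ℤ) 0 (ModuleCat.of A A)).toLinearEquiv
      exact ⟨Module.Finite.equiv e.symm, Module.Free.of_equiv e.symm⟩
    · haveI := ModuleCat.subsingleton_of_isZero (Koszul15.isZero_X (ModuleCat.of A A) [] n (by simp; omega))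
      exact ⟨inferInstance, inferInstance⟩
  | cons f fs ih =>
    intro n
    haveI := (ih n).1
    haveI := (ih n).2
    haveI := (ih (n + 1)).1
    haveI := (ih (n + 1)).2
    let φ := f • 𝟙 (CohIII.koszulCx (ModuleCat.of A A) fs)
    let e := (HomologicalComplex.homotopyCofiber.XIsoBiprod φ n (n + 1) rfl ≪≫
      ModuleCat.biprodIsoProd _ _).toLinearEquiv
    exact ⟨Module.Finite.equiv e.symm, Module.Free.of_equiv e.symm⟩

/-- The quotient by a Koszul regular sequence is perfect. -/
theorem isPerfectModule_of_seq {A : Type u} [CommRing A] (l : List A) (h : LCI.IsKoszulRegularSeq A l) :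
    DRing.IsPerfectModule A (A ⧸ Ideal.span {x | x ∈ l}) := by
  let K := CohIII.koszulCx (ModuleCat.of A A) l
  have h' : ∀ i : ℤ, i ≠ 0 → IsZero (K.homology i) := fun i hi => by
    have := h i hi
    rwa [← HomologicalComplex.exactAt_iff_isZero_homology, Synt29.koszul_eq,
      HomologicalComplex.exactAt_iff_isZero_homology] at this
  let X : Dual.D A := DRing.toD K
  have hH : ∀ i : ℤ, (DerivedCategory.homologyFunctor (ModuleCat.{u} A) i).obj X ≅ K.homology i := fun i =>
    (DerivedCategory.homologyFunctorFactors (ModuleCat.{u} A) i).app K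
  haveI : X.IsGE 0 := (DerivedCategory.isGE_iff _ _).2 fun i hi => (h' i (by omega)).of_iso (hH i)
  haveI : X.IsLE 0 := (DerivedCategory.isLE_iff _ _).2 fun i hi => (h' i (by omega)).of_iso (hH i)
  obtain ⟨Y, ⟨e⟩⟩ := DerivedCategory.exists_iso_singleFunctor_obj_of_isGE_of_isLE X 0
  obtain ⟨t⟩ := Koszul15.nonempty_top_equiv l (ModuleCat.of A A)
  have he : (Ideal.ofList l • (⊤ : Submodule A (ModuleCat.of A A)) : Submodule A A) = Ideal.span {x | x ∈ l} := by
    show Ideal.ofList l • (⊤ : Submodule A A) = _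
    rw [smul_eq_mul, Ideal.mul_top]
  let eY : Y ≅ ModuleCat.of A (A ⧸ Ideal.span {x | x ∈ l}) :=
    ((DerivedCategory.singleFunctorCompHomologyFunctorIso (ModuleCat.{u} A) 0).app Y).symm ≪≫
      (DerivedCategory.homologyFunctor (ModuleCat.{u} A) 0).mapIso e.symm ≪≫ hH 0 ≪≫ t.toModuleIso ≪≫
      (Submodule.quotEquivOfEq _ _ he).toModuleIso
  refine ⟨K, -(l.length : ℤ), 0, fun i hi => Koszul15.isZero_X _ l i (hi.symm.imp id id), fun i => ?_,
    ⟨e ≪≫ (DerivedCategory.singleFunctor (ModuleCat.{u} A) 0).mapIso eY⟩⟩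
  obtain ⟨hfin, hfree⟩ := koszulCx_finiteFree l i
  exact ⟨hfin, Module.Projective.of_free⟩

/-- Perfectness of a module is local on the base. -/
theorem isPerfect_inD_of_away {R : Type u} [CommRing R] {r : ℕ} (f : Fin r → R)
    (hf : Ideal.span (Set.range f) = ⊤) (M : ModuleCat.{u} R)
    (h : ∀ i, DRing.IsPerfect (Localization.Away (f i)) (Dual.inD (Localization.Away (f i))
      ((ModuleCat.extendScalars.{u, u, u} (algebraMap R (Localization.Away (f i)))).obj M))) :
    DRing.IsPerfect R (Dual.inD R M) := by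
  refine isPerfect_of_iso ((DerivedCategory.singleFunctorIsoCompQ (ModuleCat.{u} R) 0).app M).symm
    (Groth.Agent.S6960.result f hf ((DRingTor.sg 0).obj M) fun i => ?_)
  exact isPerfect_of_iso ((DerivedCategory.singleFunctorIsoCompQ _ 0).app _ ≪≫
    DerivedCategory.Q.mapIso ((HomologicalComplex.singleMapHomologicalComplex
      (ModuleCat.extendScalars.{u, u, u} (algebraMap R (Localization.Away (f i)))) (ComplexShape.up ℤ) 0).app M).symm)
    (h i)

theorem isPerfect_extend_quotient {R T : Type u} [CommRing R] [CommRing T] (φ : R →+* T) (I : Ideal R)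
    (h : DRing.IsPerfectModule T (T ⧸ I.map φ)) :
    DRing.IsPerfect T (Dual.inD T ((ModuleCat.extendScalars.{u, u, u} φ).obj (ModuleCat.of R (R ⧸ I)))) := by
  letI := φ.toAlgebra
  exact isPerfectModule_congr (Algebra.TensorProduct.quotIdealMapEquivTensorQuot T I).toLinearEquiv h

/-- The quotient by a Koszul regular ideal is perfect. -/
theorem isPerfectModule_quotient {R : Type u} [CommRing R] (I : Ideal R) (hI : LCI.IsKoszulRegularIdeal I) :
    DRing.IsPerfectModule R (R ⧸ I) := by
  classical
  let s : Set R := {g | ∃ l : List (Localization.Away g), LCI.IsKoszulRegularSeq (Localization.Away g) l ∧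
    I.map (algebraMap R (Localization.Away g)) = Ideal.span {x | x ∈ l}}
  have hs : Ideal.span s = ⊤ := by
    by_contra hne
    obtain ⟨q, hq, hle⟩ := Ideal.exists_le_maximal _ hne
    by_cases hIq : I ≤ q
    · obtain ⟨g, hg, l, hl⟩ := hI ⟨q, hq.isPrime⟩ hIq
      exact hg (hle (Ideal.subset_span ⟨l, hl⟩))
    · obtain ⟨g, hgI, hg⟩ := Set.not_subset.1 hIq
      have h1 : Ideal.span {x : Localization.Away g | x ∈ [1]} = ⊤ :=
        Ideal.eq_top_of_isUnit_mem _ (Ideal.subset_span (List.mem_singleton_self _)) isUnit_one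
      refine hg (hle (Ideal.subset_span ⟨[1], fun i _ => ?_, ?_⟩))
      · rw [← HomologicalComplex.exactAt_iff_isZero_homology, Synt29.koszul_eq,
          HomologicalComplex.exactAt_iff_isZero_homology]
        exact Koszul15.isZero_homology_of_span_eq_top _ h1 _ i
      · rw [h1]
        exact Ideal.eq_top_of_isUnit_mem _ (Ideal.mem_map_of_mem _ hgI)
          (IsLocalization.Away.algebraMap_isUnit g)
  obtain ⟨t, hts, ht⟩ := (Ideal.span_eq_top_iff_finite s).1 hs
  let f : Fin t.card → R := fun i => (t.equivFin.symm i).1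
  have hf : Set.range f = (t : Set R) := by
    refine Set.ext fun x => ⟨?_, fun hx => ⟨t.equivFin ⟨x, hx⟩, by simp [f]⟩⟩
    rintro ⟨i, rfl⟩
    exact (t.equivFin.symm i).2
  refine isPerfect_inD_of_away f (by rw [hf]; exact ht) (ModuleCat.of R (R ⧸ I)) fun i => ?_
  refine isPerfect_extend_quotient _ I ?_
  obtain ⟨l, hl, hI'⟩ : f i ∈ s := hts (t.equivFin.symm i).2
  rw [hI']
  exact isPerfectModule_of_seq l hl

theorem shortExact_of_exact {R : Type u} [CommRing R] {M N L : Type u} [AddCommGroup M] [Module R M] [AddCommGroup N]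
    [Module R N] [AddCommGroup L] [Module R L] (i : M →ₗ[R] N) (q : N →ₗ[R] L) (hi : Function.Injective i)
    (hq : Function.Surjective q) (he : Function.Exact i q) :
    ∃ h : ModuleCat.ofHom i ≫ ModuleCat.ofHom q = 0,
      (ShortComplex.mk (ModuleCat.ofHom i) (ModuleCat.ofHom q) h).ShortExact := by
  have h : ModuleCat.ofHom i ≫ ModuleCat.ofHom q = 0 :=
    ModuleCat.hom_ext (LinearMap.ext fun x => (he _).2 ⟨x, rfl⟩)
  exact ⟨h, { exact := (ShortComplex.ShortExact.moduleCat_exact_iff_function_exact _).2 he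
              mono_f := (ModuleCat.mono_iff_injective _).2 hi
              epi_g := (ModuleCat.epi_iff_surjective _).2 hq }⟩

/-- Tor dimension over a flat algebra bounds tor dimension over the base. -/
theorem hasTorDimLE_restrict (A : Type u) {P : Type u} [CommRing A] [CommRing P] [Algebra A P] [Module.Flat A P] :
    ∀ (d : ℕ) (M : Type u) [AddCommGroup M] [Module A M] [Module P M] [IsScalarTower A P M],
      DRing.HasTorDimLE P d M → DRing.HasTorDimLE A d M := by
  intro d
  induction d with
  | zero =>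
    intro M _ _ _ _ h
    haveI : Module.Flat P M := (DRingTor.torDimLE_zero_iff (ModuleCat.of P M)).1 h
    exact (DRingTor.torDimLE_zero_iff (ModuleCat.of A M)).2 (Module.Flat.trans A P M)
  | succ d ih =>
    intro M _ _ _ _ h
    let q : (M →₀ P) →ₗ[P] M := Finsupp.linearCombination P id
    have hq : Function.Surjective q := Finsupp.linearCombination_id_surjective P M
    let i : LinearMap.ker q →ₗ[P] (M →₀ P) := (LinearMap.ker q).subtype
    have hi : Function.Injective i := Subtype.val_injective
    have he : Function.Exact i q := LinearMap.exact_subtype_ker_map q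
    obtain ⟨h1, hP⟩ := shortExact_of_exact (R := P) (M := LinearMap.ker q) (N := M →₀ P) (L := M) i q hi hq he
    obtain ⟨h2, hA⟩ := shortExact_of_exact (R := A) (M := LinearMap.ker q) (N := M →₀ P) (L := M) (i.restrictScalars A)
      (q.restrictScalars A) hi hq he
    haveI : Module.Flat A (M →₀ P) := Module.Flat.trans A P (M →₀ P)
    refine (DRingTor.torDimLE_succ_iff hA d).2 (ih (LinearMap.ker q) ?_)
    exact (DRingTor.torDimLE_succ_iff hP d).1 h

theorem hasFiniteTorDim_of_perfect {R : Type u} [CommRing R] (M : Type u) [AddCommGroup M] [Module R M]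
    (h : DRing.IsPerfectModule R M) : DRing.HasFiniteTorDim R M := by
  obtain ⟨-, a, b, hamp⟩ := (DRingPerfect.isPerfect_iff _).1 h
  exact ⟨(-a).toNat, (DRingTor.torDimLE_iff _ (ModuleCat.of R M)).2 (DRingTor.shrink (b := b)
    (DRingTor.mono (a := a) (by omega) le_rfl hamp) fun i hi => DRingTor.isZero_homology_inD (ModuleCat.of R M) i hi)⟩

/-- Local complete intersection ring maps are perfect. -/
theorem isPerfectHom_of_isLCI {A B : Type u} [CommRing A] [CommRing B] [Algebra A B] (h : LCI.IsLCI A B) :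
    MoreMor.IsPerfectHom A B := by
  obtain ⟨-, n, φ, hφ, hK⟩ := h
  letI := φ.toRingHom.toAlgebra
  haveI : IsScalarTower A (MvPolynomial (Fin n) A) B := IsScalarTower.of_algebraMap_eq fun a => (φ.commutes a).symm
  let ψ : MvPolynomial (Fin n) A →ₐ[MvPolynomial (Fin n) A] B := Algebra.ofId _ _
  have hp : DRing.IsPerfectModule (MvPolynomial (Fin n) A) B :=
    isPerfectModule_congr (Ideal.quotientKerAlgEquivOfSurjective (f := ψ) hφ).toLinearEquiv
      (isPerfectModule_quotient _ hK)
  refine ⟨⟨n, φ, hφ, ((DRingPerfect.isPerfect_iff _).1 hp).1⟩, ?_⟩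
  obtain ⟨d, hd⟩ := hasFiniteTorDim_of_perfect B hp
  exact ⟨d, hasTorDimLE_restrict A d B hd⟩

theorem finitePresentation_of_isLCI {A B : Type u} [CommRing A] [CommRing B] [Algebra A B] (h : LCI.IsLCI A B) :
    Algebra.FinitePresentation A B := by
  obtain ⟨-, n, φ, hφ, hK⟩ := h
  exact Algebra.FinitePresentation.of_surjective hφ (Synt29.fg_ker_of_isKoszulRegularIdeal _ hK)

end Groth.Agent.KRegLib
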