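import Mathlib
import Groth.Agent.S8660
import Groth.Agent.KRegLib.SyntBC
import Groth.Agent.KRegLib.FpqcDescent
import Groth.Agent.Synt29.KoszulSyntomic

/-!
# Complete intersection morphisms are syntomic morphisms
-/

set_option autoImplicit false
set_option linter.style.haveILetI false
set_option backward.isDefEq.respectTransparency.types false

universe u

open CategoryTheory Limits AlgebraicGeometry

namespace Groth.Agent.KRegLib

theorem lfp_of_isSyntomicMor {X Y : Scheme.{u}} (f : X ⟶ Y) (h : Synt.IsSyntomicMor f) :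
    LocallyOfFinitePresentation f := by
  rw [HasRingHomProperty.iff_appLE (P := @LocallyOfFinitePresentation)]
  intro V U e
  exact ((Synt29.isSyntomicMor_iff_appLE f).1 h U V e).2.1

theorem isCIMorphism_iff_isSyntomicMor {X Y : Scheme.{u}} (f : X ⟶ Y) :
    CInt.IsCIMorphism f ↔ Synt.IsSyntomicMor f := by
  constructor
  · intro h
    haveI := h.1
    haveI := h.2.1
    exact (Synt29.flat_and_isKoszulAt_iff f).1 ⟨h.1, (Groth.Agent.S8660.result f).2 h⟩
  · intro h
    haveI := lfp_of_isSyntomicMor f h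
    obtain ⟨hfl, hK⟩ := (Synt29.flat_and_isKoszulAt_iff f).2 h
    haveI := hfl
    exact (Groth.Agent.S8660.result f).1 hK

theorem isSyntomicMor_comp {X Y Z : Scheme.{u}} (f : X ⟶ Y) (g : Y ⟶ Z) (hf : Synt.IsSyntomicMor f)
    (hg : Synt.IsSyntomicMor g) : Synt.IsSyntomicMor (f ≫ g) := by
  obtain ⟨_, hf'⟩ := (Synt29.flat_and_isKoszulAt_iff f).2 hf
  obtain ⟨_, hg'⟩ := (Synt29.flat_and_isKoszulAt_iff g).2 hg
  exact (Synt29.flat_and_isKoszulAt_iff _).1 ⟨inferInstance, (forall_isKoszulAt_iff _).2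
    (MorphismProperty.comp_mem _ f g ((forall_isKoszulAt_iff f).1 hf') ((forall_isKoszulAt_iff g).1 hg'))⟩

theorem isSyntomicMor_of_fpqc {X S X' S' : Scheme.{u}} {f : X ⟶ S} {f' : X' ⟶ S'} {g' : X' ⟶ X} {g : S' ⟶ S}
    [Flat g] [Surjective g] [QuasiCompact g] (hc : IsPullback g' f' f g) (h : Synt.IsSyntomicMor f') :
    Synt.IsSyntomicMor f := by
  obtain ⟨hfl, hK⟩ := (Synt29.flat_and_isKoszulAt_iff f').2 h
  haveI : Flat f := MorphismProperty.of_isPullback_of_descendsAlong (P := @Flat)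
    (Q := (@Surjective ⊓ @Flat) ⊓ @QuasiCompact) hc.flip ⟨⟨inferInstance, inferInstance⟩, inferInstance⟩ hfl
  exact (Synt29.flat_and_isKoszulAt_iff f).1 ⟨inferInstance, (forall_isKoszulAt_iff f).2
    (isLCI'_of_fpqc hc ((forall_isKoszulAt_iff _).1 hK))⟩

end Groth.Agent.KRegLib
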