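import Mathlib
import Groth.Agent.KRegLib.Mor

/-!
# Two immersions into smooth schemes over the base
-/

set_option autoImplicit false
set_option linter.style.haveILetI false
set_option backward.isDefEq.respectTransparency false
set_option backward.isDefEq.respectTransparency.types false

universe u

open AlgebraicGeometry CategoryTheory

namespace Groth.Agent.KRegLib

/-- Two immersions have, near a point, charts over a common affine open of the source. -/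
theorem exists_common_chart {U P P' : Scheme.{u}} (i : U ⟶ P) (i' : U ⟶ P') [IsImmersion i] [IsImmersion i'] (u : U)
    (O : P.Opens) (O' : P'.Opens) (hO : i u ∈ O) (hO' : i' u ∈ O') :
    ∃ (C : P.Opens) (C' : P'.Opens), IsAffineOpen C ∧ IsAffineOpen C' ∧ i u ∈ C ∧ i' u ∈ C' ∧ C ≤ O ∧ C' ≤ O' ∧
      IsClosedImmersion (i ∣_ C) ∧ IsClosedImmersion (i' ∣_ C') ∧ i ⁻¹ᵁ C = i' ⁻¹ᵁ C' := by
  obtain ⟨W, hW, huW, hWO, hci⟩ := exists_affine_isClosedImmersion_restrict i u O hO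
  obtain ⟨W', hW', huW', hWO', hci'⟩ := exists_affine_isClosedImmersion_restrict i' u O' hO'
  obtain ⟨hA, hAs⟩ := Synt29.surjective_app_of_isClosedImmersion_restrict i W hW
  obtain ⟨hA', hAs'⟩ := Synt29.surjective_app_of_isClosedImmersion_restrict i' W' hW'
  -- inside the preimage of `W'`
  obtain ⟨b, hbW', hub⟩ := hA.exists_basicOpen_le (V := i' ⁻¹ᵁ W') ⟨u, huW'⟩ huW
  obtain ⟨g, hg⟩ := hAs b
  subst hg
  have hD : i ⁻¹ᵁ P.basicOpen g = U.basicOpen (i.app W g) := Scheme.preimage_basicOpen i g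
  -- inside the preimage of `D(g)`
  obtain ⟨b', hb', hub'⟩ := hA'.exists_basicOpen_le (V := i ⁻¹ᵁ P.basicOpen g) ⟨u, hD ▸ hub⟩ huW'
  obtain ⟨g', hg'⟩ := hAs' b'
  subst hg'
  obtain ⟨hs, hAD, -⟩ := app_basicOpen_props i hW hA hAs g
  have hle : i ⁻¹ᵁ P.basicOpen g ≤ i' ⁻¹ᵁ W' := hD.trans_le hbW'
  let r := U.presheaf.map (homOfLE hle).op (i'.app W' g')
  obtain ⟨γ, hγ⟩ := hs r
  have hC : i ⁻¹ᵁ P.basicOpen γ = U.basicOpen (i'.app W' g') := by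
    rw [Scheme.preimage_basicOpen, hγ, Scheme.basicOpen_res]
    exact inf_eq_right.2 hb'
  have hC' : i' ⁻¹ᵁ P'.basicOpen g' = U.basicOpen (i'.app W' g') := Scheme.preimage_basicOpen i' g'
  have hle2 : P.basicOpen γ ≤ W := (P.basicOpen_le γ).trans (P.basicOpen_le g)
  refine ⟨P.basicOpen γ, P'.basicOpen g', (hW.basicOpen g).basicOpen γ, hW'.basicOpen g', ?_, ?_, hle2.trans hWO,
    (P'.basicOpen_le g').trans hWO', isClosedImmersion_restrict_of_le i hle2,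
    isClosedImmersion_restrict_of_le i' (P'.basicOpen_le g'), hC.trans hC'.symm⟩
  · exact (hC.ge hub' : u ∈ i ⁻¹ᵁ P.basicOpen γ)
  · exact (hC'.ge hub' : u ∈ i' ⁻¹ᵁ P'.basicOpen g')

theorem isClosedImmersion_restrict_comp_ι {U P : Scheme.{u}} (i : U ⟶ P) (V : U.Opens) {D : P.Opens}
    (hDV : i ⁻¹ᵁ D ≤ V) [IsClosedImmersion (i ∣_ D)] : IsClosedImmersion ((V.ι ≫ i) ∣_ D) := by
  rw [morphismRestrict_comp]
  haveI : Surjective (V.ι ∣_ (i ⁻¹ᵁ D)) := ⟨fun y => ⟨⟨⟨y.1, hDV y.2⟩, y.2⟩, Subtype.ext (by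
    simp [morphismRestrict_base_coe])⟩⟩
  haveI : IsIso (V.ι ∣_ (i ⁻¹ᵁ D)) :=
    (isIso_iff_isOpenImmersion_and_surjective _).2 ⟨inferInstance, inferInstance⟩
  infer_instance

theorem ker_app_comp_ι {U P : Scheme.{u}} (i : U ⟶ P) (V : U.Opens) {D : P.Opens} (hDV : i ⁻¹ᵁ D ≤ V) :
    RingHom.ker ((V.ι ≫ i).app D).hom = RingHom.ker (i.app D).hom := by
  haveI : IsIso (V.ι.app (i ⁻¹ᵁ D)) := Scheme.Hom.isIso_app _ _ (by rwa [Scheme.Opens.opensRange_ι])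
  rw [Scheme.Hom.comp_app, CommRingCat.hom_comp,
    RingHom.ker_comp_of_injective _ (ConcreteCategory.bijective_of_isIso (V.ι.app (i ⁻¹ᵁ D))).1]

theorem exists_regImm_transfer {S U P P' : Scheme.{u}} (q : U ⟶ S) (p : P ⟶ S) (p' : P' ⟶ S) [Smooth p] [Smooth p']
    (i : U ⟶ P) (i' : U ⟶ P') [IsImmersion i] [IsImmersion i'] (hi : i ≫ p = q) (hi' : i' ≫ p' = q) (u : U)
    (h : ∃ V : U.Opens, u ∈ V ∧ RegImm.IsRegularImmersion .koszul (V.ι ≫ i)) :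
    ∃ V : U.Opens, u ∈ V ∧ RegImm.IsRegularImmersion .koszul (V.ι ≫ i') := by
  obtain ⟨V₀, huV₀, -, hreg⟩ := h
  obtain ⟨S₀, hS₀, huS, -⟩ := exists_isAffineOpen_mem_and_subset (U := ⊤) (x := q u) trivial
  have hpu : p (i u) = q u := by rw [← Scheme.Hom.comp_apply, hi]
  have hpu' : p' (i' u) = q u := by rw [← Scheme.Hom.comp_apply, hi']
  -- an open of `P` cutting out a neighbourhood inside `V₀`
  obtain ⟨O₁, hO₁, hO₁V⟩ := i.isEmbedding.isInducing.isOpen_iff.1 V₀.2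
  let O₁' : P.Opens := ⟨O₁, hO₁⟩
  have hO₁V' : i ⁻¹ᵁ O₁' = V₀ := TopologicalSpace.Opens.ext hO₁V
  obtain ⟨C, C', hC, hC', huC, huC', hCO, hCO', hci, hci', heq⟩ :=
    exists_common_chart i i' u (O₁' ⊓ p ⁻¹ᵁ S₀) (p' ⁻¹ᵁ S₀)
      ⟨(hO₁V'.ge huV₀ : u ∈ i ⁻¹ᵁ O₁'), show p (i u) ∈ S₀ from hpu ▸ huS⟩ (show p' (i' u) ∈ S₀ from hpu' ▸ huS)
  have hCV : i ⁻¹ᵁ C ≤ V₀ := fun y hy => hO₁V'.le (show y ∈ i ⁻¹ᵁ O₁' from (hCO hy).1)
  obtain ⟨hD, hs⟩ := Synt29.surjective_app_of_isClosedImmersion_restrict i C hC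
  obtain ⟨hD', hs'⟩ := Synt29.surjective_app_of_isClosedImmersion_restrict i' C' hC'
  haveI := isClosedImmersion_restrict_comp_ι i V₀ hCV
  have h1 := kReg_of_regImmAt (V₀.ι ≫ i) ⟨u, huV₀⟩ (hreg ⟨u, huV₀⟩) hC (show i u ∈ C from huC)
  rw [ker_app_comp_ι i V₀ hCV] at h1
  have h1' : KReg (RingHom.ker (i.app C).hom) (hC.primeIdealOf ⟨i u, huC⟩).asIdeal := h1
  refine exists_regImm_nhd_of_kReg i' u hC' huC' ?_
  have hCS : C ≤ p ⁻¹ᵁ S₀ := fun y hy => (hCO hy).2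
  let R := Γ(U, i' ⁻¹ᵁ C')
  have e : i' ⁻¹ᵁ C' ≤ q ⁻¹ᵁ S₀ := fun y hy => by
    have := hCO' (show i' y ∈ C' from hy)
    rw [← hi']
    exact this
  letI : Algebra Γ(S, S₀) Γ(P, C) := (p.appLE S₀ C hCS).hom.toAlgebra
  letI : Algebra Γ(S, S₀) Γ(P', C') := (p'.appLE S₀ C' hCO').hom.toAlgebra
  haveI : Algebra.Smooth Γ(S, S₀) Γ(P, C) := p.smooth_appLE hS₀ hC hCS
  haveI : Algebra.Smooth Γ(S, S₀) Γ(P', C') := p'.smooth_appLE hS₀ hC' hCO'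
  letI : Algebra Γ(S, S₀) R := (q.appLE S₀ (i' ⁻¹ᵁ C') e).hom.toAlgebra
  have key : ∀ (Q : Scheme.{u}) (j : U ⟶ Q) (π : Q ⟶ S) (D : Q.Opens) (hπ : D ≤ π ⁻¹ᵁ S₀) (hd : i' ⁻¹ᵁ C' ≤ j ⁻¹ᵁ D),
      j ≫ π = q → ∀ a, (j.appLE D (i' ⁻¹ᵁ C') hd) (π.appLE S₀ D hπ a) = q.appLE S₀ (i' ⁻¹ᵁ C') e a := by
    rintro Q j π D hπ hd rfl a
    rw [← CommRingCat.comp_apply, Scheme.Hom.appLE_comp_appLE]
  let ψ : Γ(P, C) →ₐ[Γ(S, S₀)] R := ⟨(i.appLE C (i' ⁻¹ᵁ C') heq.ge).hom, key P i p C hCS heq.ge hi⟩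
  let ψ' : Γ(P', C') →ₐ[Γ(S, S₀)] R := ⟨(i'.appLE C' (i' ⁻¹ᵁ C') le_rfl).hom, key P' i' p' C' hCO' le_rfl hi'⟩
  have hψ : Function.Surjective ψ ∧ RingHom.ker ψ.toRingHom = RingHom.ker (i.app C).hom := by
    show Function.Surjective (i.appLE C (i' ⁻¹ᵁ C') heq.ge).hom ∧ RingHom.ker (i.appLE C (i' ⁻¹ᵁ C') heq.ge).hom = _
    have gen : ∀ (O : U.Opens) (hO : O ≤ i ⁻¹ᵁ C), O = i ⁻¹ᵁ C → Function.Surjective (i.appLE C O hO).hom ∧
        RingHom.ker (i.appLE C O hO).hom = RingHom.ker (i.app C).hom := by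
      rintro _ hO rfl
      rw [← Scheme.Hom.app_eq_appLE]
      exact ⟨hs, rfl⟩
    exact gen _ _ heq.symm
  have hψ' : Function.Surjective ψ' := by
    show Function.Surjective (i'.appLE C' (i' ⁻¹ᵁ C') le_rfl).hom
    rw [← Scheme.Hom.app_eq_appLE]
    exact hs'
  let 𝔯 := (hD'.primeIdealOf ⟨u, huC'⟩).asIdeal
  have hc : 𝔯.comap ψ.toRingHom = (hC.primeIdealOf ⟨i u, huC⟩).asIdeal :=
    congrArg PrimeSpectrum.asIdeal (IsAffineOpen.comap_primeIdealOf_appLE (f := i) C hC (i' ⁻¹ᵁ C') hD' heq.ge huC')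
  have hc' : 𝔯.comap ψ'.toRingHom = (hC'.primeIdealOf ⟨i' u, huC'⟩).asIdeal :=
    congrArg PrimeSpectrum.asIdeal (IsAffineOpen.comap_primeIdealOf_appLE (f := i') C' hC' (i' ⁻¹ᵁ C') hD' le_rfl huC')
  have h2 := kReg_transfer ψ ψ' hψ.1 hψ' 𝔯 (by rw [hc, hψ.2]; exact h1')
  rw [hc'] at h2
  convert h2 using 2
  show (i'.app C').hom = (i'.appLE C' (i' ⁻¹ᵁ C') le_rfl).hom
  rw [← Scheme.Hom.app_eq_appLE]

end Groth.Agent.KRegLib
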