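import Mathlib
import Groth.Agent.KRegLib.Perm
import Groth.Agent.Synt29.PdAt
import Groth.Agent.RegLoc6.Serre
import Groth.Prelude.Def_MoreMor

/-!
# Permanence of local complete intersection morphisms
-/

set_option autoImplicit false
set_option linter.style.haveILetI false
set_option backward.isDefEq.respectTransparency.types false

universe u

open AlgebraicGeometry CategoryTheory
open Groth.Agent.RegLoc6 (PdLE)

namespace Groth.Agent.KRegLib

/-- The projective dimension hypothesis of permanence on affine charts. -/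
def FinPdCharts {X Y : Scheme.{u}} (f : X ⟶ Y) : Prop :=
  ∀ (U : X.Opens) (V : Y.Opens), IsAffineOpen U → IsAffineOpen V → ∀ e : U ≤ f ⁻¹ᵁ V,
    letI := (f.appLE V U e).hom.toAlgebra
    ∀ (m : ℕ) (ψ : MvPolynomial (Fin m) Γ(Y, V) →ₐ[Γ(Y, V)] Γ(X, U)), Function.Surjective ψ →
      ∀ (Q : Ideal (MvPolynomial (Fin m) Γ(Y, V))) [Q.IsPrime], ∃ D, PdLE (Localization.AtPrime Q) D
        (Localization.AtPrime Q ⧸ (RingHom.ker ψ.toRingHom).map
          (algebraMap (MvPolynomial (Fin m) Γ(Y, V)) (Localization.AtPrime Q)))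

theorem finPdCharts_of_regular {X Y : Scheme.{u}} (f : X ⟶ Y) [IsLocallyNoetherian Y]
    (hY : ∀ y : Y, IsRegularLocalRing ↑(Y.presheaf.stalk y)) : FinPdCharts f := by
  intro U V _ hV e m ψ _ Q _
  haveI := isRegularRing_sections hY hV
  exact ⟨_, RegLoc6.pdLE_of_isRegularLocalRing (Localization.AtPrime Q) _⟩

theorem finPdCharts_of_perfect {X Y : Scheme.{u}} (f : X ⟶ Y) [IsLocallyNoetherian Y]
    (hf : MoreMor.IsPerfectMor f) : FinPdCharts f := by
  intro U V hU hV e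
  letI := (f.appLE V U e).hom.toAlgebra
  intro m ψ hψ Q _
  obtain ⟨d, hd⟩ := (hf U V hU hV e).2
  haveI : IsNoetherianRing Γ(Y, V) := IsLocallyNoetherian.component_noetherian ⟨V, hV⟩
  obtain ⟨D, hD⟩ := Synt29.exists_pdLE_ker_map ψ hψ hd Q
  refine ⟨D + 1, RegLoc6.pdLE_succ_of_ker (Submodule.mkQ _) (Submodule.mkQ_surjective _) ?_
    (RegLoc6.pdLE_of_projective _)⟩
  exact RegLoc6.pdLE_of_equiv (LinearEquiv.ofEq _ _ (Submodule.ker_mkQ _).symm) hD

/-- Permanence of Koszul morphisms under finite projective dimension. -/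
theorem isKoszulAt_of_comp {X Y S : Scheme.{u}} (f : X ⟶ Y) (g : Y ⟶ S) [IsLocallyNoetherian S]
    [LocallyOfFiniteType g] (hf : FinPdCharts f) (h : ∀ x : X, Synt.IsKoszulAt (f ≫ g) x) (x : X) :
    Synt.IsKoszulAt f x ∧ Synt.IsKoszulAt g (f x) := by
  have hL := (forall_isKoszulAt_iff (f ≫ g)).1 h
  rw [HasRingHomProperty.iff_appLE (P := IsLCI'.{u})] at hL
  haveI : LocallyOfFiniteType (f ≫ g) := by
    rw [HasRingHomProperty.iff_appLE (P := @LocallyOfFiniteType)]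
    intro V U e
    exact (hL V U e).1
  haveI : LocallyOfFiniteType f := locallyOfFiniteType_of_comp f g
  obtain ⟨W, hW, hxW, -⟩ := exists_isAffineOpen_mem_and_subset (U := ⊤) (x := g (f x)) trivial
  obtain ⟨V, hV, hxV, hVW⟩ := exists_isAffineOpen_mem_and_subset (U := g ⁻¹ᵁ W) (x := f x) hxW
  obtain ⟨U, hU, hxU, hUV⟩ := exists_isAffineOpen_mem_and_subset (U := f ⁻¹ᵁ V) (x := x) hxV
  letI : Algebra Γ(S, W) Γ(Y, V) := (g.appLE W V hVW).hom.toAlgebra
  haveI : Algebra.FiniteType Γ(S, W) Γ(Y, V) := g.finiteType_appLE hW hV hVW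
  letI : Algebra Γ(Y, V) Γ(X, U) := (f.appLE V U hUV).hom.toAlgebra
  haveI : Algebra.FiniteType Γ(Y, V) Γ(X, U) := f.finiteType_appLE hV hU hUV
  have e : U ≤ (f ≫ g) ⁻¹ᵁ W := fun y hy => hVW (hUV hy)
  letI : Algebra Γ(S, W) Γ(X, U) := ((f ≫ g).appLE W U e).hom.toAlgebra
  haveI : IsScalarTower Γ(S, W) Γ(Y, V) Γ(X, U) := IsScalarTower.of_algebraMap_eq' (by
    show ((f ≫ g).appLE W U e).hom = (f.appLE V U hUV).hom.comp (g.appLE W V hVW).hom
    rw [← CommRingCat.hom_comp, Scheme.Hom.appLE_comp_appLE])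
  haveI : IsNoetherianRing Γ(S, W) := IsLocallyNoetherian.component_noetherian ⟨W, hW⟩
  obtain ⟨n, α, hα⟩ :=
    Algebra.FiniteType.iff_quotient_mvPolynomial''.1 (inferInstance : Algebra.FiniteType Γ(S, W) Γ(Y, V))
  obtain ⟨m, ψ, hψ⟩ :=
    Algebra.FiniteType.iff_quotient_mvPolynomial''.1 (inferInstance : Algebra.FiniteType Γ(Y, V) Γ(X, U))
  let 𝔮 := (hU.primeIdealOf ⟨x, hxU⟩).asIdeal
  obtain ⟨D, hD⟩ := hf U V hU hV hUV m ψ hψ (𝔮.comap ψ.toRingHom)
  obtain ⟨h1, h2⟩ := kReg_of_isLCI_comp (hL ⟨W, hW⟩ ⟨U, hU⟩ e) α hα ψ hψ 𝔮 hD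
  refine ⟨?_, ?_⟩
  · haveI : Algebra.Smooth Γ(Y, V) (MvPolynomial (Fin m) Γ(Y, V)) := ⟨inferInstance, inferInstance⟩
    exact isKoszulAt_of_kReg f hU hV hUV x hxU ψ.toRingHom ψ.comp_algebraMap hψ h2
  · haveI : Algebra.Smooth Γ(S, W) (MvPolynomial (Fin n) Γ(S, W)) := ⟨inferInstance, inferInstance⟩
    refine isKoszulAt_of_kReg g hV hW hVW (f x) hxV α.toRingHom α.comp_algebraMap hα ?_
    rw [← congrArg PrimeSpectrum.asIdeal (IsAffineOpen.comap_primeIdealOf_appLE (f := f) V hV U hU hUV hxU)]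
    exact h1

end Groth.Agent.KRegLib
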